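import Cfsg.Agent.PairSolv.AbelianBasics

/-!
# Abelian `P`: a nonprincipal member of the principal block trivial on an element of order `p`
-/

set_option autoImplicit false
set_option linter.unusedSectionVars false
set_option linter.style.haveILetI false
set_option maxHeartbeats 1000000

namespace CfsgLib.PairSolv

open Finset CfsgLib.Block CfsgLib.Block.Chr CfsgLib.Char CfsgLib.SectionCount
open scoped ComplexConjugate
open scoped Classical

universe u

variable {G : Type u} [Group G] [Fintype G] {p : ℕ} [Fact p.Prime] {P : Sylow p G}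
  [Fintype (NQ P)] {M : Ideal Cfsg.AlgInt} [M.IsPrime] [Fintype (Cfsg.IrrCharacter G)]

/-- What is to be found. -/
def Found (P : Sylow p G) (M : Ideal Cfsg.AlgInt) : Prop :=
  ∃ χ : Cfsg.IrrCharacter G, χ ∈ Cfsg.principalBlock M G ∧ χ ≠ oneIrr G ∧
    ∃ x ∈ (P : Subgroup G), orderOf x = p ∧ (∀ v ∈ (P : Subgroup G), v * x = x * v) ∧
      (χ : G → ℂ) x = (χ : G → ℂ) 1

namespace Hyp

variable (H : Hyp P) (hM : Cfsg.IsPModular p M) (hab : ∀ u v : ↥(P : Subgroup G), u * v = v * u)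
include H hM hab

/-- Without a constant nonprincipal member, a linear character is found. -/
theorem found_of_no_const
    (hno : ∀ χ ∈ B0 G M, χ ≠ oneIrr G → ∃ u v : ↥(P : Subgroup G), u ≠ 1 ∧ v ≠ 1 ∧
      (χ : G → ℂ) u ≠ (χ : G → ℂ) v) : Found P M := by
  obtain ⟨χ₁, hχ₁, hχ₁ne⟩ := H.exists_ne_one hM
  obtain ⟨u₁, v₁, hu₁, hv₁, hne₁⟩ := hno χ₁ hχ₁ hχ₁ne
  obtain ⟨x, hx, hxo, hxc⟩ := H.exists_central
  have hx1 := ne_one_of_orderOf hxo
  have hexc : (exc P).Nonempty := by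
    rw [nonempty_iff_ne_empty]
    intro h0
    have := H.exc_count hab
    rw [h0, card_empty, mul_zero, zero_add] at this
    exact H.ne_bot (Subgroup.eq_bot_of_card_eq _ this.symm)
  obtain ⟨φ₀, hφ₀⟩ := hexc
  have h2 : 1 < (exc P).card := by
    by_contra h
    refine hne₁ (H.const_of_inner hM hab hχ₁ hφ₀ (fun φ hφ => ?_) hu₁ hv₁)
    rw [Finset.card_le_one.1 (not_lt.1 h) φ hφ φ₀ hφ₀, sub_self,
      show tau P (0 : NQ P → ℂ) = 0 by
        funext g
        show ext P (fun _ => (0 : ℂ)) g = 0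
        simp only [ext]
        split_ifs <;> rfl]
    simp [Cfsg.classInner]
  obtain ⟨ε, μ, -, hμ, hinj, hdeg, hinner, -⟩ := H.exists_family hM hab h2
  have hB : B0 G M = insert (oneIrr G) ((exc P).image μ) := by
    refine Subset.antisymm (fun χ hχ => ?_) (insert_subset
      (mem_filter.2 ⟨mem_univ _, oneIrr_mem_principalBlock⟩) fun χ hχ => ?_)
    · by_cases h1 : χ = oneIrr G
      · exact mem_insert.2 (Or.inl h1)
      refine mem_insert.2 (Or.inr (by_contra fun hn => ?_))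
      obtain ⟨u, v, hu, hv, hne⟩ := hno χ hχ h1
      refine hne (H.const_of_inner hM hab hχ hφ₀ (fun φ hφ => ?_) hu hv)
      rw [hinner φ hφ φ₀ hφ₀ χ, if_neg fun e => hn (mem_image.2 ⟨φ, hφ, e⟩),
        if_neg fun e => hn (mem_image.2 ⟨φ₀, hφ₀, e⟩), sub_self, mul_zero]
    · obtain ⟨φ, hφ, rfl⟩ := mem_image.1 hχ
      exact (hμ φ hφ).1
  -- the common degree is one
  obtain ⟨D, hD0, hD⟩ := IsIrrCharacter.exists_degree (μ φ₀).2
  have horth := H.orth_one hM hx hx1
  rw [hB, sum_insert (fun h => by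
    obtain ⟨φ, hφ, e⟩ := mem_image.1 h
    exact (hμ φ hφ).2 e), sum_image hinj, sum_congr rfl fun φ hφ => by
      rw [hdeg φ hφ φ₀ hφ₀, hD], ← mul_sum] at horth
  simp only [oneIrr_apply, map_one, mul_one] at horth
  set S := ∑ φ ∈ exc P, conj ((μ φ : G → ℂ) x) with hS
  have hSint : IsIntegral ℤ S := by
    refine IsIntegral.sum _ fun φ _ => ?_
    exact (IsCharacter.isIntegral (isCharacter_irr (μ φ)) x).map (starRingEnd ℂ).toIntAlgHom
  have hS' : S = ((-1 / D : ℚ) : ℂ) := by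
    have hD0' : (D : ℂ) ≠ 0 := Nat.cast_ne_zero.2 (by omega)
    push_cast
    rw [eq_div_iff hD0']
    linear_combination horth
  obtain ⟨k, hk⟩ := exists_int_of_isIntegral_ratCast (hS' ▸ hSint)
  have hDk : (D : ℤ) * k = -1 := by
    have h' : ((D : ℚ) * k) = -1 := by
      rw [← show (-1 / D : ℚ) = (k : ℚ) from by exact_mod_cast hk]
      have : (D : ℚ) ≠ 0 := Nat.cast_ne_zero.2 (by omega)
      field_simp
    exact_mod_cast h'
  have hD1 : D = 1 := by
    have h' := congrArg Int.natAbs hDk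
    rw [Int.natAbs_mul, Int.natAbs_natCast] at h'
    exact Nat.eq_one_of_mul_eq_one_right h'
  refine ⟨μ φ₀, (mem_filter.1 (hμ φ₀ hφ₀).1).2, (hμ φ₀ hφ₀).2, x, hx, hxo, hxc, ?_⟩
  -- a linear character is trivial on `P`
  obtain ⟨n, σ, -, hσ⟩ := (μ φ₀).2
  have hn1 : n = 1 := by
    have h1 : ((μ φ₀) : G → ℂ) 1 = (n : ℂ) := by rw [← hσ, Representation.char_one, Module.finrank_fin_fun]
    rw [hD, hD1] at h1
    exact_mod_cast h1.symm
  subst hn1
  have hcom : ∀ f g : Module.End ℂ (Fin 1 → ℂ), f * g = g * f := by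
    have hsc : ∀ f : Module.End ℂ (Fin 1 → ℂ), ∀ v, f v = f (fun _ => 1) 0 • v := by
      intro f v
      have hv : v = v 0 • (fun _ => (1 : ℂ)) := by
        funext i; rw [Subsingleton.elim i 0]; simp
      funext i
      rw [Subsingleton.elim i 0]
      conv_lhs => rw [hv, map_smul]
      simp [mul_comm]
    intro f g
    refine LinearMap.ext fun v => ?_
    simp only [Module.End.mul_apply]
    rw [hsc f (g v), hsc g v, hsc g (f v), hsc f v, smul_smul, smul_smul, mul_comm]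
  obtain ⟨l, hl⟩ : ∃ l, l ∉ Ker P := by
    by_contra hh
    push Not at hh
    exact H.ker_ne_top (eq_top_iff.2 fun l _ => hh l)
  obtain ⟨m, rfl⟩ := QuotientGroup.mk'_surjective _ l
  have hPn : ∀ w : ↥(P : Subgroup G), (m : G) * w * (m : G)⁻¹ ∈ (P : Subgroup G) := fun w =>
    (Subgroup.mem_normalizer_iff.1 m.2 _).1 w.2
  have hinjf : Function.Injective fun w : ↥(P : Subgroup G) => w⁻¹ * ⟨_, hPn w⟩ := by
    intro a b h
    have h' : (a : G)⁻¹ * ((m : G) * a * (m : G)⁻¹) = (b : G)⁻¹ * ((m : G) * b * (m : G)⁻¹) :=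
      congrArg Subtype.val h
    set w := b⁻¹ * a with hw
    have hwfix : (m : G) * w * (m : G)⁻¹ = w := by
      have hc1 : ((b : G) * (a : G)⁻¹) = (a : G)⁻¹ * b := congrArg Subtype.val (hab b a⁻¹)
      have hc2 : ((b : G)⁻¹ * a) = (a : G) * (b : G)⁻¹ := congrArg Subtype.val (hab b⁻¹ a)
      simp only [hw, Subgroup.coe_mul, Subgroup.coe_inv]
      calc (m : G) * ((b : G)⁻¹ * a) * (m : G)⁻¹
          = ((m : G) * b * (m : G)⁻¹)⁻¹ * ((m : G) * a * (m : G)⁻¹) := by group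
        _ = ((m : G) * b * (m : G)⁻¹)⁻¹ * ((a : G) * ((a : G)⁻¹ * ((m : G) * a * (m : G)⁻¹))) := by group
        _ = ((m : G) * b * (m : G)⁻¹)⁻¹ * ((a : G) * (b : G)⁻¹) * ((m : G) * b * (m : G)⁻¹) := by
          rw [h']; group
        _ = (a : G) * (b : G)⁻¹ := by
          have hcm := congrArg Subtype.val (hab (⟨_, hPn b⟩ : ↥(P : Subgroup G))⁻¹ (a * b⁻¹))
          simp only [Subgroup.coe_mul, Subgroup.coe_inv] at hcm
          rw [hcm, inv_mul_cancel_right]
        _ = (b : G)⁻¹ * a := hc2.symm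
    by_contra hab'
    have hw1 : emb P w ≠ 1 := fun e => hab' (inv_mul_eq_one.1
      (hw ▸ emb_injective (show emb P w = emb P 1 by rw [e, map_one]))).symm
    refine hl (H.ker_cent _ ⟨w, rfl⟩ hw1 (Subgroup.mem_centralizer_singleton_iff.2 ?_))
    have e := emb_conj m w
    rw [show (⟨(m : G) * w * (m : G)⁻¹, hPn w⟩ : ↥(P : Subgroup G)) = w from Subtype.ext hwfix] at e
    exact (eq_mul_inv_iff_mul_eq.1 e).symm
  obtain ⟨w, hw⟩ := (Finite.injective_iff_surjective.1 hinjf) ⟨x, hx⟩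
  have hw' : (w : G)⁻¹ * ((m : G) * w * (m : G)⁻¹) = x := congrArg Subtype.val hw
  rw [← hσ, ← hw', Representation.character, Representation.character, map_mul σ, map_mul σ, map_mul σ, map_one σ]
  congr 1
  rw [hcom (σ (m : G)) (σ (w : G)), mul_assoc (σ (w : G)), ← map_mul σ (m : G), mul_inv_cancel, map_one σ,
    mul_one, ← map_mul σ, inv_mul_cancel, map_one σ]

/-- Two classes of elements of order `p`. -/
theorem found_of_two_classes {η : Cfsg.IrrCharacter G} (hη : η ∈ Cfsg.principalBlock M G) (hη1 : η ≠ oneIrr G)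
    (hc : ∀ u v : ↥(P : Subgroup G), u ≠ 1 → v ≠ 1 → (η : G → ℂ) u = (η : G → ℂ) v)
    {x y : G} (hx : x ∈ (P : Subgroup G)) (hxo : orderOf x = p) (hy : y ∈ (P : Subgroup G))
    (hyo : orderOf y = p) (hne : ¬ IsConj y x⁻¹) : Found P M := by
  have hne' : ∀ π ∈ (P : Subgroup G), IsConj y π → x * π ≠ 1 := fun π _ hπ h =>
    hne ((eq_inv_of_mul_eq_one_right h) ▸ hπ)
  refine ⟨η, hη, hη1, x, hx, hxo, H.central_of_abelian hM hab hx,
    H.apply_eq_degree hM hη hx hxo (H.central_of_abelian hM hab hx) hyo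
      (hc ⟨y, hy⟩ ⟨x, hx⟩ (fun h => ne_one_of_orderOf hyo (congrArg Subtype.val h))
        fun h => ne_one_of_orderOf hxo (congrArg Subtype.val h)) hne' fun π hπ hyπ => ?_⟩
  exact hc ⟨_, mul_mem hx hπ⟩ ⟨x, hx⟩ (fun h => hne' π hπ hyπ (congrArg Subtype.val h))
    fun h => ne_one_of_orderOf hxo (congrArg Subtype.val h)

end Hyp

end CfsgLib.PairSolv
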