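import Cfsg.Agent.PairSolv.Frob

/-!
# Abelian `P`: exceptional characters of the principal block
-/

set_option autoImplicit false
set_option linter.unusedSectionVars false
set_option linter.style.haveILetI false

namespace CfsgLib.PairSolv

open Finset CfsgLib.Block CfsgLib.Block.Chr CfsgLib.Char
open scoped ComplexConjugate
open scoped Classical

universe u

variable {G : Type u} [Group G] [Fintype G] {p : ℕ} [Fact p.Prime] {P : Sylow p G}
  [Fintype (NQ P)] {M : Ideal Cfsg.AlgInt} [M.IsPrime] [Fintype (Cfsg.IrrCharacter G)]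

theorem ext_sub (F F' : ↥(P : Subgroup G) → ℂ) : ext P (F - F') = ext P F - ext P F' := by
  funext g
  simp only [ext, Pi.sub_apply]
  split_ifs <;> simp

namespace Hyp

variable (H : Hyp P)
include H

theorem inner_tau (hM : Cfsg.IsPModular p M) {α : NQ P → ℂ} (hα : Cfsg.IsClassFunction (NQ P) α)
    (χ : Cfsg.IrrCharacter G) :
    (Nat.card (NQ P) : ℂ) * Cfsg.classInner (tau P α) (χ : G → ℂ) =
      if χ ∈ Cfsg.principalBlock M G then ∑ u ∈ sharp P, α (emb P u) * conj ((χ : G → ℂ) u) else 0 :=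
  H.inner_ext_irr hM (H.inv_of_classFunction hα) χ

/-- The inner product with the trivial character. -/
theorem inner_tau_one (hM : Cfsg.IsPModular p M) {φ ψ : NQ P → ℂ} (hφ : φ ∈ exc P) (hψ : ψ ∈ exc P)
    (h1 : φ 1 = ψ 1) : Cfsg.classInner (tau P (φ - ψ)) ((oneIrr G : Cfsg.IrrCharacter G) : G → ℂ) = 0 := by
  have h := H.inner_tau hM (α := φ - ψ) (fun l g => by
    simp only [Pi.sub_apply, IsIrrCharacter.isClassFunction (H.exc_irr hφ) l g,
      IsIrrCharacter.isClassFunction (H.exc_irr hψ) l g]) (oneIrr G)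
  rw [if_pos oneIrr_mem_principalBlock] at h
  simp only [Pi.sub_apply, oneIrr_apply, map_one, mul_one, sum_sub_distrib, H.exc_sum hφ, H.exc_sum hψ,
    h1, sub_self] at h
  exact (mul_eq_zero.1 h).resolve_left (Nat.cast_ne_zero.2 Nat.card_pos.ne')

/-- At least two nonprincipal members. -/
theorem exists_ne_one (hM : Cfsg.IsPModular p M) :
    ∃ χ ∈ B0 G M, χ ≠ oneIrr G := by
  by_contra hh
  push Not at hh
  obtain ⟨x, hx, hxo, hxc⟩ := H.exists_central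
  have hx1 : x ≠ 1 := fun h => (Fact.out : p.Prime).ne_one (by rw [← hxo, h, orderOf_one])
  have hg := H.gram_central hM hx hx1 hxc
  rw [show B0 G M = {oneIrr G} from eq_singleton_iff_unique_mem.2
    ⟨mem_filter.2 ⟨mem_univ _, oneIrr_mem_principalBlock⟩, hh⟩, sum_singleton, oneIrr_apply,
    map_one, one_mul, eq_comm, Nat.cast_eq_one] at hg
  exact H.ne_bot (Subgroup.eq_bot_of_card_eq _ hg)

variable (hM : Cfsg.IsPModular p M) (hab : ∀ u v : ↥(P : Subgroup G), u * v = v * u)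
include hM hab

theorem central_of_abelian {x : G} (hx : x ∈ (P : Subgroup G)) :
    ∀ v ∈ (P : Subgroup G), v * x = x * v := fun v hv =>
  congrArg Subtype.val (hab ⟨v, hv⟩ ⟨x, hx⟩)

/-- A coherent family: signed members of the principal block. -/
theorem exists_family (h2 : 1 < (exc P).card) :
    ∃ (ε : ℂ) (μ : (NQ P → ℂ) → Cfsg.IrrCharacter G), (ε = 1 ∨ ε = -1) ∧
      (∀ φ ∈ exc P, μ φ ∈ B0 G M ∧ μ φ ≠ oneIrr G) ∧
      (∀ φ ∈ exc P, ∀ ψ ∈ exc P, μ φ = μ ψ → φ = ψ) ∧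
      (∀ φ ∈ exc P, ∀ ψ ∈ exc P, (μ φ : G → ℂ) 1 = (μ ψ : G → ℂ) 1) ∧
      (∀ φ ∈ exc P, ∀ ψ ∈ exc P, ∀ χ : Cfsg.IrrCharacter G,
        Cfsg.classInner (tau P (φ - ψ)) (χ : G → ℂ) =
          ε * ((if μ φ = χ then 1 else 0) - if μ ψ = χ then 1 else 0)) ∧
      ∀ φ ∈ exc P, ∀ ψ ∈ exc P, tau P (φ - ψ) = ε • ((μ φ : G → ℂ) - (μ ψ : G → ℂ)) := by
  obtain ⟨hiso, hτ1⟩ := H.tau_isometry (↑(exc P) : Set (NQ P → ℂ))
    (fun φ hφ => IsIrrCharacter.isGeneralized (H.exc_irr hφ)) fun φ hφ => H.exc_off hφ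
  obtain ⟨φ₀, hφ₀, φ₁, hφ₁, hne⟩ := Finset.one_lt_card.1 h2
  have hdiff : ∀ φ ∈ exc P, ∀ ψ ∈ exc P, φ - ψ ∈ Cfsg.zspanOn (↑(exc P) : Set (NQ P → ℂ)) ({1}ᶜ : Set (NQ P)) :=
    fun φ hφ ψ hψ => mem_zspanOn_one.2 ⟨Submodule.sub_mem _ (subset_zspan hφ) (subset_zspan hψ), by
      rw [Pi.sub_apply, H.exc_degree hab hφ, H.exc_degree hab hψ, sub_self]⟩
  obtain ⟨ε, hε, μ, hμ, hμi, he⟩ := exists_sign_family (ι := {φ // φ ∈ exc P}) ⟨φ₀, hφ₀⟩
    (τ := fun φ => tau P (φ.1 - φ₀))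
    (by
      show tau P (φ₀ - φ₀) = 0
      rw [sub_self]
      exact isometry_map_zero (M := zspanOnSub (↑(exc P) : Set (NQ P → ℂ)) ({1}ᶜ : Set (NQ P))) hiso)
    (fun φ => hiso.2.2.2 _ (hdiff φ.1 φ.2 φ₀ hφ₀)) (fun φ => hτ1 _ (hdiff φ.1 φ.2 φ₀ hφ₀))
    (fun i j hi hj => by
      have hi' : i.1 ≠ φ₀ := fun h => hi (Subtype.ext h)
      have hj' : j.1 ≠ φ₀ := fun h => hj (Subtype.ext h)
      rw [hiso.2.2.1 _ (hdiff i.1 i.2 φ₀ hφ₀) _ (hdiff j.1 j.2 φ₀ hφ₀), classInner_sub_left, classInner_sub_right,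
        classInner_sub_right, IsIrrCharacter.classInner_eq (H.exc_irr i.2) (H.exc_irr j.2),
        IsIrrCharacter.classInner_of_ne (H.exc_irr i.2) (H.exc_irr hφ₀) hi',
        IsIrrCharacter.classInner_of_ne (H.exc_irr hφ₀) (H.exc_irr j.2) (Ne.symm hj'),
        IsIrrCharacter.classInner_self (H.exc_irr hφ₀)]
      by_cases h : i = j
      · rw [if_pos h, if_pos (congrArg Subtype.val h)]; norm_num
      · rw [if_neg h, if_neg fun h' => h (Subtype.ext h')]; ring)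
  let ν : (NQ P → ℂ) → Cfsg.IrrCharacter G := fun φ =>
    if h : φ ∈ exc P then ⟨μ ⟨φ, h⟩, hμ _⟩ else oneIrr G
  have hν : ∀ φ (h : φ ∈ exc P), (ν φ : G → ℂ) = μ ⟨φ, h⟩ := fun φ h => by simp only [ν, dif_pos h]
  have htau : ∀ φ ∈ exc P, ∀ ψ ∈ exc P,
      tau P (φ - ψ) = ε • ((ν φ : G → ℂ) - (ν ψ : G → ℂ)) := by
    intro φ hφ ψ hψ
    have e : tau P (φ - ψ) = tau P (φ - φ₀) - tau P (ψ - φ₀) := by
      rw [tau, tau, tau, ← ext_sub]
      congr 1
      funext u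
      simp
    rw [e, show tau P (φ - φ₀) = _ from he ⟨φ, hφ⟩, show tau P (ψ - φ₀) = _ from he ⟨ψ, hψ⟩, hν φ hφ, hν ψ hψ]
    rcases hε with rfl | rfl <;> simp
  have hinner : ∀ φ ∈ exc P, ∀ ψ ∈ exc P, ∀ χ : Cfsg.IrrCharacter G,
      Cfsg.classInner (tau P (φ - ψ)) (χ : G → ℂ) =
        ε * ((if ν φ = χ then 1 else 0) - if ν ψ = χ then 1 else 0) := by
    intro φ hφ ψ hψ χ
    rw [htau φ hφ ψ hψ, classInner_smul_left, classInner_sub_left, CfsgLib.Block.Chr.classInner_irr,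
      CfsgLib.Block.Chr.classInner_irr]
  have hεne : ε ≠ 0 := by rcases hε with rfl | rfl <;> simp
  have hinj : ∀ φ ∈ exc P, ∀ ψ ∈ exc P, ν φ = ν ψ → φ = ψ := fun φ hφ ψ hψ h =>
    congrArg Subtype.val (hμi (show μ ⟨φ, hφ⟩ = μ ⟨ψ, hψ⟩ by rw [← hν φ hφ, ← hν ψ hψ, h]))
  refine ⟨ε, ν, hε, fun φ hφ => ?_, hinj, fun φ hφ ψ hψ => ?_, hinner, htau⟩
  · obtain ⟨ψ, hψ, hψne⟩ : ∃ ψ ∈ exc P, ψ ≠ φ := by
      by_cases h : φ = φ₀
      · exact ⟨φ₁, hφ₁, fun e => hne (h.symm.trans e.symm)⟩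
      · exact ⟨φ₀, hφ₀, Ne.symm h⟩
    have hI := hinner φ hφ ψ hψ (ν φ)
    rw [if_pos rfl, if_neg fun h => hψne (hinj ψ hψ φ hφ h), sub_zero, mul_one] at hI
    refine ⟨?_, fun h1 => ?_⟩
    · by_contra hn
      have h := H.inner_tau hM (α := φ - ψ) (fun l g => by
        simp only [Pi.sub_apply, IsIrrCharacter.isClassFunction (H.exc_irr hφ) l g,
          IsIrrCharacter.isClassFunction (H.exc_irr hψ) l g]) (ν φ)
      rw [if_neg fun hm => hn (mem_filter.2 ⟨mem_univ _, hm⟩), hI] at h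
      exact hεne ((mul_eq_zero.1 h).resolve_left (Nat.cast_ne_zero.2 Nat.card_pos.ne'))
    · rw [h1, H.inner_tau_one hM hφ hψ (by rw [H.exc_degree hab hφ, H.exc_degree hab hψ])] at hI
      exact hεne hI.symm
  · have h := hτ1 _ (hdiff φ hφ ψ hψ)
    rw [htau φ hφ ψ hψ, Pi.smul_apply, Pi.sub_apply, smul_eq_mul, mul_eq_zero, sub_eq_zero] at h
    exact h.resolve_left hεne

/-- A member of the block orthogonal to all the differences is constant. -/
theorem const_of_inner {χ : Cfsg.IrrCharacter G} (hχ : χ ∈ B0 G M) {φ₀ : NQ P → ℂ} (hφ₀ : φ₀ ∈ exc P)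
    (h : ∀ φ ∈ exc P, Cfsg.classInner (tau P (φ - φ₀)) (χ : G → ℂ) = 0)
    {u v : ↥(P : Subgroup G)} (hu : u ≠ 1) (hv : v ≠ 1) : (χ : G → ℂ) u = (χ : G → ℂ) v := by
  refine H.const_of_orth hab (r := fun w => (χ : G → ℂ) w) (fun a b hab' => ?_) hφ₀ (fun φ hφ => ?_) hu hv
  · exact CfsgLib.Char.IsClassFunction.apply_eq_of_isConj (isClassFunction_irr χ) hab'
  · have h' := H.inner_tau hM (α := φ - φ₀) (fun l g => by
      simp only [Pi.sub_apply, IsIrrCharacter.isClassFunction (H.exc_irr hφ) l g,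
        IsIrrCharacter.isClassFunction (H.exc_irr hφ₀) l g]) χ
    rw [if_pos (mem_filter.1 hχ).2, h φ hφ, mul_zero] at h'
    have := congrArg conj h'.symm
    rw [map_sum, map_zero] at this
    rw [← this]
    refine sum_congr rfl fun w _ => ?_
    simp only [Pi.sub_apply, map_mul, Complex.conj_conj, map_sub]
    ring

end Hyp

end CfsgLib.PairSolv
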