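import Cfsg.Agent.PairSolv.Homocyclic

/-!
# Abelian `P`: the character is found
-/

set_option autoImplicit false
set_option linter.unusedSectionVars false
set_option linter.style.haveILetI false

namespace CfsgLib.PairSolv

open Finset CfsgLib.Block CfsgLib.Block.Chr CfsgLib.Char CfsgLib.SectionCount
open scoped Classical

universe u

variable {G : Type u} [Group G] [Fintype G] {p : ℕ} [Fact p.Prime] {P : Sylow p G}
  [Fintype (NQ P)] {M : Ideal Cfsg.AlgInt} [M.IsPrime] [Fintype (Cfsg.IrrCharacter G)]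

namespace Hyp

/-- For odd `p` and abelian `P` a character is found. -/
theorem found_abelian (H : Hyp P) (hM : Cfsg.IsPModular p M)
    (hab : ∀ u v : ↥(P : Subgroup G), u * v = v * u) (hp2 : p ≠ 2) : Found P M := by
  by_cases hno : ∀ χ ∈ B0 G M, χ ≠ oneIrr G → ∃ u v : ↥(P : Subgroup G), u ≠ 1 ∧ v ≠ 1 ∧
      (χ : G → ℂ) u ≠ (χ : G → ℂ) v
  · exact H.found_of_no_const hM hab hno
  push Not at hno
  obtain ⟨η, hη, hη1, hc⟩ := hno
  by_cases htwo : ∃ x ∈ (P : Subgroup G), ∃ y ∈ (P : Subgroup G),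
      orderOf x = p ∧ orderOf y = p ∧ ¬ IsConj y x⁻¹
  · obtain ⟨x, hx, y, hy, hxo, hyo, hne⟩ := htwo
    exact H.found_of_two_classes hM hab (mem_filter.1 hη).2 hη1 hc hx hxo hy hyo hne
  push Not at htwo
  obtain ⟨x, hx, hxo, -⟩ := H.exists_central
  have hone : ∀ v ∈ (P : Subgroup G), orderOf v = p → IsConj x v := fun v hv hvo => by
    have h := htwo v⁻¹ (inv_mem hv) x hx (by rw [orderOf_inv, hvo]) hxo
    rwa [inv_inv] at h
  by_cases hel : ∀ v ∈ (P : Subgroup G), v ^ p = 1
  · exact H.found_of_elementary hM hab hp2 hx hxo hone hel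
  · push Not at hel
    obtain ⟨w, hw, hwp⟩ := hel
    exact H.found_of_exponent hab hM hp2 hx hxo hone hw hwp

end Hyp

end CfsgLib.PairSolv
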