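import Cfsg.Agent.PairSolv.Values

/-!
# The characters of the Frobenius quotient not trivial on the kernel, for abelian `P`
-/

set_option autoImplicit false
set_option linter.unusedSectionVars false
set_option linter.style.haveILetI false

namespace CfsgLib.PairSolv

open Finset CfsgLib.Block CfsgLib.Block.Chr CfsgLib.Char
open scoped ComplexConjugate
open scoped Classical

universe u

variable {G : Type u} [Group G] [Fintype G] {p : ℕ} [Fact p.Prime] {P : Sylow p G}
  [Fintype (NQ P)]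

/-- The characters of the quotient that are induced from the kernel. -/
noncomputable abbrev exc (P : Sylow p G) [Fintype (NQ P)] : Finset (NQ P → ℂ) := aboveInd (Ker P) ⊥

namespace Hyp

variable (H : Hyp P)
include H

theorem exc_irr {φ : NQ P → ℂ} (hφ : φ ∈ exc P) : Cfsg.IsIrrCharacter (NQ P) φ := by
  obtain ⟨θ, h1, h2, -, rfl⟩ := mem_aboveInd.1 hφ
  exact isIrrCharacter_indFun_of_centralizer_le H.ker_cent h1 h2

theorem exc_off {φ : NQ P → ℂ} (hφ : φ ∈ exc P) : ∀ l, l ∉ Ker P → φ l = 0 := by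
  obtain ⟨θ, -, -, -, rfl⟩ := mem_aboveInd.1 hφ
  exact fun l hl => indFun_eq_zero_of_normal θ hl

theorem exc_inner_one {φ : NQ P → ℂ} (hφ : φ ∈ exc P) :
    Cfsg.classInner φ (fun _ => 1) = 0 := by
  refine IsIrrCharacter.classInner_of_ne (H.exc_irr hφ) isIrrCharacter_one fun h => ?_
  obtain ⟨l, hl⟩ : ∃ l, l ∉ Ker P := by
    by_contra hh
    push Not at hh
    exact H.ker_ne_top (eq_top_iff.2 fun l _ => hh l)
  have h2 := congrFun h l
  rw [H.exc_off hφ l hl] at h2
  exact zero_ne_one h2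

/-- The sum over the nonidentity elements of `P`. -/
theorem exc_sum {φ : NQ P → ℂ} (hφ : φ ∈ exc P) : ∑ u ∈ sharp P, φ (emb P u) = -φ 1 := by
  have h := H.exc_inner_one hφ
  simp only [Cfsg.classInner, map_one, mul_one] at h
  have h0 : ∑ l, φ l = 0 :=
    (mul_eq_zero.1 h).resolve_left (inv_ne_zero (Nat.cast_ne_zero.2 Nat.card_pos.ne'))
  have he := H.sum_emb (f := fun l => if l = 1 then 0 else φ l)
    (fun l hl => by split_ifs; exacts [rfl, H.exc_off hφ l hl]) (if_pos rfl)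
  rw [sum_congr rfl fun u hu => if_neg (fun e => (mem_erase.1 hu).1 (emb_injective (by rw [e, map_one])))] at he
  rw [he, ← add_sum_erase _ _ (mem_univ (1 : NQ P)), if_pos rfl, zero_add,
    sum_congr rfl fun l hl => if_neg (mem_erase.1 hl).1]
  rw [← add_sum_erase _ _ (mem_univ (1 : NQ P))] at h0
  linear_combination h0

theorem exc_sum_sq {φ : NQ P → ℂ} (hφ : φ ∈ exc P) :
    ∑ u ∈ sharp P, φ (emb P u) * conj (φ (emb P u)) = (Nat.card (NQ P) : ℂ) - φ 1 * conj (φ 1) := by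
  have h := IsIrrCharacter.classInner_self (H.exc_irr hφ)
  rw [Cfsg.classInner, inv_mul_eq_one₀ (Nat.cast_ne_zero.2 Nat.card_pos.ne')] at h
  have he := H.sum_emb (f := fun l => if l = 1 then 0 else φ l * conj (φ l))
    (fun l hl => by split_ifs; exacts [rfl, by rw [H.exc_off hφ l hl, zero_mul]]) (if_pos rfl)
  rw [sum_congr rfl fun u hu => if_neg (fun e => (mem_erase.1 hu).1 (emb_injective (by rw [e, map_one])))] at he
  rw [he, ← add_sum_erase _ _ (mem_univ (1 : NQ P)), if_pos rfl, zero_add,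
    sum_congr rfl fun l hl => if_neg (mem_erase.1 hl).1, h, ← add_sum_erase _ _ (mem_univ (1 : NQ P))]
  ring

theorem irr_trivial_of_not_exc {ψ : NQ P → ℂ} (hψ : Cfsg.IsIrrCharacter (NQ P) ψ) (hn : ψ ∉ exc P) :
    ∀ k ∈ Ker P, ψ k = ψ 1 := by
  intro k hk
  by_contra hne
  obtain ⟨θ, h1, h2, rfl⟩ := exists_indFun_eq_of_centralizer_le H.ker_cent hψ ⟨k, hk, hne⟩
  exact hn (mem_aboveInd.2 ⟨θ, h1, h2, fun a ha => by rw [show a = 1 from Subtype.ext (Subgroup.mem_bot.1 ha)], rfl⟩)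

section Abelian

variable (hab : ∀ u v : ↥(P : Subgroup G), u * v = v * u)
include hab

theorem exc_degree {φ : NQ P → ℂ} (hφ : φ ∈ exc P) : φ 1 = ((Ker P).index : ℂ) := by
  obtain ⟨θ, h1, -, -, rfl⟩ := mem_aboveInd.1 hφ
  rw [indFun_one, IsIrrCharacter.apply_one_eq_one_of_commutators h1 fun a b => by
    congr 1
    obtain ⟨u, hu⟩ := a.2
    obtain ⟨v, hv⟩ := b.2
    refine Subtype.ext ?_
    push_cast
    rw [← hu, ← hv, ← map_inv, ← map_inv, ← map_mul, ← map_mul, ← map_mul, hab u v]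
    simp, mul_one]

theorem exc_count : (Ker P).index * (exc P).card + 1 = Nat.card (P : Subgroup G) := by
  have h := sum_weight_aboveInd (K := Ker P) (⊥ : Subgroup (NQ P))
  rw [Subgroup.relIndex_bot_left, sum_congr rfl fun φ hφ => show ((cdeg φ : ℝ) ^ 2 / (cnorm φ : ℝ)) =
      ((Ker P).index : ℝ) ^ 2 by
    have hd : cdeg φ = (Ker P).index := by
      rw [cdeg, H.exc_degree hab hφ, Complex.natCast_re, Nat.floor_natCast]
    have hn : cnorm φ = 1 := by
      rw [cnorm, IsIrrCharacter.classInner_self (H.exc_irr hφ)]; simp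
    rw [hd, hn, Nat.cast_one, div_one]] at h
  rw [sum_const, nsmul_eq_mul] at h
  have he : ((Ker P).index : ℝ) ≠ 0 := Nat.cast_ne_zero.2 (Ker P).index_ne_zero_of_finite
  rw [card_ker] at h
  have h' : (((Ker P).index * (exc P).card + 1 : ℕ) : ℝ) = (Nat.card (P : Subgroup G) : ℝ) := by
    push_cast
    refine mul_left_cancel₀ he ?_
    linear_combination h
  exact_mod_cast h'

/-- The sum of all these characters at a nonidentity element of the kernel. -/
theorem exc_total {u : ↥(P : Subgroup G)} (hu : u ≠ 1) : ∑ φ ∈ exc P, φ (emb P u) = -1 := by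
  have hu1 : emb P u ≠ 1 := fun h => hu (emb_injective (by rw [h, map_one]))
  have hsub : exc P ⊆ irrFinset (NQ P) := fun φ hφ => mem_irrFinset.2 (H.exc_irr hφ)
  have r1 := congrFun (leftRegular_eq_sum (G := NQ P)) 1
  have r2 := congrFun (leftRegular_eq_sum (G := NQ P)) (emb P u)
  rw [leftRegular_character, Finset.sum_apply] at r1 r2
  rw [if_pos rfl] at r1
  rw [if_neg hu1] at r2
  simp only [Pi.smul_apply, smul_eq_mul] at r1 r2
  have h : ∑ φ ∈ exc P, φ 1 * (φ 1 - φ (emb P u)) = (Nat.card (NQ P) : ℂ) := by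
    rw [Finset.sum_subset hsub fun φ hφ hn => by
      rw [H.irr_trivial_of_not_exc (mem_irrFinset.1 hφ) hn _ ⟨u, rfl⟩, sub_self, mul_zero]]
    simp only [mul_sub, Finset.sum_sub_distrib]
    rw [← r1, ← r2, sub_zero, Nat.card_eq_fintype_card]
  rw [sum_congr rfl fun φ hφ => by rw [H.exc_degree hab hφ], ← mul_sum, sum_sub_distrib, sum_const,
    nsmul_eq_mul, ← H.card_NQ, card_ker, ← H.exc_count hab] at h
  push_cast at h
  refine mul_left_cancel₀ (Nat.cast_ne_zero.2 (Ker P).index_ne_zero_of_finite : ((Ker P).index : ℂ) ≠ 0) ?_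
  linear_combination -h

/-- A function orthogonal to all the differences is constant away from one. -/
theorem const_of_orth {r : ↥(P : Subgroup G) → ℂ} (hr : Inv P r) {φ₀ : NQ P → ℂ} (hφ₀ : φ₀ ∈ exc P)
    (h : ∀ φ ∈ exc P, ∑ w ∈ sharp P, r w * conj (φ (emb P w) - φ₀ (emb P w)) = 0)
    {u v : ↥(P : Subgroup G)} (hu : u ≠ 1) (hv : v ≠ 1) : r u = r v := by
  let F : NQ P → ℂ := fun l => if hl : ∃ w, w ≠ 1 ∧ emb P w = l then r hl.choose else 0
  have hF : ∀ w, w ≠ 1 → F (emb P w) = r w := fun w hw => by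
    have hl : ∃ w', w' ≠ 1 ∧ emb P w' = emb P w := ⟨w, hw, rfl⟩
    simp only [F, dif_pos hl]
    rw [emb_injective hl.choose_spec.2]
  have hFc : Cfsg.IsClassFunction (NQ P) F := by
    intro l g
    by_cases hl : ∃ w, w ≠ 1 ∧ emb P w = l
    · obtain ⟨w, hw, rfl⟩ := hl
      obtain ⟨w', hw'⟩ : g * emb P w * g⁻¹ ∈ Ker P := ker_normal.conj_mem _ ⟨w, rfl⟩ g
      have hw1 : w' ≠ 1 := fun e => hw (emb_injective (by
        rw [e, map_one, eq_comm, conj_eq_one_iff] at hw'; rw [hw', map_one]))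
      rw [← hw', hF _ hw1, hF _ hw]
      exact (hr w w' ((H.emb_isConj_iff w w').1 (isConj_iff.2 ⟨g, hw'.symm⟩))).symm
    · have hl' : ¬ ∃ w, w ≠ 1 ∧ emb P w = g * l * g⁻¹ := by
        rintro ⟨w, hw, he⟩
        obtain ⟨w', hw'⟩ : g⁻¹ * emb P w * g⁻¹⁻¹ ∈ Ker P := ker_normal.conj_mem _ ⟨w, rfl⟩ g⁻¹
        refine hl ⟨w', fun e => hw (emb_injective ?_), ?_⟩
        · rw [e, map_one, eq_comm, conj_eq_one_iff] at hw'; rw [hw', map_one]
        · rw [hw', he]; group
      simp only [F, dif_neg hl, dif_neg hl']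
  have hF1 : F 1 = 0 := dif_neg fun ⟨w, hw, he⟩ => hw (emb_injective (by rw [he, map_one]))
  have hFoff : ∀ l, l ∉ Ker P → F l = 0 := fun l hl => dif_neg fun ⟨w, _, he⟩ => hl ⟨w, he⟩
  have horth : ∀ φ ∈ exc P, Cfsg.classInner F φ = Cfsg.classInner F φ₀ := by
    intro φ hφ
    rw [← sub_eq_zero, Cfsg.classInner, Cfsg.classInner, ← mul_sub, ← sum_sub_distrib]
    refine mul_eq_zero_of_right _ ?_
    rw [sum_congr rfl fun l _ => (mul_sub (F l) (conj (φ l)) (conj (φ₀ l))).symm,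
      ← H.sum_emb (f := fun l => F l * (conj (φ l) - conj (φ₀ l)))
        (fun l hl => by rw [hFoff l hl, zero_mul]) (by rw [hF1, zero_mul]),
      sum_congr rfl fun w hw => by rw [hF w (mem_erase.1 hw).1, ← map_sub]]
    exact h φ hφ
  have key : ∀ w, w ≠ 1 → r w = (∑ ψ ∈ irrFinset (NQ P) \ exc P, Cfsg.classInner F ψ * ψ 1) -
      Cfsg.classInner F φ₀ := by
    intro w hw
    rw [← hF w hw]
    have e := congrFun (eq_sum_irr hFc) (emb P w)
    simp only [Finset.sum_apply, Pi.smul_apply, smul_eq_mul] at e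
    rw [e, ← sum_sdiff (fun φ hφ => mem_irrFinset.2 (H.exc_irr hφ) : exc P ⊆ irrFinset (NQ P)),
      sum_congr rfl fun ψ hψ => by
        rw [H.irr_trivial_of_not_exc (mem_irrFinset.1 (mem_sdiff.1 hψ).1) (mem_sdiff.1 hψ).2 _ ⟨w, rfl⟩],
      sub_eq_add_neg]
    congr 1
    rw [sum_congr rfl fun φ hφ => by rw [horth φ hφ], ← mul_sum, H.exc_total hab hw, mul_neg_one]
  rw [key u hu, key v hv]

end Abelian

end Hyp

end CfsgLib.PairSolv
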