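import Cfsg.Agent.PairSolv.OneClass

/-!
# Abelian `P` of exponent above `p` with one class of elements of order `p`

The exceptional characters have values `e` and `-1` at `x` and degree `e`; the sum of the cubes
over the degrees forces the other members to be trivial on `P`.
-/

set_option autoImplicit false
set_option linter.unusedSectionVars false
set_option linter.style.haveILetI false
set_option maxHeartbeats 2000000

namespace CfsgLib.PairSolv

open Finset CfsgLib.Block CfsgLib.Block.Chr CfsgLib.Char CfsgLib.SectionCount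
open scoped ComplexConjugate
open scoped Classical

universe u

variable {G : Type u} [Group G] [Fintype G] {p : ℕ} [Fact p.Prime] {P : Sylow p G}

/-- The elements of exponent `p`. -/
noncomputable abbrev omegaSet (P : Sylow p G) : Finset ↥(P : Subgroup G) :=
  univ.filter fun v => v ^ p = 1

namespace Hyp

variable (H : Hyp P)
include H

variable (hab : ∀ u v : ↥(P : Subgroup G), u * v = v * u)
include hab

/-- The elements of order `p` form one class of the quotient. -/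
theorem omega_card [Fintype (NQ P)] {x : G} (hx : x ∈ (P : Subgroup G)) (hxo : orderOf x = p)
    (hone : ∀ v ∈ (P : Subgroup G), orderOf v = p → IsConj x v) :
    (omegaSet P).card = (Ker P).index + 1 := by
  have hp : p.Prime := Fact.out
  have hx1 : x ≠ 1 := ne_one_of_orderOf hxo
  have h1 : (1 : ↥(P : Subgroup G)) ∈ omegaSet P := mem_filter.2 ⟨mem_univ _, one_pow p⟩
  rw [← card_erase_add_one h1]
  congr 1
  have hcent : Subgroup.centralizer ({emb P ⟨x, hx⟩} : Set (NQ P)) = Ker P := by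
    refine le_antisymm (H.ker_cent _ ⟨_, rfl⟩ fun h => hx1 (congrArg Subtype.val
      (emb_injective (show emb P ⟨x, hx⟩ = emb P 1 by rw [h, map_one])))) ?_
    rintro _ ⟨v, rfl⟩
    rw [Subgroup.mem_centralizer_singleton_iff, ← map_mul, ← map_mul, hab]
  rw [← hcent, ← CfsgLib.Block.Chr.card_class]
  refine card_bij (fun v _ => emb P v) (fun v hv => ?_) (fun a _ b _ h => emb_injective h) fun l hl => ?_
  · obtain ⟨hv1, hv⟩ := mem_erase.1 hv
    refine mem_filter.2 ⟨mem_univ _, (H.emb_isConj_iff _ _).2 (hone v v.2 (orderOf_eq_prime ?_ ?_))⟩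
    · exact congrArg Subtype.val (mem_filter.1 hv).2
    · exact fun h => hv1 (Subtype.ext h)
  · obtain ⟨m, hm⟩ := isConj_iff.1 (mem_filter.1 hl).2
    obtain ⟨v, rfl⟩ : l ∈ Ker P := hm ▸ ker_normal.conj_mem _ ⟨_, rfl⟩ m
    obtain ⟨g, hg⟩ := isConj_iff.1 ((H.emb_isConj_iff _ v).1 (mem_filter.1 hl).2)
    have hvo : orderOf (v : G) = p := by
      rw [← hg]
      exact (orderOf_injective (MulAut.conj g).toMonoidHom (MulAut.conj g).injective x).trans hxo
    refine ⟨v, mem_erase.2 ⟨fun h => hp.ne_one (by rw [← hvo, h, OneMemClass.coe_one, orderOf_one]),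
      mem_filter.2 ⟨mem_univ _, Subtype.ext ?_⟩⟩, rfl⟩
    push_cast
    exact (congrArg ((v : G) ^ ·) hvo.symm).trans (pow_orderOf_eq_one _)

/-- With exponent above `p`, the square of the number of elements of exponent `p` bounds `|P|`. -/
theorem omega_sq_le [Fintype (NQ P)] {x w : G} (hx : x ∈ (P : Subgroup G)) (hxo : orderOf x = p)
    (hone : ∀ v ∈ (P : Subgroup G), orderOf v = p → IsConj x v) (hw : w ∈ (P : Subgroup G))
    (hwp : w ^ p ≠ 1) : ((Ker P).index + 1) ^ 2 ≤ Nat.card (P : Subgroup G) := by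
  have hp : p.Prime := Fact.out
  let f : ↥(P : Subgroup G) →* ↥(P : Subgroup G) :=
    { toFun := fun v => v ^ p
      map_one' := one_pow p
      map_mul' := fun a b => (show Commute a b from hab a b).mul_pow p }
  haveI : Fintype f.ker := Fintype.ofFinite _
  haveI : Fintype f.range := Fintype.ofFinite _
  have hker : Nat.card f.ker = (Ker P).index + 1 := by
    rw [← H.omega_card hab hx hxo hone, Nat.card_eq_fintype_card]
    exact Fintype.card_of_subtype _ (fun v => by simp [MonoidHom.mem_ker, f])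
  -- the image contains all elements of order `p`
  obtain ⟨z, hzr, hzo, -⟩ := exists_order_p (P := (P : Subgroup G) ⊓ (f.range.map (P : Subgroup G).subtype))
    (P.2.to_le inf_le_left) (u := w ^ p)
    ⟨Subgroup.pow_mem _ hw p, ⟨_, ⟨⟨w, hw⟩, rfl⟩, rfl⟩⟩ hwp
  have hsub : ∀ v : ↥(P : Subgroup G), v ∈ omegaSet P → v ∈ f.range := by
    intro v hv
    by_cases hv1 : v = 1
    · rw [hv1]; exact one_mem _
    have hvo : orderOf (v : G) = p :=
      orderOf_eq_prime (congrArg Subtype.val (mem_filter.1 hv).2) fun h => hv1 (Subtype.ext h)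
    obtain ⟨g, hg⟩ := isConj_iff.1 ((hone z hzr.1 hzo).symm.trans (hone v v.2 hvo))
    obtain ⟨n, hn, he⟩ := H.fusion z hzr.1 v v.2 ⟨g, hg⟩
    obtain ⟨_, ⟨q, rfl⟩, hq⟩ := hzr.2
    refine ⟨⟨n * q * n⁻¹, (Subgroup.mem_normalizer_iff.1 hn _).1 q.2⟩, Subtype.ext ?_⟩
    show (n * (q : G) * n⁻¹) ^ p = (v : G)
    rw [conj_pow, ← he, ← hq]
    rfl
  have hrange : (Ker P).index + 1 ≤ Nat.card f.range := by
    rw [← H.omega_card hab hx hxo hone, Nat.card_eq_fintype_card]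
    rw [← Fintype.card_coe]
    exact Fintype.card_le_of_injective (fun v => ⟨v.1, hsub v.1 v.2⟩)
      fun a b h => Subtype.ext (congrArg Subtype.val h :)
  rw [← f.ker.card_mul_index, Subgroup.index_ker, hker, pow_two]
  exact Nat.mul_le_mul_left _ hrange

variable {M : Ideal Cfsg.AlgInt} [M.IsPrime] [Fintype (Cfsg.IrrCharacter G)]
  (hM : Cfsg.IsPModular p M)
include hM

/-- One class of elements of order `p` and exponent above `p`. -/
theorem found_of_exponent [Fintype (NQ P)] (hp2 : p ≠ 2) {x w : G} (hx : x ∈ (P : Subgroup G))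
    (hxo : orderOf x = p) (hone : ∀ v ∈ (P : Subgroup G), orderOf v = p → IsConj x v)
    (hw : w ∈ (P : Subgroup G)) (hwp : w ^ p ≠ 1) : Found P M := by
  have hp : p.Prime := Fact.out
  by_contra hnf
  have hxc := H.central_of_abelian hM hab hx
  have hx1 : x ≠ 1 := ne_one_of_orderOf hxo
  set e := (Ker P).index with he
  have he1 : 1 < e := H.ker_index_gt
  set R := (exc P).card with hR
  have hcount : e * R + 1 = Nat.card (P : Subgroup G) := H.exc_count hab
  have hsq := H.omega_sq_le hab hx hxo hone hw hwp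
  have hRe : e + 2 ≤ R := by
    rw [← he, ← hcount] at hsq
    by_contra hlt
    nlinarith [Nat.mul_le_mul_left e (show R ≤ e + 1 by omega)]
  have h2 : 1 < R := by omega
  obtain ⟨ε, μ, hε, hμ, hinj, hdeg, hinner, htau⟩ := H.exists_family hM hab (hR ▸ h2)
  have hε2 : ε * ε = 1 := by rcases hε with rfl | rfl <;> norm_num
  have hεc : conj ε = ε := by rcases hε with rfl | rfl <;> simp
  obtain ⟨φ₀, hφ₀⟩ := Finset.card_pos.1 (show 0 < (exc P).card by omega)
  have hLC : (Nat.card (NQ P) : ℂ) ≠ 0 := Nat.cast_ne_zero.2 Nat.card_pos.ne'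
  -- the common constant part
  let r : ↥(P : Subgroup G) → ℂ := fun u => (μ φ₀ : G → ℂ) u - ε * φ₀ (emb P u)
  have hrinv : Inv P r := fun a b h => by
    simp only [r, CfsgLib.Char.IsClassFunction.apply_eq_of_isConj (isClassFunction_irr (μ φ₀)) h,
      CfsgLib.Char.IsClassFunction.apply_eq_of_isConj
        (IsIrrCharacter.isClassFunction (H.exc_irr hφ₀)) ((H.emb_isConj_iff a b).2 h)]
  have hrconst : ∀ {u v : ↥(P : Subgroup G)}, u ≠ 1 → v ≠ 1 → r u = r v := by
    intro u v hu hv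
    refine H.const_of_orth hab hrinv hφ₀ (fun φ hφ => ?_) hu hv
    simp only [r, sub_mul, sum_sub_distrib, mul_assoc, ← mul_sum]
    have h1 : ∑ u ∈ sharp P, (μ φ₀ : G → ℂ) u * conj (φ (emb P u) - φ₀ (emb P u)) =
        conj ((Nat.card (NQ P) : ℂ) * Cfsg.classInner (tau P (φ - φ₀)) (μ φ₀ : G → ℂ)) := by
      rw [H.inner_tau hM (fun l g => by
        simp only [Pi.sub_apply, IsIrrCharacter.isClassFunction (H.exc_irr hφ) l g,
          IsIrrCharacter.isClassFunction (H.exc_irr hφ₀) l g]) (μ φ₀),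
        if_pos (mem_filter.1 (hμ φ₀ hφ₀).1).2, map_sum]
      exact sum_congr rfl fun u _ => by simp only [Pi.sub_apply, map_mul, Complex.conj_conj]; ring
    have h3 : ∑ u ∈ sharp P, φ₀ (emb P u) * conj (φ (emb P u) - φ₀ (emb P u)) =
        (Nat.card (NQ P) : ℂ) * ((if φ₀ = φ then 1 else 0) - 1) := by
      rw [H.sum_emb (f := fun l => φ₀ l * conj (φ l - φ₀ l))
        (fun l hl => by rw [H.exc_off hφ₀ l hl, zero_mul])
        (by rw [H.exc_degree hab hφ, H.exc_degree hab hφ₀, sub_self, map_zero, mul_zero])]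
      have hA := IsIrrCharacter.classInner_eq (H.exc_irr hφ₀) (H.exc_irr hφ)
      have hB := IsIrrCharacter.classInner_self (H.exc_irr hφ₀)
      rw [Cfsg.classInner, inv_mul_eq_iff_eq_mul₀ hLC] at hA hB
      simp only [map_sub, mul_sub, sum_sub_distrib, hA, hB, mul_one]
    rw [h1, h3, hinner φ hφ φ₀ hφ₀ (μ φ₀), if_pos rfl, map_mul, map_mul, hεc, map_natCast]
    by_cases hφφ : φ = φ₀
    · subst hφφ; simp
    · rw [if_neg fun h => hφφ (hinj φ hφ φ₀ hφ₀ h), if_neg (Ne.symm hφφ), map_sub, map_zero, map_one]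
      ring
  set c := r ⟨x, hx⟩
  have hxu : (⟨x, hx⟩ : ↥(P : Subgroup G)) ≠ 1 := fun h => hx1 (congrArg Subtype.val h)
  have hval : ∀ φ ∈ exc P, ∀ u : ↥(P : Subgroup G), u ≠ 1 → (μ φ : G → ℂ) u = ε * φ (emb P u) + c := by
    intro φ hφ u hu
    obtain ⟨k, hk⟩ := exists_orderOf_eq u.2
    have h := congrFun (htau φ hφ φ₀ hφ₀) (u : G)
    rw [tau, ext_section (H.inv_of_classFunction (α := φ - φ₀) fun l g => by
      simp only [Pi.sub_apply, IsIrrCharacter.isClassFunction (H.exc_irr hφ) l g,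
        IsIrrCharacter.isClassFunction (H.exc_irr hφ₀) l g]) hu
      ⟨1, 1, one_mem _, by simp⟩] at h
    simp only [Pi.sub_apply, Pi.smul_apply, smul_eq_mul] at h
    have h' : r u = c := hrconst hu hxu
    simp only [r] at h'
    linear_combination h' - ε * h + (φ₀ (emb P u) * 0) - ((μ φ : G → ℂ) u - (μ φ₀ : G → ℂ) u) * hε2
  obtain ⟨D, hD0, hD⟩ := IsIrrCharacter.exists_degree (μ φ₀).2
  have hDall : ∀ φ ∈ exc P, (μ φ : G → ℂ) 1 = (D : ℂ) := fun φ hφ => by rw [hdeg φ hφ φ₀ hφ₀, hD]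
  -- `c` is an integer
  obtain ⟨m, hm⟩ := IsCharacter.exists_classInner_eq_natCast'
    (IsCharacter.restrict (isCharacter_irr (μ φ₀)) (P : Subgroup G)) (isCharacter_one (G := (P : Subgroup G)))
  rw [Cfsg.classInner, inv_mul_eq_iff_eq_mul₀ (Nat.cast_ne_zero.2 Nat.card_pos.ne'),
    ← add_sum_erase _ _ (mem_univ (1 : ↥(P : Subgroup G)))] at hm
  simp only [map_one, mul_one, OneMemClass.coe_one] at hm
  rw [hD, sum_congr rfl fun u hu => hval φ₀ hφ₀ u (mem_erase.1 hu).1, sum_add_distrib, ← mul_sum,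
    H.exc_sum hφ₀, H.exc_degree hab hφ₀, ← he, sum_const, card_erase_of_mem (mem_univ _), card_univ,
    ← Nat.card_eq_fintype_card, ← hcount, Nat.add_sub_cancel, nsmul_eq_mul] at hm
  have hce : (D : ℂ) - ε * e + ((e * R : ℕ) : ℂ) * c = ((e * R + 1 : ℕ) : ℂ) * m := by
    linear_combination hm
  obtain ⟨εz, hεz, hεz2⟩ : ∃ s : ℤ, ε = (s : ℂ) ∧ (s = 1 ∨ s = -1) := by
    rcases hε with rfl | rfl
    exacts [⟨1, by simp, Or.inl rfl⟩, ⟨-1, by simp, Or.inr rfl⟩]
  obtain ⟨k, hk⟩ : ∃ k : ℤ, c = (k : ℂ) := by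
    have hcint : IsIntegral ℤ c := by
      show IsIntegral ℤ ((μ φ₀ : G → ℂ) x - ε * φ₀ (emb P ⟨x, hx⟩))
      rw [hεz]
      exact (IsCharacter.isIntegral (isCharacter_irr _) _).sub
        ((isIntegral_algebraMap (x := εz)).mul
          (IsCharacter.isIntegral (IsIrrCharacter.isCharacter (H.exc_irr hφ₀)) _))
    have heR : ((e * R : ℕ) : ℚ) ≠ 0 := by
      simp only [ne_eq, Nat.cast_eq_zero]
      exact Nat.mul_ne_zero (by omega) (by omega)
    have hq : c = (((((e * R + 1 : ℕ) : ℚ) * m - D + εz * e) / ((e * R : ℕ) : ℚ) : ℚ) : ℂ) := by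
      have heRC : ((e * R : ℕ) : ℂ) ≠ 0 := by
        simp only [ne_eq, Nat.cast_eq_zero]
        exact Nat.mul_ne_zero (by omega) (by omega)
      rw [Rat.cast_div, eq_div_iff (by exact_mod_cast heRC)]
      push_cast at hce ⊢
      rw [hεz] at hce
      linear_combination hce
    obtain ⟨n, hn⟩ := exists_int_of_isIntegral_ratCast (hq ▸ hcint)
    exact ⟨n, hq.trans hn⟩
  -- the values at `x`
  let Vb : Subgroup (NQ P) :=
    { carrier := {l | ∃ v : ↥(P : Subgroup G), v ^ p = 1 ∧ emb P v = l}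
      one_mem' := ⟨1, one_pow p, map_one _⟩
      mul_mem' := by
        rintro _ _ ⟨a, ha, rfl⟩ ⟨b, hb, rfl⟩
        exact ⟨a * b, by rw [(show Commute a b from hab a b).mul_pow, ha, hb, one_mul], map_mul _ _ _⟩
      inv_mem' := by
        rintro _ ⟨a, ha, rfl⟩
        exact ⟨a⁻¹, by rw [inv_pow, ha, inv_one], map_inv _ _⟩ }
  haveI hVn : Vb.Normal := ⟨by
    rintro _ ⟨v, hv, rfl⟩ l
    obtain ⟨n, rfl⟩ := QuotientGroup.mk'_surjective _ l
    refine ⟨_, Subtype.ext ?_, emb_conj n v⟩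
    show ((n : G) * v * (n : G)⁻¹) ^ p = 1
    have hv' : (v : G) ^ p = 1 := congrArg Subtype.val hv
    rw [conj_pow, hv']; group⟩
  have hxV : emb P ⟨x, hx⟩ ∈ Vb := ⟨_, Subtype.ext (show x ^ p = 1 by rw [← hxo, pow_orderOf_eq_one]), rfl⟩
  have hωcls : ∀ φ ∈ exc P, ∀ v ∈ (omegaSet P).erase 1, φ (emb P v) = φ (emb P ⟨x, hx⟩) := by
    intro φ hφ v hv
    obtain ⟨hv1, hv'⟩ := mem_erase.1 hv
    refine CfsgLib.Char.IsClassFunction.apply_eq_of_isConj (IsIrrCharacter.isClassFunction (H.exc_irr hφ))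
      ((H.emb_isConj_iff _ _).2 (hone v v.2 (orderOf_eq_prime (congrArg Subtype.val (mem_filter.1 hv').2)
        fun h => hv1 (Subtype.ext h)))).symm
  have honeΩ : (1 : ↥(P : Subgroup G)) ∈ omegaSet P := mem_filter.2 ⟨mem_univ _, one_pow p⟩
  have hωcard : ((omegaSet P).erase 1).card = e := by
    rw [card_erase_of_mem honeΩ, H.omega_card hab hx hxo hone, ← he, Nat.add_sub_cancel]
  have htwo : ∀ φ ∈ exc P, φ (emb P ⟨x, hx⟩) = (e : ℂ) ∨ φ (emb P ⟨x, hx⟩) = -1 := by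
    intro φ hφ
    rcases sum_eq_zero_or_ker (⟨φ, H.exc_irr hφ⟩ : Cfsg.IrrCharacter (NQ P)) Vb with h | h
    · refine Or.inr ?_
      have himg : univ.filter (· ∈ Vb) = (omegaSet P).image (emb P) := by
        ext l
        simp only [mem_filter, mem_univ, true_and, mem_image]
        exact Iff.rfl
      rw [himg, sum_image fun a _ b _ h => emb_injective h, ← add_sum_erase _ _ honeΩ,
        sum_congr rfl (hωcls φ hφ), sum_const, hωcard, nsmul_eq_mul] at h
      simp only [map_one, H.exc_degree hab hφ, ← he] at h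
      refine mul_left_cancel₀ (Nat.cast_ne_zero.2 (show e ≠ 0 by omega) : (e : ℂ) ≠ 0) ?_
      linear_combination h
    · exact Or.inl ((h _ hxV).trans (H.exc_degree hab hφ))
  have hreal : ∀ φ ∈ exc P, conj (φ (emb P ⟨x, hx⟩)) = φ (emb P ⟨x, hx⟩) := fun φ hφ => by
    rcases htwo φ hφ with h | h <;> rw [h] <;> simp
  have hsqid : ∀ φ ∈ exc P, φ (emb P ⟨x, hx⟩) ^ 2 = ((e : ℂ) - 1) * φ (emb P ⟨x, hx⟩) + e := fun φ hφ => by
    rcases htwo φ hφ with h | h <;> rw [h] <;> ring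
  have htot : ∑ φ ∈ exc P, φ (emb P ⟨x, hx⟩) = -1 := H.exc_total hab hxu
  have hsumsq : ∑ φ ∈ exc P, φ (emb P ⟨x, hx⟩) ^ 2 = ((e * R + 1 : ℕ) : ℂ) - e := by
    rw [sum_congr rfl hsqid, sum_add_distrib, ← mul_sum, htot, sum_const, nsmul_eq_mul, ← hR]
    push_cast; ring
  -- the other members
  set Q := B0 G M \ (exc P).image μ with hQ
  have hsubB : (exc P).image μ ⊆ B0 G M := fun χ hχ => by
    obtain ⟨φ, hφ, rfl⟩ := mem_image.1 hχ
    exact (hμ φ hφ).1
  have hsplit : ∀ F : Cfsg.IrrCharacter G → ℂ,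
      ∑ χ ∈ B0 G M, F χ = ∑ χ ∈ Q, F χ + ∑ φ ∈ exc P, F (μ φ) := fun F => by
    rw [← sum_image hinj, hQ, sum_sdiff hsubB]
  have hQconst : ∀ χ ∈ Q, ∀ v ∈ (P : Subgroup G), v ≠ 1 → (χ : G → ℂ) v = (χ : G → ℂ) x := by
    intro χ hχ v hv hv1
    obtain ⟨hχB, hχn⟩ := mem_sdiff.1 hχ
    exact H.const_of_inner hM hab hχB hφ₀ (fun φ hφ => by
      rw [hinner φ hφ φ₀ hφ₀ χ, if_neg fun h => hχn (mem_image.2 ⟨φ, hφ, h⟩),
        if_neg fun h => hχn (mem_image.2 ⟨φ₀, hφ₀, h⟩), sub_self, mul_zero])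
      (u := ⟨v, hv⟩) (v := ⟨x, hx⟩) (fun h => hv1 (congrArg Subtype.val h)) hxu
  have honeQ : oneIrr G ∈ Q := mem_sdiff.2 ⟨mem_filter.2 ⟨mem_univ _, oneIrr_mem_principalBlock⟩, fun h => by
    obtain ⟨φ, hφ, hφ'⟩ := mem_image.1 h
    exact (hμ φ hφ).2 hφ'⟩
  have hgx := H.gram_central hM hx hx1 hxc
  rw [← hcount] at hgx
  -- `c = 0`
  have hk0 : k = 0 := by
    rw [hsplit, sum_congr (s₁ := exc P) rfl fun φ hφ => by
      rw [show (μ φ : G → ℂ) x = ε * φ (emb P ⟨x, hx⟩) + c from hval φ hφ ⟨x, hx⟩ hxu]] at hgx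
    simp only [hk, map_add, map_mul, hεc, map_intCast] at hgx
    rw [sum_congr (s₁ := exc P) rfl fun φ hφ => show (ε * φ (emb P ⟨x, hx⟩) + (k : ℂ)) * (ε * conj (φ (emb P ⟨x, hx⟩)) + k) =
        φ (emb P ⟨x, hx⟩) ^ 2 + 2 * ε * k * φ (emb P ⟨x, hx⟩) + (k : ℂ) * k by
      rw [hreal φ hφ]
      linear_combination φ (emb P ⟨x, hx⟩) ^ 2 * hε2,
      sum_add_distrib, sum_add_distrib, hsumsq, ← mul_sum, htot, sum_const, nsmul_eq_mul, ← hR] at hgx
    have hge : (1 : ℝ) ≤ (∑ χ ∈ Q, (χ : G → ℂ) x * conj ((χ : G → ℂ) x)).re := by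
      simp only [Complex.re_sum, Complex.mul_conj, Complex.ofReal_re]
      refine le_trans (le_of_eq ?_) (single_le_sum (fun χ _ => Complex.normSq_nonneg _) honeQ)
      simp
    have hre : (∑ χ ∈ Q, (χ : G → ℂ) x * conj ((χ : G → ℂ) x)).re = (e : ℝ) + 2 * εz * k - R * (k * k) := by
      have h' : ∑ χ ∈ Q, (χ : G → ℂ) x * conj ((χ : G → ℂ) x) =
          (((e : ℝ) + 2 * εz * k - R * (k * k) : ℝ) : ℂ) := by
        rw [hεz] at hgx
        push_cast at hgx ⊢
        linear_combination hgx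
      rw [h', Complex.ofReal_re]
    rw [hre] at hge
    by_contra hk'
    have hk1 : (1 : ℤ) ≤ |k| := Int.one_le_abs hk'
    have hbound : (R : ℤ) * (k * k) + 1 ≤ (e : ℤ) + 2 * |k| := by
      have h' : (1 : ℤ) + R * (k * k) ≤ e + 2 * εz * k := by
        have : ((1 + R * (k * k) : ℤ) : ℝ) ≤ ((e + 2 * εz * k : ℤ) : ℝ) := by push_cast; linarith
        exact_mod_cast this
      have h'' : εz * k ≤ |k| := by
        rcases hεz2 with rfl | rfl
        · simpa using le_abs_self k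
        · simpa using neg_le_abs k
      linarith
    have hkk : k * k = |k| * |k| := (abs_mul_abs_self k).symm
    rw [hkk] at hbound
    have hRe' : (e : ℤ) + 2 ≤ R := by exact_mod_cast hRe
    nlinarith [mul_le_mul_of_nonneg_right hRe' (mul_self_nonneg |k|),
      mul_nonneg (Int.natCast_nonneg e) (mul_nonneg (sub_nonneg.2 hk1) (show (0 : ℤ) ≤ |k| + 1 by linarith)),
      mul_nonneg (sub_nonneg.2 hk1) (sub_nonneg.2 hk1)]
  subst hk0
  rw [Int.cast_zero] at hk
  -- the counting function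
  set A := univ.filter (IsConj x) with hA
  let T : G → ℂ := fun u => ∑ χ ∈ B0 G M, conj ((χ : G → ℂ) u) * (χ : G → ℂ) x * (χ : G → ℂ) x / (χ : G → ℂ) 1
  set S := ((A ×ˢ A).filter fun uv : G × G => uv.1 * uv.2 ∈ section' p x).card with hS
  obtain ⟨hhalf, hzero⟩ := H.pairs_count hp2 hx hxo hxc hone
  rw [← hA, ← hS] at hhalf
  have hAne : (A.card : ℂ) * A.card ≠ 0 := by
    have : A.card ≠ 0 := (card_pos.2 ⟨x, mem_filter.2 ⟨mem_univ _, IsConj.refl x⟩⟩).ne'
    simp [this]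
  have hTsec : ∀ u ∈ (P : Subgroup G), u ≠ 1 →
      (((A ×ˢ A).filter fun uv : G × G => uv.1 * uv.2 ∈ section' p u).card : ℂ) * ((e * R + 1 : ℕ) : ℂ) =
        (A.card : ℂ) * A.card * T u := by
    intro u hu hu1
    obtain ⟨k', hk'⟩ := exists_orderOf_eq hu
    obtain ⟨a, hidx⟩ := H.exists_pow_index hu hu1
    have hq : e * R + 1 = p ^ a := by
      rw [hcount, ← hidx, H.index_core hu hu1,
        inf_eq_left.2 (mem_center_of_commute (H.central_of_abelian hM hab hu))]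
    rw [hq]
    exact card_pairs hM hk' hidx x x
  have hTzero : ∀ u ∈ (P : Subgroup G), u ≠ 1 → ¬ IsConj x u → T u = 0 := by
    intro u hu hu1 hn
    have h := hTsec u hu hu1
    rw [hzero u hu hn hu1, Nat.cast_zero, zero_mul] at h
    exact (mul_eq_zero.1 h.symm).resolve_left hAne
  have hTconj : ∀ u, IsConj x u → T u = T x := fun u hu => by
    refine sum_congr rfl fun χ _ => ?_
    rw [CfsgLib.Char.IsClassFunction.apply_eq_of_isConj (isClassFunction_irr χ) hu]
  -- pairing with a difference of the two kinds of exceptional characters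
  obtain ⟨φj, hφj, hj⟩ : ∃ φ ∈ exc P, φ (emb P ⟨x, hx⟩) = -1 := by
    by_contra h
    push Not at h
    rw [sum_congr rfl fun φ hφ => (htwo φ hφ).resolve_right (h φ hφ), sum_const, nsmul_eq_mul] at htot
    have := congrArg Complex.re htot
    simp at this
    nlinarith [show (0 : ℝ) ≤ ((exc P).card : ℝ) * e from by positivity]
  obtain ⟨φi, hφi, hi⟩ : ∃ φ ∈ exc P, φ (emb P ⟨x, hx⟩) = (e : ℂ) := by
    by_contra h
    push Not at h
    rw [sum_congr rfl fun φ hφ => (htwo φ hφ).resolve_left (h φ hφ), sum_const, nsmul_eq_mul] at htot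
    have h' : ((exc P).card : ℂ) = 1 := by linear_combination -htot
    have : (exc P).card = 1 := by exact_mod_cast h'
    omega
  have hDne : (D : ℂ) ≠ 0 := Nat.cast_ne_zero.2 (by omega)
  have hpair : T x * D = ((e * R + 1 : ℕ) : ℂ) * (ε * ((e : ℂ) - 1)) := by
    have hl : ∑ u ∈ sharp P, (φi (emb P u) - φj (emb P u)) * T u = (e : ℂ) * ((e : ℂ) + 1) * T x := by
      rw [← sum_subset (show (omegaSet P).erase 1 ⊆ sharp P from fun v hv =>
          mem_erase.2 ⟨(mem_erase.1 hv).1, mem_univ _⟩) fun v hv hn => by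
        rw [hTzero v v.2 (coe_ne_one hv) fun hc => hn (mem_erase.2 ⟨(mem_erase.1 hv).1,
          mem_filter.2 ⟨mem_univ _, Subtype.ext ?_⟩⟩), mul_zero]
        obtain ⟨g, hg⟩ := isConj_iff.1 hc
        show (v : G) ^ p = 1
        rw [← hg, conj_pow, ← hxo, pow_orderOf_eq_one]
        group,
        sum_congr rfl fun v hv => by
          obtain ⟨hv1, hv'⟩ := mem_erase.1 hv
          rw [hωcls φi hφi v hv, hωcls φj hφj v hv, hTconj v (hone v v.2
            (orderOf_eq_prime (congrArg Subtype.val (mem_filter.1 hv').2) fun h => hv1 (Subtype.ext h))), hi, hj],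
        sum_const, hωcard, nsmul_eq_mul]
      ring
    have hr : ∑ u ∈ sharp P, (φi (emb P u) - φj (emb P u)) * T u =
        (Nat.card (NQ P) : ℂ) * (ε * (((e : ℂ) ^ 2 - 1) / D)) := by
      calc ∑ u ∈ sharp P, (φi (emb P u) - φj (emb P u)) * T u
          = ∑ χ ∈ B0 G M, (χ : G → ℂ) x * (χ : G → ℂ) x / (χ : G → ℂ) 1 *
              ((Nat.card (NQ P) : ℂ) * Cfsg.classInner (tau P (φi - φj)) (χ : G → ℂ)) := by
            simp only [T, mul_sum]
            rw [sum_comm]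
            refine sum_congr rfl fun χ hχ => ?_
            rw [H.inner_tau hM (fun l g => by
              simp only [Pi.sub_apply, IsIrrCharacter.isClassFunction (H.exc_irr hφi) l g,
                IsIrrCharacter.isClassFunction (H.exc_irr hφj) l g]) χ, if_pos (mem_filter.1 hχ).2, mul_sum]
            exact sum_congr rfl fun u _ => by simp only [Pi.sub_apply]; ring
        _ = _ := by
            simp only [hinner φi hφi φj hφj, mul_sub, sum_sub_distrib, mul_ite, mul_one, mul_zero,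
              sum_ite_eq, (hμ φi hφi).1, (hμ φj hφj).1, if_true]
            rw [show (μ φi : G → ℂ) x = _ from hval φi hφi ⟨x, hx⟩ hxu,
              show (μ φj : G → ℂ) x = _ from hval φj hφj ⟨x, hx⟩ hxu, hDall φi hφi, hDall φj hφj, hk, hi, hj]
            field_simp
            linear_combination (ε * ((e : ℂ) ^ 2 - 1)) * hε2
    rw [hl] at hr
    have hcardL : (Nat.card (NQ P) : ℂ) = ((e * R + 1 : ℕ) : ℂ) * e := by
      rw [← H.card_NQ, card_ker, ← hcount]; push_cast; ring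
    rw [hcardL] at hr
    field_simp at hr
    have hee : (e : ℂ) * ((e : ℂ) + 1) ≠ 0 := by
      have : ((e * (e + 1) : ℕ) : ℂ) ≠ 0 := by
        simp only [ne_eq, Nat.cast_eq_zero]; exact Nat.mul_ne_zero (by omega) (by omega)
      push_cast at this; exact this
    refine mul_left_cancel₀ hee ?_
    linear_combination hr
  have hTx := hTsec x hx hx1
  rw [← hS] at hTx
  have hint : (S : ℤ) * D = (A.card : ℤ) * A.card * (εz * ((e : ℤ) - 1)) := by
    have h' : ((e * R + 1 : ℕ) : ℂ) * ((S : ℂ) * D) =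
        ((e * R + 1 : ℕ) : ℂ) * ((A.card : ℂ) * A.card * (ε * ((e : ℂ) - 1))) := by
      linear_combination (D : ℂ) * hTx + (A.card : ℂ) * A.card * hpair
    have h'' := mul_left_cancel₀ (Nat.cast_ne_zero.2 (Nat.succ_ne_zero _)) h'
    rw [hεz] at h''
    exact_mod_cast h''
  have hS0 : 0 < S := by
    have : 0 < A.card * A.card := Nat.pos_of_ne_zero fun h => hAne (by exact_mod_cast congrArg (Nat.cast (R := ℂ)) h)
    omega
  have heZ : (1 : ℤ) < e := by exact_mod_cast he1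
  have hSD : (0 : ℤ) < (S : ℤ) * D := by
    have : 0 < S * D := Nat.mul_pos hS0 (by omega)
    exact_mod_cast this
  have hεone : εz = 1 := by
    rcases hεz2 with h | h
    · exact h
    · exfalso
      rw [h] at hint
      have : (0 : ℤ) ≤ (A.card : ℤ) * A.card := mul_self_nonneg _
      nlinarith
  subst hεone
  rw [one_mul] at hint
  have hDle : (D : ℤ) ≤ 2 * ((e : ℤ) - 1) := by
    have h' : (A.card : ℤ) * A.card ≤ 2 * S := by exact_mod_cast hhalf
    have h'' : (S : ℤ) * D ≤ (S : ℤ) * (2 * ((e : ℤ) - 1)) := by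
      rw [hint]
      calc (A.card : ℤ) * A.card * ((e : ℤ) - 1) ≤ 2 * S * ((e : ℤ) - 1) :=
            mul_le_mul_of_nonneg_right h' (by linarith)
        _ = _ := by ring
    exact le_of_mul_le_mul_left h'' (by exact_mod_cast hS0)
  -- the degree is `e`
  have hDe : D = e := by
    rw [hk, mul_zero, add_zero, hεz, Int.cast_one, one_mul, sub_eq_iff_eq_add] at hce
    have hnat : D = (e * R + 1) * m + e := by exact_mod_cast hce
    rcases Nat.eq_zero_or_pos m with hm0 | hm0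
    · simp [hnat, hm0]
    · exfalso
      have h1 : e * R + 1 ≤ (e * R + 1) * m := Nat.le_mul_of_pos_right _ hm0
      have h2 : e ≤ e * R := Nat.le_mul_of_pos_right _ (by omega)
      omega
  subst hDe
  -- an element outside the elements of exponent `p`
  have hw1 : w ≠ 1 := fun h => hwp (by rw [h, one_pow])
  have hwn : ¬ IsConj x w := fun h => hwp (by
    obtain ⟨g, rfl⟩ := isConj_iff.1 h
    rw [conj_pow, ← hxo, pow_orderOf_eq_one]; group)
  have hwu : (⟨w, hw⟩ : ↥(P : Subgroup G)) ≠ 1 := fun h => hw1 (congrArg Subtype.val h)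
  choose d hd hdvd using fun χ : {χ // χ ∈ Q} =>
    const_value (P : Subgroup G) hx hx1 χ.1 (hQconst χ.1 χ.2)
  have hε1 : ε = 1 := by rw [hεz, Int.cast_one]
  have hc0 : c = 0 := hk
  have hμx : ∀ φ ∈ exc P, (μ φ : G → ℂ) x = φ (emb P ⟨x, hx⟩) := fun φ hφ => by
    rw [show (μ φ : G → ℂ) x = _ from hval φ hφ ⟨x, hx⟩ hxu, hε1, hc0, one_mul, add_zero]
  have hμw : ∀ φ ∈ exc P, (μ φ : G → ℂ) w = φ (emb P ⟨w, hw⟩) := fun φ hφ => by
    rw [show (μ φ : G → ℂ) w = _ from hval φ hφ ⟨w, hw⟩ hwu, hε1, hc0, one_mul, add_zero]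
  have hSQ : ∑ χ ∈ Q, (χ : G → ℂ) x * conj ((χ : G → ℂ) x) = (e : ℂ) := by
    rw [hsplit, sum_congr (s₁ := exc P) rfl fun φ hφ => show (μ φ : G → ℂ) x * conj ((μ φ : G → ℂ) x) =
        φ (emb P ⟨x, hx⟩) ^ 2 by rw [hμx φ hφ, hreal φ hφ, pow_two], hsumsq] at hgx
    linear_combination hgx
  have hxw : ∑ χ ∈ B0 G M, (χ : G → ℂ) x * conj ((χ : G → ℂ) w) = 0 := by
    obtain ⟨a, hidx⟩ := H.exists_pow_index hx hx1
    obtain ⟨k', hk'⟩ := exists_orderOf_eq hw
    exact SectionCount.sum_principal_eq_zero hM (k := 1) (by rw [pow_one, hxo]) hk' hidx hwn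
  rw [hsplit, sum_congr (s₁ := Q) rfl fun χ hχ => by rw [hQconst χ hχ w hw hw1], hSQ,
    sum_congr (s₁ := exc P) rfl fun φ hφ => by rw [hμx φ hφ, hμw φ hφ]] at hxw
  have hTw := hTzero w hw hw1 hwn
  simp only [T] at hTw
  rw [hsplit, sum_congr (s₁ := Q) rfl fun χ hχ => by rw [hQconst χ hχ w hw hw1],
    sum_congr (s₁ := exc P) rfl fun φ hφ => show conj ((μ φ : G → ℂ) w) * (μ φ : G → ℂ) x * (μ φ : G → ℂ) x /
        (μ φ : G → ℂ) 1 = ((((e : ℂ) - 1) / e) * (φ (emb P ⟨x, hx⟩) * conj (φ (emb P ⟨w, hw⟩))) +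
          conj (φ (emb P ⟨w, hw⟩))) by
      rw [hμx φ hφ, hμw φ hφ, hDall φ hφ, mul_assoc, ← pow_two, hsqid φ hφ]
      field_simp,
    sum_add_distrib, ← mul_sum, ← map_sum conj, H.exc_total hab hwu, map_neg, map_one] at hTw
  -- all the other members take their degree at `x`
  let n : {χ // χ ∈ Q} → ℤ := fun χ => Cfsg.charDegree ((χ.1 : Cfsg.IrrCharacter G) : G → ℂ)
  have hn1 : ∀ χ : {χ // χ ∈ Q}, (χ.1 : G → ℂ) 1 = (n χ : ℂ) := fun χ => by
    rw [(irr_one χ.1).1]; simp [n]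
  have hcube : ∑ χ : {χ // χ ∈ Q}, (d χ : ℝ) ^ 3 / (n χ : ℝ) = (e : ℝ) := by
    have h : ((∑ χ : {χ // χ ∈ Q}, (d χ : ℝ) ^ 3 / (n χ : ℝ) : ℝ) : ℂ) = ((e : ℝ) : ℂ) := by
      push_cast
      rw [← sum_attach Q] at hTw
      rw [univ_eq_attach]
      rw [sum_congr rfl fun χ (_ : χ ∈ Q.attach) => show conj ((χ.1 : G → ℂ) x) * (χ.1 : G → ℂ) x * (χ.1 : G → ℂ) x /
          (χ.1 : G → ℂ) 1 = (d χ : ℂ) ^ 3 / (n χ : ℂ) by rw [hd, hn1, map_intCast]; ring] at hTw
      rw [show ∑ φ ∈ exc P, φ (emb P ⟨x, hx⟩) * conj (φ (emb P ⟨w, hw⟩)) = -(e : ℂ) by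
        linear_combination hxw] at hTw
      field_simp at hTw ⊢
      linear_combination hTw
    exact Complex.ofReal_inj.1 h
  have hsquare : ∑ χ : {χ // χ ∈ Q}, (d χ : ℝ) ^ 2 = (e : ℝ) := by
    have h : ((∑ χ : {χ // χ ∈ Q}, (d χ : ℝ) ^ 2 : ℝ) : ℂ) = ((e : ℝ) : ℂ) := by
      push_cast
      rw [univ_eq_attach, ← hSQ, ← sum_attach Q]
      exact sum_congr rfl fun χ _ => by rw [hd, map_intCast]; ring
    exact Complex.ofReal_inj.1 h
  have hnpos : ∀ χ, (0 : ℝ) < n χ := fun χ => by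
    have : (0 : ℤ) < n χ := by simpa [n] using (irr_one χ.1).2
    exact_mod_cast this
  have hdle : ∀ χ, (d χ : ℝ) ≤ n χ := fun χ => by
    have h := IsCharacter.norm_apply_le (isCharacter_irr χ.1) x
    rw [hd, hn1, Complex.intCast_re, Complex.norm_intCast] at h
    exact (le_abs_self _).trans h
  have hterm : ∀ χ, (0 : ℝ) ≤ (d χ : ℝ) ^ 2 - (d χ : ℝ) ^ 3 / (n χ : ℝ) := fun χ => by
    rw [sub_nonneg, div_le_iff₀ (hnpos χ)]
    nlinarith [hdle χ, sq_nonneg (d χ : ℝ)]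
  have hall := (sum_eq_zero_iff_of_nonneg fun χ _ => hterm χ).1
    (show ∑ χ : {χ // χ ∈ Q}, ((d χ : ℝ) ^ 2 - (d χ : ℝ) ^ 3 / (n χ : ℝ)) = 0 by
      rw [sum_sub_distrib, hsquare, hcube, sub_self])
  obtain ⟨χ, hχ, hχ1⟩ : ∃ χ ∈ Q, χ ≠ oneIrr G := by
    by_contra h
    push Not at h
    rw [show Q = {oneIrr G} from eq_singleton_iff_unique_mem.2 ⟨honeQ, h⟩, sum_singleton, oneIrr_apply,
      map_one, one_mul] at hSQ
    have : e = 1 := by exact_mod_cast hSQ.symm
    omega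
  have hd0 : d ⟨χ, hχ⟩ ≠ 0 := fun h => H.apply_ne_zero hM (mem_filter.1 (mem_sdiff.1 hχ).1).2 hx hxc (by
    rw [hd ⟨χ, hχ⟩, h, Int.cast_zero])
  refine hnf ⟨χ, (mem_filter.1 (mem_sdiff.1 hχ).1).2, hχ1, x, hx, hxo, hxc, ?_⟩
  rw [hd ⟨χ, hχ⟩, hn1 ⟨χ, hχ⟩]
  have h := hall ⟨χ, hχ⟩ (mem_univ _)
  have hn0 := (hnpos ⟨χ, hχ⟩).ne'
  field_simp at h
  have h' : ((d ⟨χ, hχ⟩ : ℝ)) = (n ⟨χ, hχ⟩ : ℝ) := by
    have hd0' : (d ⟨χ, hχ⟩ : ℝ) ^ 2 ≠ 0 := pow_ne_zero 2 (Int.cast_ne_zero.2 hd0)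
    refine mul_left_cancel₀ hd0' ?_
    linear_combination -h
  exact_mod_cast h'

end Hyp

end CfsgLib.PairSolv
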