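import Cfsg.Agent.Kinf.PairSimple
import Cfsg.Agent.Transfer.PResidual
import Cfsg.Agent.Solvable.NormalizerComplement
import Cfsg.Prelude.Def_Local

/-!
# Local fusion and pairs of elements of order `p`: local facts

A Sylow `p`-subgroup `P` whose fusion is controlled by its normalizer, with `p`-nilpotent
centralizers of elements of order `p`.
-/

set_option autoImplicit false
set_option linter.unusedSectionVars false
set_option linter.style.haveILetI false

namespace CfsgLib.PairSolv

open Subgroup CfsgLib.SectionCount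

universe u

variable {G : Type u} [Group G] [Finite G] {p : ℕ} [Fact p.Prime]

/-- The hypotheses on a group and a Sylow subgroup. -/
structure Hyp (P : Sylow p G) : Prop where
  core_bot : Cfsg.pPrimeCore p G = ⊥
  not_normal : ¬ (P : Subgroup G).Normal
  fusion : ∀ x ∈ (P : Subgroup G), ∀ y ∈ (P : Subgroup G), (∃ g : G, g * x * g⁻¹ = y) →
    ∃ n ∈ normalizer ((P : Subgroup G) : Set G), n * x * n⁻¹ = y
  cent : ∀ x ∈ (P : Subgroup G), orderOf x = p →
    Cfsg.HasNormalPComplement p ↥(centralizer ({x} : Set G))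
  pairs : ∀ x y : G, orderOf x = p → orderOf y = p →
    Cfsg.IsPSolvable p ↥(closure ({x, y} : Set G))

theorem not_dvd_orderOf_conj {g : G} (c : G) (h : ¬ p ∣ orderOf g) : ¬ p ∣ orderOf (c * g * c⁻¹) := by
  rwa [show c * g * c⁻¹ = (MulAut.conj c).toMonoidHom g from rfl,
    orderOf_injective _ (MulAut.conj c).injective]

theorem eq_one_of_mem_p_of_not_dvd {Q : Subgroup G} (hQ : IsPGroup p Q) {v : G} (hv : v ∈ Q)
    (h : ¬ p ∣ orderOf v) : v = 1 := by
  obtain ⟨k, hk⟩ := IsPGroup.iff_orderOf.1 hQ ⟨v, hv⟩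
  rw [Subgroup.orderOf_mk] at hk
  rw [← orderOf_eq_one_iff]
  exact Nat.eq_one_of_dvd_coprimes (((Fact.out : p.Prime).coprime_iff_not_dvd.2 h).pow_left k)
    (hk ▸ dvd_rfl) dvd_rfl

theorem mem_center_of_commute {P : Subgroup G} {x : G} (h : ∀ v ∈ P, v * x = x * v) :
    P ≤ centralizer ({x} : Set G) := fun v hv => mem_centralizer_singleton_iff.2 (h v hv)

theorem exists_conj_into (P : Sylow p G) {Q : Subgroup G} (hQ : IsPGroup p Q) :
    ∃ c : G, ∀ u ∈ Q, c * u * c⁻¹ ∈ (P : Subgroup G) := by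
  obtain ⟨R, hR⟩ := hQ.exists_le_sylow
  obtain ⟨c, hc⟩ := MulAction.exists_smul_eq G R P
  refine ⟨c, fun u hu => ?_⟩
  rw [← hc, Sylow.coe_subgroup_smul]
  exact ⟨u, hR hu, rfl⟩

/-- A nonidentity element of a `p`-group has a power of order `p`. -/
theorem exists_order_p {P : Subgroup G} (hP : IsPGroup p P) {u : G} (hu : u ∈ P) (hu1 : u ≠ 1) :
    ∃ w ∈ P, orderOf w = p ∧ centralizer ({u} : Set G) ≤ centralizer ({w} : Set G) := by
  obtain ⟨k, hk⟩ := IsPGroup.iff_orderOf.1 hP ⟨u, hu⟩
  rw [Subgroup.orderOf_mk] at hk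
  obtain ⟨j, rfl⟩ : ∃ j, k = j + 1 := ⟨k - 1, by
    rcases k with _ | k
    · exact absurd (orderOf_eq_one_iff.1 (by rw [hk, pow_zero])) hu1
    · rfl⟩
  refine ⟨u ^ p ^ j, P.pow_mem hu _, ?_, fun c hc => ?_⟩
  · have hp : p.Prime := Fact.out
    rw [orderOf_pow' _ (pow_ne_zero _ hp.ne_zero), hk, Nat.gcd_eq_right (pow_dvd_pow p j.le_succ),
      pow_succ, Nat.mul_div_cancel_left _ (pow_pos hp.pos _)]
  · rw [mem_centralizer_singleton_iff] at hc ⊢
    exact ((show Commute c u from hc).pow_right _).eq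

theorem ne_one_of_orderOf {x : G} (hx : orderOf x = p) : x ≠ 1 := fun h =>
  (Fact.out : p.Prime).ne_one (by rw [← hx, h, orderOf_one])

namespace Hyp

variable {P : Sylow p G} (H : Hyp P)
include H

theorem cent_of_ne_one {u : G} (hu : u ∈ (P : Subgroup G)) (hu1 : u ≠ 1) :
    Cfsg.HasNormalPComplement p ↥(centralizer ({u} : Set G)) := by
  obtain ⟨w, hw, hwo, hle⟩ := exists_order_p P.2 hu hu1
  exact PResidual.hasNormalPComplement_of_injective (inclusion hle) (inclusion_injective hle)
    (H.cent w hw hwo)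

theorem ne_bot : (P : Subgroup G) ≠ ⊥ := fun h => H.not_normal (by rw [h]; infer_instance)

/-- Some element of order `p` is central in `P`. -/
theorem exists_central : ∃ x ∈ (P : Subgroup G), orderOf x = p ∧ ∀ v ∈ (P : Subgroup G), v * x = x * v := by
  haveI : Nontrivial (P : Subgroup G) := (nontrivial_iff_ne_bot _).2 H.ne_bot
  haveI : Nontrivial (center (P : Subgroup G)) := P.2.center_nontrivial
  obtain ⟨k, hk0, hk⟩ := (P.2.to_subgroup (center (P : Subgroup G))).nontrivial_iff_card.1 inferInstance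
  haveI := Fintype.ofFinite (center (P : Subgroup G))
  obtain ⟨z, hz⟩ := exists_prime_orderOf_dvd_card' (G := center (P : Subgroup G)) p
    (hk ▸ dvd_pow_self p hk0.ne')
  refine ⟨((z : (P : Subgroup G)) : G), z.1.2, ?_, fun v hv => ?_⟩
  · rw [Subgroup.orderOf_coe, Subgroup.orderOf_coe, hz]
  · exact congrArg Subtype.val (mem_center_iff.1 z.2 ⟨v, hv⟩)

theorem central_of_conj {x : G} (hx : x ∈ (P : Subgroup G))
    (hc : ∀ v ∈ (P : Subgroup G), v * x = x * v) {g : G} (hg : g * x * g⁻¹ ∈ (P : Subgroup G)) :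
    ∀ v ∈ (P : Subgroup G), v * (g * x * g⁻¹) = g * x * g⁻¹ * v := by
  intro v hv
  obtain ⟨n, hn, he⟩ := H.fusion x hx _ hg ⟨g, rfl⟩
  rw [← he]
  have h := hc _ ((mem_normalizer_iff''.1 hn v).1 hv)
  calc v * (n * x * n⁻¹) = n * (n⁻¹ * v * n * x) * n⁻¹ := by group
    _ = n * (x * (n⁻¹ * v * n)) * n⁻¹ := by rw [h]
    _ = n * x * n⁻¹ * v := by group

/-- The index of the core of a centralizer is the order of the centralizer in `P`. -/
theorem index_core {u : G} (hu : u ∈ (P : Subgroup G)) (hu1 : u ≠ 1) :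
    (core p u).index = Nat.card ↥((P : Subgroup G) ⊓ centralizer ({u} : Set G)) := by
  have hp : p.Prime := Fact.out
  set C := centralizer ({u} : Set G) with hC
  obtain ⟨Q, N, hN, hc⟩ : Cfsg.HasNormalPComplement p C := H.cent_of_ne_one hu hu1
  haveI := hN
  obtain ⟨a, ha⟩ := IsPGroup.iff_card.1 Q.2
  have hidx : N.index = p ^ a := hc.symm.index_eq_card.trans ha
  have hcard : (Nat.card N).Coprime p := by
    have h2 : (Q : Subgroup C).index = Nat.card N := hc.index_eq_card
    rw [← h2]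
    exact (hp.coprime_iff_not_dvd.2 Q.not_dvd_index).symm
  have hle : N ≤ core p u := CfsgLib.Solvable.le_pPrimeCore p hN hcard
  have h1 : (core p u).index = p ^ a := by
    have h3 : p ^ a ∣ (core p u).index := by
      have h4 : p ^ a ∣ Nat.card (core p u) * (core p u).index := by
        rw [Subgroup.card_mul_index, ← ha]; exact Subgroup.card_subgroup_dvd_card _
      exact ((CfsgLib.Solvable.coprime_card_pPrimeCore p).symm.pow_left a).dvd_of_dvd_mul_left h4
    exact Nat.dvd_antisymm (hidx ▸ Subgroup.index_dvd_of_le hle) h3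
  rw [h1, ← ha]
  refine le_antisymm ?_ ?_
  · -- the Sylow subgroup moves into `P`
    have huC : u ∈ C := mem_centralizer_singleton_iff.2 rfl
    obtain ⟨R, hR⟩ := (show IsPGroup p ↥(zpowers (⟨u, huC⟩ : C)) from
      ((P.2.to_le (zpowers_le.2 hu)).comap_of_injective C.subtype C.subtype_injective).to_le (by
          rw [zpowers_le]; exact ⟨1, by simp⟩)).exists_le_sylow
    obtain ⟨g, hg⟩ := exists_conj_into P (R.2.map C.subtype)
    have huR : u ∈ (R : Subgroup C).map C.subtype := ⟨⟨u, huC⟩, hR (mem_zpowers _), rfl⟩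
    obtain ⟨n, hn, he⟩ := H.fusion u hu _ (hg u huR) ⟨g, rfl⟩
    rw [Nat.card_congr (Sylow.equiv Q R).toEquiv,
      ← card_map_of_injective (K := (R : Subgroup C)) C.subtype_injective,
      ← card_map_of_injective (K := (R : Subgroup C).map C.subtype)
        (f := (MulAut.conj (n⁻¹ * g)).toMonoidHom) (MulAut.conj (n⁻¹ * g)).injective]
    refine card_le_of_le (le_inf ?_ ?_)
    · rintro _ ⟨w, hw, rfl⟩
      show n⁻¹ * g * w * (n⁻¹ * g)⁻¹ ∈ _
      have := (mem_normalizer_iff''.1 hn _).1 (hg w hw)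
      convert this using 1
      group
    · rintro _ ⟨w, ⟨w', -, rfl⟩, rfl⟩
      show n⁻¹ * g * (w' : G) * (n⁻¹ * g)⁻¹ ∈ _
      rw [mem_centralizer_singleton_iff]
      have hh : (n⁻¹ * g) * u * (n⁻¹ * g)⁻¹ = u := by
        calc (n⁻¹ * g) * u * (n⁻¹ * g)⁻¹ = n⁻¹ * (g * u * g⁻¹) * n := by group
          _ = u := by rw [← he]; group
      have hw := mem_centralizer_singleton_iff.1 w'.2
      calc n⁻¹ * g * (w' : G) * (n⁻¹ * g)⁻¹ * u
          = n⁻¹ * g * (w' : G) * (n⁻¹ * g)⁻¹ * ((n⁻¹ * g) * u * (n⁻¹ * g)⁻¹) := by rw [hh]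
        _ = (n⁻¹ * g) * ((w' : G) * u) * (n⁻¹ * g)⁻¹ := by group
        _ = (n⁻¹ * g) * (u * w') * (n⁻¹ * g)⁻¹ := by rw [hw]
        _ = (n⁻¹ * g) * u * (n⁻¹ * g)⁻¹ * (n⁻¹ * g * (w' : G) * (n⁻¹ * g)⁻¹) := by group
        _ = u * (n⁻¹ * g * (w' : G) * (n⁻¹ * g)⁻¹) := by rw [hh]
  · obtain ⟨R, hR⟩ := (show IsPGroup p ↥(((P : Subgroup G) ⊓ C).subgroupOf C) from
      (P.2.to_le inf_le_left).comap_of_injective _ C.subtype_injective).exists_le_sylow
    rw [← Nat.card_congr (subgroupOfEquivOfLe (inf_le_right : (P : Subgroup G) ⊓ C ≤ C)).toEquiv,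
      Nat.card_congr (Sylow.equiv Q R).toEquiv]
    exact card_le_of_le hR

theorem exists_pow_index {u : G} (hu : u ∈ (P : Subgroup G)) (hu1 : u ≠ 1) :
    ∃ a, (core p u).index = p ^ a := by
  rw [H.index_core hu hu1]
  exact IsPGroup.iff_card.1 (P.2.to_le inf_le_left)

/-- The `p'`-elements of a centralizer lie in its core. -/
theorem mem_core {u : G} (hu : u ∈ (P : Subgroup G)) (hu1 : u ≠ 1)
    (v : centralizer ({u} : Set G)) (hv : ¬ p ∣ orderOf (v : G)) : v ∈ core p u := by
  obtain ⟨a, ha⟩ := H.exists_pow_index hu hu1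
  haveI := CfsgLib.Solvable.pPrimeCore_normal (G := centralizer ({u} : Set G)) p
  rw [← QuotientGroup.eq_one_iff, ← orderOf_eq_one_iff]
  refine Nat.eq_one_of_dvd_coprimes (((Fact.out : p.Prime).coprime_iff_not_dvd.2 hv).pow_left a) ?_
    ((orderOf_map_dvd (QuotientGroup.mk' (core p u)) v).trans (orderOf_coe v).symm.dvd)
  rw [← ha, Subgroup.index]
  exact orderOf_dvd_natCard _

/-- An element of a centralizer is a core element times an element of `P`. -/
theorem cent_decomp {u : G} (hu : u ∈ (P : Subgroup G)) (hu1 : u ≠ 1)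
    (c : centralizer ({u} : Set G)) : ∃ o ∈ core p u, ∃ s : centralizer ({u} : Set G),
      (s : G) ∈ (P : Subgroup G) ∧ c = o * s := by
  haveI := CfsgLib.Solvable.pPrimeCore_normal (G := centralizer ({u} : Set G)) p
  haveI := Fintype.ofFinite G
  let C := centralizer ({u} : Set G)
  let O := core p u
  let D := ((P : Subgroup G) ⊓ C).subgroupOf C
  have hcop : ∀ d ∈ D, d ∈ O → d = 1 := fun d hd hdO => Subtype.ext <|
    eq_one_of_mem_p_of_not_dvd P.2 (mem_inf.1 (mem_subgroupOf.1 hd)).1 (by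
      rw [Subgroup.orderOf_coe]
      exact SectionCount.not_dvd_orderOf Fact.out hdO)
  have hcard : Nat.card D = O.index := by
    rw [H.index_core hu hu1]
    exact Nat.card_congr (subgroupOfEquivOfLe (inf_le_right : (P : Subgroup G) ⊓ C ≤ C)).toEquiv
  have hcompl : O.IsComplement' D := isComplement'_of_card_mul_and_disjoint
    (by rw [hcard, Subgroup.card_mul_index])
    (disjoint_iff.2 ((eq_bot_iff_forall _).2 fun d hd => hcop d hd.2 hd.1))
  obtain ⟨⟨o, s⟩, hos, -⟩ := hcompl.existsUnique c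
  exact ⟨o, o.2, s, (mem_inf.1 (mem_subgroupOf.1 s.2)).1, hos.symm⟩

/-- A `p'`-element of the normalizer fixing a nonidentity element of `P` centralizes `P`. -/
theorem fpf {n u : G} (hn : n ∈ normalizer ((P : Subgroup G) : Set G)) (hn' : ¬ p ∣ orderOf n)
    (hu : u ∈ (P : Subgroup G)) (hu1 : u ≠ 1) (hnu : n * u = u * n) :
    ∀ v ∈ (P : Subgroup G), n * v = v * n := by
  have key : ∀ w ∈ (P : Subgroup G), w ≠ 1 → n * w = w * n →
      ∀ v ∈ (P : Subgroup G), v * w = w * v → n * v = v * n := by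
    intro w hw hw1 hnw v hv hvw
    haveI := CfsgLib.Solvable.pPrimeCore_normal (G := centralizer ({w} : Set G)) p
    haveI := Fintype.ofFinite G
    set n' : centralizer ({w} : Set G) := ⟨n, mem_centralizer_singleton_iff.2 hnw⟩
    set v' : centralizer ({w} : Set G) := ⟨v, mem_centralizer_singleton_iff.2 hvw⟩
    have hno := H.mem_core hw hw1 n' hn'
    have hmem : v' * n' * v'⁻¹ * n'⁻¹ ∈ core p w :=
      mul_mem (Normal.conj_mem inferInstance _ hno v') (inv_mem hno)
    have hP : v * n * v⁻¹ * n⁻¹ ∈ (P : Subgroup G) := by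
      rw [show v * n * v⁻¹ * n⁻¹ = v * (n * v⁻¹ * n⁻¹) by group]
      exact mul_mem hv ((mem_normalizer_iff.1 hn _).1 (inv_mem hv))
    have h1 : v * n * v⁻¹ * n⁻¹ = 1 := eq_one_of_mem_p_of_not_dvd P.2 hP (by
      have := SectionCount.not_dvd_orderOf (G := G) Fact.out hmem
      rwa [← Subgroup.orderOf_coe] at this)
    calc n * v = (v * n * v⁻¹ * n⁻¹)⁻¹ * v * n := by group
      _ = v * n := by rw [h1]; group
  obtain ⟨x, hx, hxo, hxc⟩ := H.exists_central
  have hx1 : x ≠ 1 := fun h => (Fact.out : p.Prime).ne_one (by rw [← hxo, h, orderOf_one])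
  intro v hv
  exact key x hx hx1 (key u hu hu1 hnu x hx (hxc u hu).symm) v hv (hxc v hv)

/-- There is no nontrivial normal `p`-subgroup. -/
theorem pCore_eq_bot : Cfsg.pCore p G = ⊥ := by
  by_contra hne
  set R := Cfsg.pCore p G
  haveI hRn : R.Normal := CfsgLib.Solvable.pCore_normal p
  have hRp : IsPGroup p R := CfsgLib.Solvable.isPGroup_pCore (p := p)
  have hRP : R ≤ P := sup_eq_right.1 (P.3 (hRp.to_sup_of_normal_left P.2) le_sup_right)
  obtain ⟨r, hr, hr1⟩ : ∃ r ∈ R, r ≠ 1 := by
    by_contra h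
    push Not at h
    exact hne ((eq_bot_iff_forall _).2 h)
  -- a normal subgroup with a normal complement is a `p`-group
  have hnil : ∀ N : Subgroup G, N.Normal → Cfsg.HasNormalPComplement p N → IsPGroup p N := by
    intro N hN hc
    haveI := hN
    obtain ⟨Q, M, hM, hMQ⟩ := hc
    haveI := hM
    have hcop : (Nat.card M).Coprime p := by
      rw [← hMQ.index_eq_card]
      exact ((Fact.out : p.Prime).coprime_iff_not_dvd.2 Q.not_dvd_index).symm
    have hle : (Cfsg.pPrimeCore p N).map N.subtype ≤ Cfsg.pPrimeCore p G := by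
      haveI : ((Cfsg.pPrimeCore p N).map N.subtype).Normal := by
        haveI : (Cfsg.pPrimeCore p N).Characteristic := characteristic_iff_map_le.2 fun φ =>
          CfsgLib.Solvable.le_pPrimeCore p
            ((CfsgLib.Solvable.pPrimeCore_normal (G := N) p).map φ.toMonoidHom φ.surjective)
            (by
              rw [card_map_of_injective φ.injective]
              exact CfsgLib.Solvable.coprime_card_pPrimeCore p)
        exact ConjAct.normal_of_characteristic_of_normal
      refine CfsgLib.Solvable.le_pPrimeCore p inferInstance ?_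
      rw [card_map_of_injective N.subtype_injective]
      exact CfsgLib.Solvable.coprime_card_pPrimeCore p
    rw [H.core_bot, le_bot_iff, map_eq_bot_iff_of_injective _ N.subtype_injective] at hle
    have hM1 : M = ⊥ := le_bot_iff.1 (hle ▸ CfsgLib.Solvable.le_pPrimeCore p hM hcop)
    have hQ : (Q : Subgroup N) = ⊤ := by rwa [hM1, isComplement'_bot_left] at hMQ
    exact (hQ ▸ Q.2 : IsPGroup p (⊤ : Subgroup N)).of_equiv topEquiv
  -- the centralizer of the core is a `p`-group
  haveI hCn : (centralizer (R : Set G)).Normal := Subgroup.normal_centralizer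
  have hCR : centralizer (R : Set G) ≤ R := by
    refine le_sSup ⟨hCn, hnil _ hCn ?_⟩
    refine PResidual.hasNormalPComplement_of_injective (inclusion (centralizer_le ?_))
      (inclusion_injective _) (H.cent_of_ne_one (hRP hr) hr1)
    exact Set.singleton_subset_iff.2 hr
  obtain ⟨x, hx, hxo, hxc⟩ := H.exists_central
  have hxR : x ∈ centralizer (R : Set G) := mem_centralizer_iff.2 fun v hv => hxc v (hRP hv)
  have hx1 : x ≠ 1 := fun h => (Fact.out : p.Prime).ne_one (by rw [← hxo, h, orderOf_one])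
  -- the conjugates of `x` are central in `P`
  set A := normalClosure ({x} : Set G)
  have hAC : A ≤ centralizer ((P : Subgroup G) : Set G) := by
    rw [show A = Subgroup.closure (Group.conjugatesOfSet ({x} : Set G)) from rfl, closure_le]
    intro y hy
    obtain ⟨z, hz, hzy⟩ := Group.mem_conjugatesOfSet_iff.1 hy
    rw [Set.mem_singleton_iff] at hz
    subst hz
    obtain ⟨g, rfl⟩ := isConj_iff.1 hzy
    exact mem_centralizer_iff.2 fun v hv =>
      H.central_of_conj hx hxc (hRP (hCR (hCn.conj_mem _ hxR g))) v hv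
  haveI hAn : A.Normal := normalClosure_normal
  haveI hCAn : (centralizer (A : Set G)).Normal := Subgroup.normal_centralizer
  have hxA : x ∈ A := subset_normalClosure (Set.mem_singleton x)
  have hPC : (P : Subgroup G) ≤ centralizer (A : Set G) := fun v hv =>
    mem_centralizer_iff.2 fun a ha => ((mem_centralizer_iff.1 (hAC ha)) v hv).symm
  have hCAp : IsPGroup p (centralizer (A : Set G)) := hnil _ hCAn
    (PResidual.hasNormalPComplement_of_injective (inclusion (centralizer_le
      (Set.singleton_subset_iff.2 hxA))) (inclusion_injective _) (H.cent x hx hxo))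
  exact H.not_normal (P.3 hCAp hPC ▸ hCAn)

end Hyp

end CfsgLib.PairSolv
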