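import Cfsg.Agent.PairSolv.AbelianBasics
import Cfsg.Agent.PairSolv.Abelian
import Cfsg.Agent.Char.OddFrobeniusCoherence

/-!
# Nonabelian `P`: a member of the principal block constant on a central subgroup
-/

set_option autoImplicit false
set_option linter.unusedSectionVars false
set_option linter.style.haveILetI false
set_option maxHeartbeats 1000000

namespace CfsgLib.PairSolv

open Finset CfsgLib.Block CfsgLib.Block.Chr CfsgLib.Char CfsgLib.SectionCount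
open scoped ComplexConjugate commutatorElement
open scoped Classical

universe u

variable {G : Type u} [Group G] [Fintype G] {p : ℕ} [Fact p.Prime] {P : Sylow p G}
  [Fintype (NQ P)]

theorem isConj_inv_odd {L : Type*} [Group L] [Finite L] (hodd : Odd (Nat.card L)) {a : L}
    (h : IsConj a a⁻¹) : a * a = 1 := by
  obtain ⟨l, hl⟩ := isConj_iff.1 h
  have h2 : Commute (l ^ 2) a := by
    have e : l ^ 2 * a * (l ^ 2)⁻¹ = a := by
      calc l ^ 2 * a * (l ^ 2)⁻¹ = l * (l * a * l⁻¹) * l⁻¹ := by rw [pow_two]; group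
        _ = l * a⁻¹ * l⁻¹ := by rw [hl]
        _ = (l * a * l⁻¹)⁻¹ := by group
        _ = a := by rw [hl, inv_inv]
    exact mul_inv_eq_iff_eq_mul.1 e
  obtain ⟨k, hk⟩ : Odd (orderOf l) := hodd.of_dvd_nat (orderOf_dvd_natCard l)
  have hl2 : (l ^ 2) ^ (k + 1) = l := by
    rw [← pow_mul, show 2 * (k + 1) = orderOf l + 1 by omega, pow_succ, pow_orderOf_eq_one, one_mul]
  have hc : Commute l a := hl2 ▸ h2.pow_left _
  rw [hc.eq, mul_inv_cancel_right] at hl
  nth_rw 1 [hl]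
  exact inv_mul_cancel a

namespace Hyp

variable (H : Hyp P)
include H

/-- An invariant function on `P` as a class function of the quotient. -/
theorem exists_lift {r : ↥(P : Subgroup G) → ℂ} (hr : Inv P r) :
    ∃ F : NQ P → ℂ, Cfsg.IsClassFunction (NQ P) F ∧ (∀ w, w ≠ 1 → F (emb P w) = r w) ∧ F 1 = 0 ∧
      ∀ l, l ∉ Ker P → F l = 0 := by
  let F : NQ P → ℂ := fun l => if hl : ∃ w, w ≠ 1 ∧ emb P w = l then r hl.choose else 0
  have hF : ∀ w, w ≠ 1 → F (emb P w) = r w := fun w hw => by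
    have hl : ∃ w', w' ≠ 1 ∧ emb P w' = emb P w := ⟨w, hw, rfl⟩
    simp only [F, dif_pos hl]
    rw [emb_injective hl.choose_spec.2]
  refine ⟨F, fun l g => ?_, hF, dif_neg fun ⟨w, hw, he⟩ => hw (emb_injective (by rw [he, map_one])),
    fun l hl => dif_neg fun ⟨w, _, he⟩ => hl ⟨w, he⟩⟩
  by_cases hl : ∃ w, w ≠ 1 ∧ emb P w = l
  · obtain ⟨w, hw, rfl⟩ := hl
    obtain ⟨w', hw'⟩ : g * emb P w * g⁻¹ ∈ Ker P := ker_normal.conj_mem _ ⟨w, rfl⟩ g
    have hw1 : w' ≠ 1 := fun e => hw (emb_injective (by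
      rw [e, map_one, eq_comm, conj_eq_one_iff] at hw'; rw [hw', map_one]))
    rw [← hw', hF _ hw1, hF _ hw]
    exact (hr w w' ((H.emb_isConj_iff w w').1 (isConj_iff.2 ⟨g, hw'.symm⟩))).symm
  · have hl' : ¬ ∃ w, w ≠ 1 ∧ emb P w = g * l * g⁻¹ := by
      rintro ⟨w, hw, he⟩
      obtain ⟨w', hw'⟩ : g⁻¹ * emb P w * g⁻¹⁻¹ ∈ Ker P := ker_normal.conj_mem _ ⟨w, rfl⟩ g⁻¹
      refine hl ⟨w', fun e => hw (emb_injective ?_), ?_⟩
      · rw [e, map_one, eq_comm, conj_eq_one_iff] at hw'; rw [hw', map_one]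
      · rw [hw', he]; group
    simp only [F, dif_neg hl, dif_neg hl']

variable {M : Ideal Cfsg.AlgInt} [M.IsPrime] [Fintype (Cfsg.IrrCharacter G)]

/-- For odd `p` and nonabelian `P` a character is found. -/
theorem found_nonabelian (hM : Cfsg.IsPModular p M) (hp2 : p ≠ 2)
    (hna : ¬ ∀ u v : ↥(P : Subgroup G), u * v = v * u) : Found P M := by
  have hp : p.Prime := Fact.out
  set K := Ker P with hKdef
  haveI : Fintype K := Fintype.ofFinite _
  have hCK := H.ker_cent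
  have hnaK : ¬ IsMulCommutative K := fun h => hna fun u v =>
    emb_injective (by
      have e := h.1.comm ⟨emb P u, ⟨u, rfl⟩⟩ ⟨emb P v, ⟨v, rfl⟩⟩
      rw [map_mul, map_mul]
      exact congrArg Subtype.val e)
  have hodd : Odd (Nat.card (NQ P)) := by
    obtain ⟨j, hj⟩ := IsPGroup.iff_card.1 (ker_isPGroup (P := P))
    rw [← H.card_NQ, hj]
    exact ((hp.odd_of_ne_two hp2).pow).mul (frob_odd_index hCK hnaK)
  haveI hnilK : Group.IsNilpotent K := (ker_isPGroup (P := P)).isNilpotent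
  have hsolv : Group.IsSolvable K := inferInstance
  haveI : Nontrivial K := (Subgroup.nontrivial_iff_ne_bot _).2 H.ker_ne_bot
  have hKL : K < ⊤ := lt_top_iff_ne_top.2 H.ker_ne_top
  have hmapD : (commutator K).map K.subtype = ⁅K, K⁆ := by
    rw [commutator_def, Subgroup.map_commutator, ← MonoidHom.range_eq_map, Subgroup.range_subtype]
  have hH₁K : ⁅K, K⁆ < K := by
    rw [← hmapD]
    refine lt_of_le_of_ne (Subgroup.map_subtype_le _) fun h => ?_
    refine (Group.IsSolvable.commutator_lt_top_of_nontrivial K).ne ?_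
    refine Subgroup.map_injective K.subtype_injective ?_
    rw [h, ← MonoidHom.range_eq_map, Subgroup.range_subtype]
  have hfrob := frob_mod_commutator hCK
  set S := Cfsg.inducedIrrAbove K ⊥ with hSdef
  have hirrS : ∀ φ ∈ S, Cfsg.IsIrrCharacter (NQ P) φ := fun φ hφ => by
    obtain ⟨θ, h1, h2, -, rfl⟩ := hφ
    exact isIrrCharacter_indFun_of_centralizer_le hCK h1 h2
  have hoff : ∀ φ ∈ S, ∀ l, l ∉ K → φ l = 0 := fun φ hφ l hl => by
    obtain ⟨θ, -, -, -, rfl⟩ := hφ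
    exact indFun_eq_zero_of_normal θ hl
  have hneS : ∀ φ ∈ S, Cfsg.conjFun φ ≠ φ := fun φ hφ h => by
    obtain ⟨θ, h1, h2, -, rfl⟩ := id hφ
    have h0 : Cfsg.classInner (Cfsg.conjFun (Cfsg.indFun K θ)) (Cfsg.indFun K θ) = 0 :=
      classInner_conj_indFun_eq_zero hodd h1 h2
    rw [h, IsIrrCharacter.classInner_self (hirrS _ hφ)] at h0
    exact one_ne_zero h0
  obtain ⟨hτ, hτ1⟩ := H.tau_isometry S (fun φ hφ => IsIrrCharacter.isGeneralized (hirrS φ hφ)) hoff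
  obtain ⟨ψ₁, hψ₁, -⟩ := exists_linear_aboveInd (L := NQ P) (K := K) (A := ⁅K, K⁆) hsolv hH₁K
  obtain ⟨R, hS⟩ := exists_coherenceSystem S
    ⟨ψ₁, inducedIrrAbove_subset_bot K _ (mem_aboveInd.1 hψ₁)⟩ hirrS
    (fun φ hφ => ⟨conjFun_mem_inducedIrrAbove hφ, hneS φ hφ⟩) (τ := tau P) hτ hτ1
  -- the central subgroup
  set Z : Subgroup (NQ P) := (commutator K ⊓ Subgroup.center K).map K.subtype with hZdef
  haveI hZnorm : Z.Normal := by
    haveI : (commutator K ⊓ Subgroup.center K).Characteristic :=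
      Subgroup.characteristic_iff_map_eq.2 fun e => by
        rw [Subgroup.map_inf _ _ _ e.injective,
          Subgroup.characteristic_iff_map_eq.1 inferInstance e,
          Subgroup.characteristic_iff_map_eq.1 inferInstance e]
    exact ConjAct.normal_of_characteristic_of_normal
  have hcne : commutator K ≠ ⊥ := fun h => hnaK ⟨⟨fun a b => by
    have hm : ⁅a, b⁆ ∈ commutator K := Subgroup.commutator_mem_commutator trivial trivial
    rw [h, Subgroup.mem_bot] at hm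
    exact commutatorElement_eq_one_iff_mul_comm.1 hm⟩⟩
  have hZ1 : Z ≠ ⊥ := by
    haveI : Fact p.Prime := ⟨hp⟩
    obtain ⟨j, hj⟩ := IsPGroup.iff_card.1 (ker_isPGroup (P := P))
    exact fun h => CfsgLib.PGroupBasic.inf_center_ne_bot (commutator K) hcne
      ((Subgroup.map_eq_bot_iff_of_injective _ K.subtype_injective).1 h)
  have hZD : Z ≤ ⁅K, K⁆ := hmapD ▸ Subgroup.map_mono inf_le_left
  have hZK : Z ≤ K := Subgroup.map_subtype_le _
  have hZc : ∀ z ∈ Z, ∀ k ∈ K, z * k = k * z := by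
    rintro _ ⟨z, hz, rfl⟩ k hk
    exact congrArg Subtype.val (Subgroup.mem_center_iff.1 hz.2 ⟨k, hk⟩).symm
  -- the two coherent pieces
  have hirrX : ∀ χ ∈ S \ Cfsg.inducedIrrAbove K Z, Cfsg.IsIrrCharacter (NQ P) χ := fun χ h => hirrS χ h.1
  have hcohX := coherent_nontrivial_central hsolv hS hodd hnilK hH₁K hKL hfrob Z hZ1 hZK hZc hirrX
  have hXset := inducedIrrAbove_sdiff_eq (K := K) hZK hirrX
  have hcohY := coherent_above_commutator hsolv hS ⁅K, K⁆ hH₁K le_rfl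
  set X : Finset (NQ P → ℂ) := aboveInd K ⊥ \ aboveInd K Z with hXdef
  set Y : Finset (NQ P → ℂ) := aboveInd K ⁅K, K⁆ with hYdef
  have hXcoe : (↑X : Set (NQ P → ℂ)) = S \ Cfsg.inducedIrrAbove K Z := by
    rw [hXdef, Finset.coe_sdiff, coe_aboveInd, coe_aboveInd]
  have hYcoe : (↑Y : Set (NQ P → ℂ)) = Cfsg.inducedIrrAbove K ⁅K, K⁆ := coe_aboveInd _ _
  have hXS : ↑X ⊆ S := hXcoe ▸ Set.sdiff_subset
  have hYS : ↑Y ⊆ S := hYcoe ▸ inducedIrrAbove_subset_bot K _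
  rw [← hXcoe] at hcohX hXset
  rw [← hYcoe] at hcohY
  obtain ⟨-, σ, hσ, hσα⟩ := hcohX
  obtain ⟨-, τ₁, hτ₁, hτ₁α⟩ := hcohY
  have hYsub : Cfsg.inducedIrrAbove K ⁅K, K⁆ ⊆ Cfsg.inducedIrrAbove K Z :=
    inducedIrrAbove_anti (inf_le_left.trans hZD)
  have hXY : ∀ φ ∈ X, φ ∉ Y := fun φ hφ hφ' =>
    (Finset.mem_sdiff.1 hφ).2 (mem_aboveInd.2 (hYsub (mem_aboveInd.1 hφ')))
  have hXc : ∀ φ ∈ X, Cfsg.conjFun φ ∈ X := fun φ hφ => by
    rw [hXdef, Finset.mem_sdiff, mem_aboveInd, mem_aboveInd] at hφ ⊢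
    exact ⟨conjFun_mem_inducedIrrAbove hφ.1, fun h => hφ.2 (by
      simpa [conjFun_conjFun] using conjFun_mem_inducedIrrAbove h)⟩
  have hψ₁c : Cfsg.conjFun ψ₁ ∈ Y :=
    mem_aboveInd.2 (conjFun_mem_inducedIrrAbove (mem_aboveInd.1 hψ₁))
  obtain ⟨z, hz1⟩ := Subgroup.ne_bot_iff_exists_ne_one.1 hZ1
  obtain ⟨x₀, hx₀⟩ : X.Nonempty := by
    have hsep : ∃ χ, Cfsg.IsIrrCharacter (NQ P) χ ∧ χ z ≠ χ 1 := by
      by_contra h
      push Not at h
      exact hz1 (Subtype.ext (isConj_one_left.1 ((isConj_iff_irr_eq (z : NQ P) 1).2 h)))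
    obtain ⟨χ, hχ, hne⟩ := hsep
    exact ⟨χ, Finset.mem_coe.1 (by rw [hXset]; exact ⟨hχ, z, z.2, hne⟩)⟩
  obtain ⟨horth, -⟩ := coherence_union hirrS hXS hYS (Set.disjoint_left.2 hXY)
    ⟨x₀, hx₀, _, hXc x₀ hx₀, Ne.symm (hneS x₀ (hXS hx₀))⟩
    ⟨ψ₁, hψ₁, _, hψ₁c, Ne.symm (hneS ψ₁ (hYS hψ₁))⟩ hτ hτ1 hσ hσα hτ₁ hτ₁α
  -- the character
  set ψ := τ₁ ψ₁ with hψdef
  have hψg : Cfsg.IsGeneralizedCharacter G ψ := hτ₁.2.2.2 _ (subset_zspan hψ₁)
  obtain ⟨η, hη⟩ : ∃ η : Cfsg.IrrCharacter G, ψ = (η : G → ℂ) ∨ ψ = -(η : G → ℂ) := by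
    rcases IsGeneralized.isIrr_or_neg hψg (by
      rw [hψdef, hτ₁.2.2.1 _ (subset_zspan hψ₁) _ (subset_zspan hψ₁),
        IsIrrCharacter.classInner_self (hirrS ψ₁ (hYS hψ₁))]) with h | h
    · exact ⟨⟨ψ, h⟩, Or.inl rfl⟩
    · exact ⟨⟨-ψ, h⟩, Or.inr (neg_neg ψ).symm⟩
  have hψ₁irr := hirrS ψ₁ (hYS hψ₁)
  have hψ₁cirr := hirrS _ (hYS hψ₁c)
  set δ := ψ₁ - Cfsg.conjFun ψ₁ with hδdef
  have hδ : δ ∈ Cfsg.zspanOn (↑Y : Set (NQ P → ℂ)) ({1}ᶜ : Set (NQ P)) :=
    mem_zspanOn_one.2 ⟨Submodule.sub_mem _ (subset_zspan hψ₁) (subset_zspan hψ₁c), by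
      obtain ⟨d, -, hd⟩ := IsIrrCharacter.exists_degree hψ₁irr
      simp [δ, Cfsg.conjFun, hd]⟩
  have hδc : Cfsg.IsClassFunction (NQ P) δ := fun l g => by
    simp only [δ, Pi.sub_apply, IsIrrCharacter.isClassFunction hψ₁irr l g,
      IsIrrCharacter.isClassFunction hψ₁cirr l g]
  have hδψ : Cfsg.classInner (tau P δ) ψ = 1 := by
    have hsub : τ₁ δ = τ₁ ψ₁ - τ₁ (Cfsg.conjFun ψ₁) :=
      isometry_map_sub (M := Submodule.span ℤ (↑Y : Set (NQ P → ℂ))) hτ₁ (subset_zspan hψ₁)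
        (subset_zspan hψ₁c)
    rw [← hτ₁α δ hδ, hsub, hψdef, classInner_sub_left,
      hτ₁.2.2.1 _ (subset_zspan hψ₁) _ (subset_zspan hψ₁),
      hτ₁.2.2.1 _ (subset_zspan hψ₁c) _ (subset_zspan hψ₁),
      IsIrrCharacter.classInner_self hψ₁irr,
      IsIrrCharacter.classInner_of_ne hψ₁cirr hψ₁irr (hneS ψ₁ (hYS hψ₁)), sub_zero]
  have hδη : Cfsg.classInner (tau P δ) (η : G → ℂ) ≠ 0 := by
    intro h0
    rcases hη with e | e
    · rw [e, h0] at hδψ; exact zero_ne_one hδψ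
    · rw [e, show -(η : G → ℂ) = (-1 : ℂ) • (η : G → ℂ) by simp, classInner_smul_right, h0, mul_zero] at hδψ
      exact zero_ne_one hδψ
  have hLne : (Nat.card (NQ P) : ℂ) ≠ 0 := Nat.cast_ne_zero.2 Nat.card_pos.ne'
  have hηB : η ∈ Cfsg.principalBlock M G := by
    by_contra hn
    have h := H.inner_tau hM hδc η
    rw [if_neg hn] at h
    exact hδη ((mul_eq_zero.1 h).resolve_left hLne)
  have hη1 : η ≠ oneIrr G := by
    rintro rfl
    have h := H.inner_tau hM hδc (oneIrr G)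
    rw [if_pos oneIrr_mem_principalBlock] at h
    simp only [oneIrr_apply, map_one, mul_one] at h
    have hoffψ : ∀ l, l ∉ K → δ l = 0 := fun l hl => by
      rw [hδdef, Pi.sub_apply, hoff _ (hYS hψ₁) l hl, hoff _ (hYS hψ₁c) l hl, sub_zero]
    have hone : ∀ φ ∈ S, Cfsg.classInner φ (fun _ => 1) = 0 := fun φ hφ => by
      refine IsIrrCharacter.classInner_of_ne (hirrS φ hφ) isIrrCharacter_one fun e => ?_
      obtain ⟨l, hl⟩ : ∃ l, l ∉ K := by
        by_contra hh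
        push Not at hh
        exact H.ker_ne_top (eq_top_iff.2 fun l _ => hh l)
      have h2 := congrFun e l
      rw [hoff φ hφ l hl] at h2
      exact zero_ne_one h2
    have hsum : ∑ l, δ l = 0 := by
      have e := hone _ (hYS hψ₁)
      have e' := hone _ (hYS hψ₁c)
      simp only [Cfsg.classInner, map_one, mul_one] at e e'
      simp only [δ, Pi.sub_apply, sum_sub_distrib]
      rw [(mul_eq_zero.1 e).resolve_left (inv_ne_zero hLne),
        (mul_eq_zero.1 e').resolve_left (inv_ne_zero hLne), sub_zero]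
    rw [H.sum_emb (f := δ) hoffψ (mem_zspanOn_one.1 hδ).2, hsum] at h
    exact hδη ((mul_eq_zero.1 h).resolve_left hLne)
  -- constancy on the central subgroup
  obtain ⟨F, hFc, hFe, hF1, hFoff⟩ := H.exists_lift (r := fun u => (η : G → ℂ) u) fun a b h =>
    CfsgLib.Char.IsClassFunction.apply_eq_of_isConj (isClassFunction_irr η) h
  have hFinner : ∀ α : NQ P → ℂ, Cfsg.IsClassFunction (NQ P) α →
      Cfsg.classInner α F = Cfsg.classInner (tau P α) (η : G → ℂ) := by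
    intro α hα
    refine mul_left_cancel₀ hLne ?_
    rw [H.inner_tau hM hα η, if_pos hηB, Cfsg.classInner, ← mul_assoc, mul_inv_cancel₀ hLne, one_mul,
      ← H.sum_emb (f := fun l => α l * conj (F l)) (fun l hl => by rw [hFoff l hl, map_zero, mul_zero])
        (by rw [hF1, map_zero, mul_zero])]
    exact sum_congr rfl fun u hu => by rw [hFe u (mem_erase.1 hu).1]
  have hcoef : ∀ φ ∈ X, (cdeg x₀ : ℂ) * Cfsg.classInner F φ = (cdeg φ : ℂ) * Cfsg.classInner F x₀ := by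
    intro φ hφ
    set α := (cdeg x₀ : ℤ) • φ - (cdeg φ : ℤ) • x₀ with hαdef
    have hφirr := hirrS φ (hXS hφ)
    have hxirr := hirrS x₀ (hXS hx₀)
    have hmem : α ∈ Cfsg.zspanOn (↑X : Set (NQ P → ℂ)) ({1}ᶜ : Set (NQ P)) :=
      mem_zspanOn_one.2 ⟨Submodule.sub_mem _ (Submodule.smul_mem _ _ (subset_zspan hφ))
        (Submodule.smul_mem _ _ (subset_zspan hx₀)), by
        rw [hαdef, Pi.sub_apply, Pi.smul_apply, Pi.smul_apply, irr_apply_one_eq_cdeg hφirr,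
          irr_apply_one_eq_cdeg hxirr, zsmul_eq_mul, zsmul_eq_mul]
        push_cast
        ring⟩
    have hαc : Cfsg.IsClassFunction (NQ P) α := fun l g => by
      simp only [α, Pi.sub_apply, Pi.smul_apply, IsIrrCharacter.isClassFunction hφirr l g,
        IsIrrCharacter.isClassFunction hxirr l g]
    have hσ' : σ α = (cdeg x₀ : ℤ) • σ φ - (cdeg φ : ℤ) • σ x₀ := by
      rw [← hσ.2.1 _ (subset_zspan hφ), ← hσ.2.1 _ (subset_zspan hx₀)]
      exact isometry_map_sub (M := Submodule.span ℤ (↑X : Set (NQ P → ℂ))) hσ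
        (Submodule.smul_mem _ _ (subset_zspan hφ)) (Submodule.smul_mem _ _ (subset_zspan hx₀))
    have h0 : Cfsg.classInner (tau P α) (η : G → ℂ) = 0 := by
      have hz : Cfsg.classInner (σ α) ψ = 0 := by
        rw [hσ']
        simp only [← Int.cast_smul_eq_zsmul ℂ, classInner_sub_left, classInner_smul_left]
        rw [horth φ hφ ψ₁ hψ₁, horth x₀ hx₀ ψ₁ hψ₁]
        simp
      rw [← hσα α hmem]
      rcases hη with e | e
      · rwa [e] at hz
      · rw [e, show -(η : G → ℂ) = (-1 : ℂ) • (η : G → ℂ) by simp, classInner_smul_right] at hz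
        simpa using hz
    have h1 : Cfsg.classInner F α = 0 := by
      rw [← classInner_conj α F, hFinner α hαc, h0, map_zero]
    rw [hαdef] at h1
    simp only [← Int.cast_smul_eq_zsmul ℂ, classInner_sub_right, classInner_smul_right,
      map_intCast] at h1
    push_cast at h1
    exact sub_eq_zero.1 h1
  have hx₀0 : (cdeg x₀ : ℂ) ≠ 0 := by
    rw [← irr_apply_one_eq_cdeg (hirrS x₀ (hXS hx₀))]
    obtain ⟨d, hd0, hd⟩ := IsIrrCharacter.exists_degree (hirrS x₀ (hXS hx₀))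
    rw [hd]; exact Nat.cast_ne_zero.2 (by omega)
  have hconst : ∀ z ∈ Z, z ≠ 1 → ∀ z' ∈ Z, z' ≠ 1 → F z = F z' := by
    intro z hz hz1 z' hz' hz1'
    have htriv : ∀ φ ∈ irrFinset (NQ P), φ ∉ X → ∀ w ∈ Z, φ w = φ 1 := fun φ hφ hn w hw => by
      by_contra hne
      exact hn (Finset.mem_coe.1 (by rw [hXset]; exact ⟨mem_irrFinset.1 hφ, w, hw, hne⟩))
    have e1 := congrFun (eq_sum_irr hFc) z
    have e2 := congrFun (eq_sum_irr hFc) z'
    simp only [Finset.sum_apply, Pi.smul_apply, smul_eq_mul] at e1 e2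
    have r1 := congrFun (leftRegular_eq_sum (G := NQ P)) z
    have r2 := congrFun (leftRegular_eq_sum (G := NQ P)) z'
    rw [leftRegular_character, Finset.sum_apply] at r1 r2
    rw [if_neg hz1] at r1
    rw [if_neg hz1'] at r2
    simp only [Pi.smul_apply, smul_eq_mul] at r1 r2
    have key : ∀ φ ∈ irrFinset (NQ P), (cdeg x₀ : ℂ) * (Cfsg.classInner F φ * φ z - Cfsg.classInner F φ * φ z') =
        Cfsg.classInner F x₀ * (φ 1 * φ z - φ 1 * φ z') := by
      intro φ hφ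
      by_cases hn : φ ∈ X
      · rw [irr_apply_one_eq_cdeg (mem_irrFinset.1 hφ)]
        linear_combination (φ z - φ z') * hcoef φ hn
      · rw [htriv φ hφ hn z hz, htriv φ hφ hn z' hz']; ring
    refine sub_eq_zero.1 ((mul_eq_zero.1 ?_).resolve_left hx₀0)
    rw [e1, e2, ← sum_sub_distrib, mul_sum, sum_congr rfl key, ← mul_sum, sum_sub_distrib, ← r1, ← r2,
      sub_self, mul_zero]
  -- the element
  obtain ⟨w₀, hw₀⟩ := hZK z.2
  have hw₀1 : (w₀ : G) ≠ 1 := fun h => hz1 (Subtype.ext (by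
    rw [← hw₀, show w₀ = 1 from Subtype.ext h, map_one]; rfl))
  obtain ⟨x, hxZ, hxo, -⟩ := exists_order_p (P := (Z.comap (emb P)).map (P : Subgroup G).subtype)
    (P.2.to_le (Subgroup.map_subtype_le _)) (u := (w₀ : G))
    ⟨w₀, by rw [SetLike.mem_coe, Subgroup.mem_comap, hw₀]; exact z.2, rfl⟩ hw₀1
  obtain ⟨⟨x, hx⟩, hxZ', rfl⟩ := hxZ
  change orderOf x = p at hxo
  rw [SetLike.mem_coe, Subgroup.mem_comap] at hxZ'
  have hxu : (⟨x, hx⟩ : ↥(P : Subgroup G)) ≠ 1 := fun h =>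
    ne_one_of_orderOf hxo (congrArg Subtype.val h)
  have hxc : ∀ v ∈ (P : Subgroup G), v * x = x * v := fun v hv => by
    have e := hZc _ hxZ' (emb P ⟨v, hv⟩) ⟨_, rfl⟩
    rw [← map_mul, ← map_mul] at e
    exact (congrArg Subtype.val (emb_injective e)).symm
  have hne : ∀ π ∈ (P : Subgroup G), IsConj x π → x * π ≠ 1 := fun π hπ hc h => by
    have hc' := (H.emb_isConj_iff ⟨x, hx⟩ ⟨π, hπ⟩).2 hc
    rw [show (⟨π, hπ⟩ : ↥(P : Subgroup G)) = ⟨x, hx⟩⁻¹ from Subtype.ext (eq_inv_of_mul_eq_one_right h),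
      map_inv] at hc'
    have h2 := isConj_inv_odd hodd hc'
    rw [← map_mul] at h2
    have h3 : x * x = 1 := congrArg Subtype.val (emb_injective (h2.trans (map_one _).symm))
    exact hp2 ((Nat.prime_dvd_prime_iff_eq hp Nat.prime_two).1
      (hxo ▸ orderOf_dvd_of_pow_eq_one (by rw [pow_two, h3])))
  refine ⟨η, hηB, hη1, x, hx, hxo, hxc, H.apply_eq_degree hM hηB hx hxo hxc hxo rfl hne fun π hπ hc => ?_⟩
  have hπZ : emb P ⟨π, hπ⟩ ∈ Z := by
    obtain ⟨l, hl⟩ := isConj_iff.1 ((H.emb_isConj_iff ⟨x, hx⟩ ⟨π, hπ⟩).2 hc)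
    rw [← hl]
    exact hZnorm.conj_mem _ hxZ' l
  have hu : (⟨x, hx⟩ * ⟨π, hπ⟩ : ↥(P : Subgroup G)) ≠ 1 := fun h =>
    hne π hπ hc (congrArg Subtype.val h)
  have e := hconst (emb P (⟨x, hx⟩ * ⟨π, hπ⟩)) (by rw [map_mul]; exact mul_mem hxZ' hπZ)
    (fun h => hu (emb_injective (h.trans (map_one _).symm))) _ hxZ'
    (fun h => hxu (emb_injective (h.trans (map_one _).symm)))
  rw [hFe _ hu, hFe _ hxu] at e
  exact e

end Hyp

end CfsgLib.PairSolv
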