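import Cfsg.Agent.PairSolv.AbelianMain
import Cfsg.Agent.PairSolv.NonAbelian
import Cfsg.Agent.Blocks.Congr
import Cfsg.Agent.Fusion.HGen.Stab
import Cfsg.Agent.PLocal.PConstrained
import Cfsg.Agent.KGroup.Terminal

/-!
# The prime is two

For odd `p` the kernel of the character found is a smaller group with the same hypotheses.
-/

set_option autoImplicit false
set_option linter.unusedSectionVars false
set_option linter.style.haveILetI false

namespace CfsgLib.PairSolv

open Subgroup CfsgLib.Block CfsgLib.Block.Chr CfsgLib.Char CfsgLib.SectionCount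

universe u

variable {G : Type u} [Group G] [Finite G] {p : ℕ} [Fact p.Prime] {P : Sylow p G}

/-- A normal subgroup containing the cores of centralizers and a nonidentity element of `P`. -/
theorem Hyp.restrict (H : Hyp P) (K : Subgroup G) [K.Normal] {x : G} (hx : x ∈ (P : Subgroup G))
    (hxK : x ∈ K) (hx1 : x ≠ 1)
    (hcore : ∀ w ∈ (P : Subgroup G), orderOf w = p → ∀ v : G, v * w = w * v → ¬ p ∣ orderOf v → v ∈ K) :
    ∃ Q : Sylow p K, Hyp Q := by
  obtain ⟨Q, hQ⟩ := CfsgLib.Fusion.exists_sylow_normal P K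
  have hmem : ∀ a : K, a ∈ (Q : Subgroup K) ↔ (a : G) ∈ (P : Subgroup G) := fun a => by
    rw [← mem_map_iff_mem K.subtype_injective, hQ, Subgroup.coe_subtype, mem_inf, and_iff_left a.2]
  refine ⟨Q, ?_, fun hn => ?_, ?_, ?_, ?_⟩
  · haveI : (Cfsg.pPrimeCore p K).Characteristic := characteristic_iff_map_le.2 fun φ =>
      CfsgLib.Terminal.map_pPrimeCore_le φ
    haveI : ((Cfsg.pPrimeCore p K).map K.subtype).Normal := ConjAct.normal_of_characteristic_of_normal
    have h := CfsgLib.Solvable.le_pPrimeCore p (N := (Cfsg.pPrimeCore p K).map K.subtype) inferInstance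
      (by rw [card_map_of_injective K.subtype_injective]; exact CfsgLib.Solvable.coprime_card_pPrimeCore p)
    rwa [H.core_bot, le_bot_iff, map_eq_bot_iff_of_injective _ K.subtype_injective] at h
  · haveI := hn
    haveI := Sylow.characteristic_of_normal Q hn
    haveI : ((Q : Subgroup K).map K.subtype).Normal := ConjAct.normal_of_characteristic_of_normal
    have h := CfsgLib.Solvable.le_pCore p (N := (Q : Subgroup K).map K.subtype) inferInstance (Q.2.map _)
    rw [H.pCore_eq_bot, le_bot_iff, hQ] at h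
    exact hx1 (mem_bot.1 (h ▸ (mem_inf.2 ⟨hx, hxK⟩)))
  · intro a ha b hb ⟨k, hk⟩
    by_cases ha1 : a = 1
    · refine ⟨1, one_mem _, ?_⟩
      rw [ha1, mul_one, mul_inv_cancel] at hk
      rw [ha1, ← hk]; group
    have ha1' : (a : G) ≠ 1 := fun h => ha1 (Subtype.ext h)
    have haP := (hmem a).1 ha
    have hk' : (k : G) * a * (k : G)⁻¹ = b := congrArg Subtype.val hk
    obtain ⟨n, hn, hne⟩ := H.fusion a haP b ((hmem b).1 hb) ⟨k, hk'⟩
    have hc : (k : G)⁻¹ * n ∈ centralizer ({(a : G)} : Set G) := mem_centralizer_singleton_iff.2 (by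
      calc (k : G)⁻¹ * n * a = (k : G)⁻¹ * (n * a * n⁻¹) * n := by group
        _ = (k : G)⁻¹ * ((k : G) * a * (k : G)⁻¹) * n := by rw [hne, hk']
        _ = a * ((k : G)⁻¹ * n) := by group)
    obtain ⟨o, ho, s, hs, hdec⟩ := H.cent_decomp haP ha1' ⟨_, hc⟩
    obtain ⟨w, hw, hwo, hle⟩ := exists_order_p P.2 haP ha1'
    haveI := Fintype.ofFinite G
    have hoK : (o : G) ∈ K := hcore w hw hwo o (mem_centralizer_singleton_iff.1 (hle o.2))
      (by rw [Subgroup.orderOf_coe]; exact SectionCount.not_dvd_orderOf Fact.out ho)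
    have hn' : (k : G) * o = n * (s : G)⁻¹ := by
      have h := congrArg Subtype.val hdec
      change (k : G)⁻¹ * n = (o : G) * s at h
      calc (k : G) * o = (k : G) * ((o : G) * s) * (s : G)⁻¹ := by group
        _ = n * (s : G)⁻¹ := by rw [← h]; group
    have hnor : (k : G) * o ∈ normalizer ((P : Subgroup G) : Set G) :=
      hn' ▸ mul_mem hn (inv_mem (le_normalizer hs))
    refine ⟨k * ⟨o, hoK⟩, mem_normalizer_iff.2 fun v => ?_, Subtype.ext ?_⟩
    · rw [hmem, hmem]
      exact mem_normalizer_iff.1 hnor v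
    · push_cast
      rw [hn']
      have hsa := mem_centralizer_singleton_iff.1 (inv_mem s.2)
      calc n * (s : G)⁻¹ * a * (n * (s : G)⁻¹)⁻¹ = n * ((s : G)⁻¹ * a) * s * n⁻¹ := by group
        _ = n * (a * (s : G)⁻¹) * s * n⁻¹ := by rw [hsa]
        _ = b := by rw [← hne]; group
  · intro a ha hao
    have h : ∀ v : centralizer ({a} : Set K), ((v : K) : G) ∈ centralizer ({(a : G)} : Set G) := fun v =>
      mem_centralizer_singleton_iff.2 (congrArg Subtype.val (mem_centralizer_singleton_iff.1 v.2))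
    refine PResidual.hasNormalPComplement_of_injective
      (MonoidHom.codRestrict (K.subtype.comp (centralizer ({a} : Set K)).subtype) _ h)
      ((MonoidHom.injective_codRestrict _ _ h).2 (K.subtype_injective.comp (Subtype.val_injective)))
      (H.cent a ((hmem a).1 ha) (by rw [Subgroup.orderOf_coe]; exact hao))
  · intro a b ha hb
    have hle : (closure ({a, b} : Set K)).map K.subtype ≤ closure ({(a : G), (b : G)} : Set G) := by
      rw [MonoidHom.map_closure]
      exact closure_mono (by rintro _ ⟨v, hv | hv, rfl⟩ <;> simp_all)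
    have h : ∀ v : closure ({a, b} : Set K), ((v : K) : G) ∈ closure ({(a : G), (b : G)} : Set G) :=
      fun v => hle ⟨v, v.2, rfl⟩
    exact CfsgLib.PConstrained.isPSolvable_comap
      (MonoidHom.codRestrict (K.subtype.comp (closure ({a, b} : Set K)).subtype) _ h)
      ((MonoidHom.injective_codRestrict _ _ h).2 (K.subtype_injective.comp (Subtype.val_injective)))
      (H.pairs a b (by rw [Subgroup.orderOf_coe]; exact ha) (by rw [Subgroup.orderOf_coe]; exact hb))

open scoped Classical in
/-- For odd `p` there is a smaller counterexample. -/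
theorem Hyp.exists_smaller (H : Hyp P) (hp2 : p ≠ 2) :
    ∃ K : Subgroup G, Nat.card K < Nat.card G ∧ ∃ Q : Sylow p K, Hyp Q := by
  have hp : p.Prime := Fact.out
  haveI := Fintype.ofFinite G
  haveI := Fintype.ofFinite (NQ P)
  letI := irrFintype (G := G)
  obtain ⟨M, hM⟩ := CfsgLib.Block.exists_isPModular hp
  haveI : M.IsPrime := hM.2.1.isPrime
  obtain ⟨χ, hχB, hχ1, x, hx, hxo, hxc, hχx⟩ : Found P M := by
    by_cases hab : ∀ u v : ↥(P : Subgroup G), u * v = v * u
    · exact H.found_abelian hM hab hp2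
    · exact H.found_nonabelian hM hp2 hab
  have hχc := isCharacter_irr χ
  haveI := CfsgLib.Char.kerSubgroup_normal hχc
  set K := CfsgLib.Char.kerSubgroup hχc with hK
  have hKtop : K ≠ ⊤ := by
    intro htop
    have hall : ∀ g, (χ : G → ℂ) g = (χ : G → ℂ) 1 := fun g =>
      (mem_kerSubgroup hχc g).1 (by rw [← hK, htop]; exact mem_top g)
    have h := CfsgLib.Block.Chr.classInner_irr χ (oneIrr G)
    rw [if_neg hχ1, Cfsg.classInner] at h
    simp only [oneIrr_apply, map_one, mul_one, Finset.sum_congr rfl fun g (_ : g ∈ Finset.univ) => hall g,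
      Finset.sum_const, nsmul_eq_mul] at h
    obtain ⟨d, hd0, hd⟩ := IsIrrCharacter.exists_degree χ.2
    rw [hd] at h
    rcases mul_eq_zero.1 h with h | h
    · exact inv_ne_zero (Nat.cast_ne_zero.2 Nat.card_pos.ne') h
    · rcases mul_eq_zero.1 h with h | h
      · exact Finset.card_ne_zero_of_mem (Finset.mem_univ (1 : G)) (Nat.cast_eq_zero.1 h)
      · exact (show d ≠ 0 by omega) (Nat.cast_eq_zero.1 h)
  have hxK : x ∈ K := hχx
  have hlt : Nat.card K < Nat.card G := lt_of_le_of_ne (Subgroup.card_le_card_group _)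
    fun h => hKtop (Subgroup.eq_top_of_card_eq _ h)
  refine ⟨K, hlt, H.restrict K hx hxK (ne_one_of_orderOf hxo) fun w hw hwo v hvw hv => ?_⟩
  -- a core element is moved into the centralizer of `x` by an element of the kernel
  have hw1 := ne_one_of_orderOf hwo
  set O := (core p w).map (centralizer ({w} : Set G)).subtype with hO
  have hvO : v ∈ O := ⟨⟨v, mem_centralizer_singleton_iff.2 hvw⟩, H.mem_core hw hw1 _ hv, rfl⟩
  have hOn : ∀ a ∈ O, x * a * x⁻¹ ∈ O := by
    rintro _ ⟨a, ha, rfl⟩
    haveI := CfsgLib.Solvable.pPrimeCore_normal (G := centralizer ({w} : Set G)) p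
    exact ⟨_, Normal.conj_mem inferInstance a ha ⟨x, mem_centralizer_singleton_iff.2 (hxc w hw).symm⟩, rfl⟩
  let α := {a : G // a ∈ O ∧ v⁻¹ * a ∈ K}
  have hcomm : ∀ a : G, a⁻¹ * (x * a * x⁻¹) ∈ K := fun a => by
    rw [show a⁻¹ * (x * a * x⁻¹) = (a⁻¹ * x * a⁻¹⁻¹) * x⁻¹ by group]
    exact mul_mem (Normal.conj_mem inferInstance x hxK a⁻¹) (inv_mem hxK)
  let f : α → α := fun a => ⟨x * a.1 * x⁻¹, hOn _ a.2.1, by
    rw [show v⁻¹ * (x * a.1 * x⁻¹) = (v⁻¹ * a.1) * (a.1⁻¹ * (x * a.1 * x⁻¹)) by group]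
    exact mul_mem a.2.2 (hcomm _)⟩
  have hfp : ∀ (n : ℕ) (a : α), (f^[n] a).1 = x ^ n * a.1 * (x ^ n)⁻¹ := by
    intro n
    induction n with
    | zero => simp
    | succ n ih =>
      intro a
      rw [Function.iterate_succ_apply']
      show x * _ * x⁻¹ = _
      rw [ih, pow_succ']; group
  have hfbij : Function.Bijective f := (Finite.injective_iff_bijective).1 fun a b h => Subtype.ext (by
    have := congrArg Subtype.val h
    exact mul_left_cancel (mul_right_cancel this))
  let σ : Equiv.Perm α := Equiv.ofBijective f hfbij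
  have hσ : σ ^ p ^ 1 = 1 := by
    refine Equiv.ext fun a => Subtype.ext ?_
    rw [pow_one, ← Equiv.Perm.iterate_eq_pow]
    show (f^[p] a).1 = a.1
    rw [hfp, ← hxo, pow_orderOf_eq_one]; group
  have hcard : ¬ p ∣ Fintype.card α := by
    have e : α ≃ ↥(O ⊓ K) :=
      { toFun := fun a => ⟨v⁻¹ * a.1, mem_inf.2 ⟨O.mul_mem (O.inv_mem hvO) a.2.1, a.2.2⟩⟩
        invFun := fun b => ⟨v * b.1, O.mul_mem hvO b.2.1, by rw [inv_mul_cancel_left]; exact b.2.2⟩
        left_inv := fun a => Subtype.ext (mul_inv_cancel_left _ _)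
        right_inv := fun b => Subtype.ext (inv_mul_cancel_left _ _) }
    rw [← Nat.card_eq_fintype_card, Nat.card_congr e]
    intro hd
    have h := hd.trans (card_dvd_of_le inf_le_left)
    rw [hO, card_map_of_injective (centralizer ({w} : Set G)).subtype_injective] at h
    exact (hp.coprime_iff_not_dvd.1 (CfsgLib.Solvable.coprime_card_pPrimeCore p).symm) h
  obtain ⟨⟨a, haO, haK⟩, hfix⟩ := Equiv.Perm.exists_fixed_point_of_prime (n := 1) hcard hσ
  have hax : a * x = x * a := (mul_inv_eq_iff_eq_mul.1 (congrArg Subtype.val hfix)).symm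
  have ha' : ¬ p ∣ orderOf a := by
    obtain ⟨b, hb, rfl⟩ := haO
    show ¬ p ∣ orderOf (b : G)
    rw [Subgroup.orderOf_coe]
    exact SectionCount.not_dvd_orderOf hp hb
  have haK' : a ∈ K := by
    have hmem := H.mem_core hx (ne_one_of_orderOf hxo) ⟨a, mem_centralizer_singleton_iff.2 hax⟩ ha'
    have h := principal_apply_mul_core (x := x) (k := 1) hM (by rw [pow_one, hxo]) (v := a) ⟨_, hmem, rfl⟩ hχB
    rw [IsCharacter.apply_mul_of_apply_eq hχc hχx, hχx] at h
    exact h
  rw [show v = a * (v⁻¹ * a)⁻¹ by group]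
  exact mul_mem haK' (inv_mem haK)

/-- The prime is two. -/
theorem Hyp.eq_two (H : Hyp P) : p = 2 := by
  suffices h : ∀ (n : ℕ) (G : Type u) [Group G] [Finite G] (P : Sylow p G), Nat.card G = n → Hyp P → p = 2
    from h _ G P rfl H
  intro n
  induction n using Nat.strong_induction_on with
  | _ n ih =>
    intro G _ _ P hn H
    by_contra hp2
    obtain ⟨K, hlt, Q, hQ⟩ := H.exists_smaller hp2
    exact hp2 (ih _ (hn ▸ hlt) K Q rfl hQ)

end CfsgLib.PairSolv
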