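import Cfsg.Agent.PairSolv.Abelian

/-!
# Abelian `P` with one class of elements of order `p`
-/

set_option autoImplicit false
set_option linter.unusedSectionVars false
set_option linter.style.haveILetI false
set_option maxHeartbeats 1000000

namespace CfsgLib.PairSolv

open Finset CfsgLib.Block CfsgLib.Block.Chr CfsgLib.Char CfsgLib.SectionCount
open scoped ComplexConjugate
open scoped Classical

universe u

variable {G : Type u} [Group G] [Fintype G] {p : ℕ} [Fact p.Prime] {P : Sylow p G}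

namespace Hyp

variable (H : Hyp P)
include H

/-- Products of two conjugates of `x`: at least half of them lie in the section of `x`, and none in a
section of an element of another class. -/
theorem pairs_count (hp2 : p ≠ 2) {x : G} (hx : x ∈ (P : Subgroup G)) (hxo : orderOf x = p)
    (hxc : ∀ v ∈ (P : Subgroup G), v * x = x * v)
    (hone : ∀ v ∈ (P : Subgroup G), orderOf v = p → IsConj x v) :
    ((univ.filter (IsConj x)).card * (univ.filter (IsConj x)).card ≤
      2 * (((univ.filter (IsConj x)) ×ˢ (univ.filter (IsConj x))).filter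
        fun uw : G × G => uw.1 * uw.2 ∈ section' p x).card) ∧
    ∀ z ∈ (P : Subgroup G), ¬ IsConj x z → z ≠ 1 →
      (((univ.filter (IsConj x)) ×ˢ (univ.filter (IsConj x))).filter
        fun uw : G × G => uw.1 * uw.2 ∈ section' p z).card = 0 := by
  have hp : p.Prime := Fact.out
  have hx1 : x ≠ 1 := ne_one_of_orderOf hxo
  set A := univ.filter (IsConj x)
  have hxinv : IsConj x x⁻¹ := hone _ (inv_mem hx) (by rw [orderOf_inv, hxo])
  -- the two facts for one pair
  have key : ∀ u ∈ A, ∀ w ∈ A, (p ∣ orderOf (u * w) → u * w ∈ section' p x) ∧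
      (¬ p ∣ orderOf (u * w) → p ∣ orderOf (u * w⁻¹)) := by
    intro u hu w hw
    obtain ⟨a, rfl⟩ := isConj_iff.1 (mem_filter.1 hu).2
    have hb : orderOf (a⁻¹ * w * a) = p := by
      obtain ⟨c, rfl⟩ := isConj_iff.1 (mem_filter.1 hw).2
      rw [show a⁻¹ * (c * x * c⁻¹) * a = (MulAut.conj (a⁻¹ * c)).toMonoidHom x by simp [mul_assoc],
        orderOf_injective _ (MulAut.conj _).injective, hxo]
    obtain ⟨π, hπ, hbπ, hr1, hr2, t, ⟨s, hts, hcom, -, hs⟩, htπ⟩ := H.pair hx hxo hxc hb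
    have hπo : orderOf π = p := by
      obtain ⟨c, hc⟩ := isConj_iff.1 hbπ
      rw [← hc, show c * (a⁻¹ * w * a) * c⁻¹ = (MulAut.conj c).toMonoidHom (a⁻¹ * w * a) by simp,
        orderOf_injective _ (MulAut.conj c).injective, hb]
    have e1 : a * x * a⁻¹ * w = a * (x * (a⁻¹ * w * a)) * a⁻¹ := by group
    have e2 : a * x * a⁻¹ * w⁻¹ = a * (x * (a⁻¹ * w * a)⁻¹) * a⁻¹ := by group
    have hord : ∀ g : G, orderOf (a * g * a⁻¹) = orderOf g := fun g =>
      orderOf_injective (MulAut.conj a).toMonoidHom (MulAut.conj a).injective g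
    rw [e1, e2, hord, hord]
    refine ⟨fun hd => ?_, fun hn => ?_⟩
    · obtain ⟨c, hc⟩ := isConj_iff.1 htπ
      have hxπ : x * π ≠ 1 := fun h => hr1.2 h hd
      have ho : orderOf (x * π) = p := orderOf_eq_prime (by
        rw [(show Commute x π from (hxc π hπ).symm).mul_pow, ← hxo, pow_orderOf_eq_one, one_mul, hxo,
          ← hπo, pow_orderOf_eq_one]) hxπ
      have hm := H.mem_section (c := c) hts hcom hs (by rw [hc]; exact mul_mem hx hπ) (by rw [hc]; exact hxπ)
      rw [hc] at hm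
      refine conj_mem_section ?_ a
      -- the section of a conjugate
      obtain ⟨d, hd'⟩ := isConj_iff.1 (hone _ (mul_mem hx hπ) ho)
      obtain ⟨g₀, v, hv, hg⟩ := hm
      rw [← hg]
      have hcv : Commute (x * π) (v : G) := (Subgroup.mem_centralizer_singleton_iff.1 v.2).symm
      have hm' := H.mem_section (g := g₀ * (x * π * (v : G)) * g₀⁻¹) (c := d⁻¹ * g₀⁻¹)
        (t := g₀ * (x * π) * g₀⁻¹) (y := g₀ * v * g₀⁻¹) (by group) (hcv.map (MulAut.conj g₀))
        (not_dvd_orderOf_conj g₀ (by rw [Subgroup.orderOf_coe]; exact SectionCount.not_dvd_orderOf hp hv))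
      have he : d⁻¹ * g₀⁻¹ * (g₀ * (x * π) * g₀⁻¹) * (d⁻¹ * g₀⁻¹)⁻¹ = x := by
        calc d⁻¹ * g₀⁻¹ * (g₀ * (x * π) * g₀⁻¹) * (d⁻¹ * g₀⁻¹)⁻¹ = d⁻¹ * (x * π) * d := by group
          _ = x := by rw [← hd']; group
      rw [he] at hm'
      exact hm' hx hx1
    · by_contra hn'
      have h1 := hr1.1 hn
      have h2 := hr2.1 hn'
      have hππ : π = π⁻¹ := mul_left_cancel (h1.trans h2.symm)
      refine hp2 ((Nat.prime_dvd_prime_iff_eq hp Nat.prime_two).1 (hπo ▸ orderOf_dvd_of_pow_eq_one ?_))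
      rw [pow_two]; nth_rw 2 [hππ]; rw [mul_inv_cancel]
  refine ⟨?_, fun z hz hxz hz1 => ?_⟩
  · set S := (A ×ˢ A).filter fun uw : G × G => uw.1 * uw.2 ∈ section' p x
    set R := (A ×ˢ A).filter fun uw : G × G => ¬ (uw.1 * uw.2 ∈ section' p x)
    have htot : S.card + R.card = A.card * A.card := by
      rw [← card_product, card_filter_add_card_filter_not]
    have hRS : R.card ≤ S.card := by
      refine card_le_card_of_injOn (fun uw => (uw.1, uw.2⁻¹)) (fun uw huw => ?_)
        fun a _ b _ h => by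
          simp only [Prod.mk.injEq, inv_inj] at h
          exact Prod.ext h.1 h.2
      simp only [R, S, coe_filter, Set.mem_ofPred_eq, mem_product] at huw ⊢
      obtain ⟨⟨hu, hw⟩, hn⟩ := huw
      have hw' : uw.2⁻¹ ∈ A := by
        refine mem_filter.2 ⟨mem_univ _, ?_⟩
        obtain ⟨c, hc⟩ := isConj_iff.1 (mem_filter.1 hw).2
        refine hxinv.trans (isConj_iff.2 ⟨c, ?_⟩)
        rw [← hc]; group
      exact ⟨⟨hu, hw'⟩, (key _ hu _ hw').1 ((key _ hu _ hw).2 fun hd => hn ((key _ hu _ hw).1 hd))⟩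
    omega
  · rw [card_eq_zero, filter_eq_empty_iff]
    rintro ⟨u, w⟩ huw hm
    obtain ⟨hu, hw⟩ := mem_product.1 huw
    obtain ⟨k, hk⟩ := exists_orderOf_eq hx
    obtain ⟨l, hl⟩ := exists_orderOf_eq hz
    exact hxz (isConj_of_mem_sections hp hk hl ((key u hu w hw).1 (dvd_orderOf_section hz hz1 hm)) hm)

variable {M : Ideal Cfsg.AlgInt} [M.IsPrime] [Fintype (Cfsg.IrrCharacter G)]
  (hM : Cfsg.IsPModular p M) (hab : ∀ u v : ↥(P : Subgroup G), u * v = v * u)
include hM hab

/-- Elementary abelian with one class: a member takes its degree at `x`. -/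
theorem found_of_elementary (hp2 : p ≠ 2) {x : G} (hx : x ∈ (P : Subgroup G)) (hxo : orderOf x = p)
    (hone : ∀ v ∈ (P : Subgroup G), orderOf v = p → IsConj x v)
    (hel : ∀ v ∈ (P : Subgroup G), v ^ p = 1) : Found P M := by
  have hp : p.Prime := Fact.out
  have hxc := H.central_of_abelian hM hab hx
  have hx1 : x ≠ 1 := ne_one_of_orderOf hxo
  by_contra hnf
  have hconst : ∀ χ : Cfsg.IrrCharacter G, ∀ y ∈ (P : Subgroup G), y ≠ 1 → (χ : G → ℂ) y = (χ : G → ℂ) x :=
    fun χ y hy hy1 => (CfsgLib.Char.IsClassFunction.apply_eq_of_isConj (isClassFunction_irr χ)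
      (hone y hy (orderOf_eq_prime (hel y hy) hy1))).symm
  choose d hd hdvd using fun χ : Cfsg.IrrCharacter G => const_value (P : Subgroup G) hx hx1 χ (hconst χ)
  obtain ⟨a, hidx⟩ := H.exists_pow_index hx hx1
  have hq : Nat.card (P : Subgroup G) = p ^ a := by
    rw [← hidx, H.index_core hx hx1, inf_eq_left.2 (mem_center_of_commute hxc)]
  have hxk : orderOf x = p ^ 1 := by rw [pow_one, hxo]
  let n : Cfsg.IrrCharacter G → ℤ := fun χ => Cfsg.charDegree (χ : G → ℂ)
  have hn1 : ∀ χ : Cfsg.IrrCharacter G, (χ : G → ℂ) 1 = (n χ : ℂ) := fun χ => by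
    rw [(irr_one χ).1]; simp [n]
  have hone' : n (oneIrr G) = 1 := by
    have := hn1 (oneIrr G)
    rw [oneIrr_apply] at this
    exact_mod_cast this.symm
  have hd0 : d (oneIrr G) = 1 := by
    have := hd (oneIrr G)
    rw [oneIrr_apply] at this
    exact_mod_cast this.symm
  set B := B0 G M with hB
  have hsq : ∑ χ ∈ B, d χ ^ 2 = ((p ^ a : ℕ) : ℤ) := by
    have h := sum_sq_principal hM hxk hidx
    simp only [hd, map_intCast] at h
    rw [sum_congr rfl fun χ _ => pow_two (d χ)]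
    exact_mod_cast h
  have horth : ∑ χ ∈ B, n χ * d χ = 0 := by
    have h := sum_degree_mul hM hxk hx1 hidx
    simp only [hd, hn1, map_intCast] at h
    exact_mod_cast h
  have hnpos : ∀ χ, 0 < n χ := fun χ => by simpa [n] using (irr_one χ).2
  have hbound : ∀ χ ∈ B, χ ≠ oneIrr G → 0 < d χ → d χ + ((p ^ a : ℕ) : ℤ) ≤ n χ := by
    intro χ hχ hne _
    have hlt : d χ < n χ := by
      refine lt_of_le_of_ne ?_ fun h => hnf ⟨χ, (mem_filter.1 hχ).2, hne, x, hx, hxo, hxc, by rw [hd, hn1, h]⟩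
      have h := IsCharacter.norm_apply_le (isCharacter_irr χ) x
      rw [hd, hn1, Complex.intCast_re, Complex.norm_intCast] at h
      exact_mod_cast (le_abs_self _).trans h
    have h := Int.le_of_dvd (sub_pos.2 hlt) (hdvd χ)
    rw [hq] at h
    linarith
  have hcube := PairSimple.cube_sum_le B d n (oneIrr G)
    (mem_filter.2 ⟨mem_univ _, oneIrr_mem_principalBlock⟩) hd0 hone' (fun χ _ => hnpos χ) hsq horth hbound
  have hcount := card_pairs hM hxk hidx x x
  obtain ⟨hhalf, -⟩ := H.pairs_count hp2 hx hxo hxc hone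
  set A := univ.filter (IsConj x) with hA
  set S := (A ×ˢ A).filter fun uw : G × G => uw.1 * uw.2 ∈ section' p x with hS
  simp only [hd, hn1, map_intCast] at hcount
  have hcountR : (S.card : ℝ) * (p ^ a : ℕ) =
      (A.card : ℝ) * A.card * ∑ χ ∈ B, ((d χ : ℝ) ^ 3 / (n χ : ℝ)) := by
    rw [sum_congr rfl fun χ (_ : χ ∈ B) => show ((d χ : ℝ) ^ 3 / (n χ : ℝ)) =
      (d χ : ℝ) * d χ * d χ / (n χ : ℝ) by ring]
    exact_mod_cast hcount
  have hqp : (p : ℝ) ≤ ((p ^ a : ℕ) : ℝ) := by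
    have h : p ∣ p ^ a := by
      have := Subgroup.orderOf_dvd_natCard _ hx
      rwa [hxo, hq] at this
    exact_mod_cast Nat.le_of_dvd (pow_pos hp.pos a) h
  have hApos : (0 : ℝ) < A.card := by
    exact_mod_cast card_pos.2 ⟨x, mem_filter.2 ⟨mem_univ _, IsConj.refl x⟩⟩
  have hp3 : (3 : ℝ) ≤ p := by
    have : 3 ≤ p := by have := hp.two_le; omega
    exact_mod_cast this
  have h2S : (A.card : ℝ) * A.card ≤ 2 * S.card := by exact_mod_cast hhalf
  rw [Int.cast_natCast] at hcube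
  have hkey : (A.card : ℝ) * A.card * ((p ^ a : ℕ) : ℝ) ≤
      2 * ((A.card : ℝ) * A.card * ((((p ^ a : ℕ) : ℝ) + 1) / 3)) := by
    have h1 : (A.card : ℝ) * A.card * ∑ χ ∈ B, ((d χ : ℝ) ^ 3 / (n χ : ℝ)) ≤
        (A.card : ℝ) * A.card * ((((p ^ a : ℕ) : ℝ) + 1) / 3) :=
      mul_le_mul_of_nonneg_left hcube (mul_nonneg (Nat.cast_nonneg _) (Nat.cast_nonneg _))
    have h2 := mul_le_mul_of_nonneg_right h2S (Nat.cast_nonneg (α := ℝ) (p ^ a))
    linarith
  nlinarith [mul_pos hApos hApos]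

end Hyp

end CfsgLib.PairSolv
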