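import Cfsg.Agent.PairSolv.Local
import Cfsg.Agent.Kinf.PairSolvable

/-!
# The product of a central element of order `p` and another element of order `p`

The pair generates a group which is abelian modulo its core, so the `p`-part of the product is
conjugate to a product inside `P`.
-/

set_option autoImplicit false
set_option linter.unusedSectionVars false
set_option linter.style.haveILetI false

namespace CfsgLib.PairSolv

open Subgroup

universe u

variable {G : Type u} [Group G] [Finite G] {p : ℕ} [Fact p.Prime] {P : Sylow p G}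

theorem isPGroup_zpowers_of_pow {g : G} {e : ℕ} (h : g ^ p ^ e = 1) : IsPGroup p (zpowers g) := by
  rintro ⟨v, k, rfl⟩
  refine ⟨e, Subtype.ext ?_⟩
  show (g ^ k) ^ p ^ e = 1
  rw [← zpow_natCast, zpow_comm, zpow_natCast, h, one_zpow]

theorem isPGroup_zpowers_of_orderOf {g : G} (h : orderOf g = p) : IsPGroup p (zpowers g) :=
  isPGroup_zpowers_of_pow (e := 1) (by rw [pow_one, ← h, pow_orderOf_eq_one])

/-- The product with an element of order `p`: the `p`-part and regularity. -/
theorem Hyp.pair (H : Hyp P) {x b : G} (hx : x ∈ (P : Subgroup G)) (hxo : orderOf x = p)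
    (hxc : ∀ v ∈ (P : Subgroup G), v * x = x * v) (hb : orderOf b = p) :
    ∃ π ∈ (P : Subgroup G), IsConj b π ∧
      (¬ p ∣ orderOf (x * b) ↔ x * π = 1) ∧ (¬ p ∣ orderOf (x * b⁻¹) ↔ x * π⁻¹ = 1) ∧
      ∃ t : G, Cfsg.IsPPart p (x * b) t ∧ IsConj t (x * π) := by
  have hp : p.Prime := Fact.out
  set U := closure ({x, b} : Set G)
  set xU : U := ⟨x, subset_closure (by simp)⟩
  set bU : U := ⟨b, subset_closure (by simp)⟩
  haveI := CfsgLib.Solvable.pPrimeCore_normal (G := U) p
  set W := Cfsg.pPrimeCore p U with hW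
  set f := QuotientGroup.mk' W
  have hf : Function.Surjective f := QuotientGroup.mk'_surjective W
  have hker : ∀ g : U, f g = 1 → ¬ p ∣ orderOf (g : G) := fun g hg => by
    rw [Subgroup.orderOf_coe]
    exact fun h => (hp.coprime_iff_not_dvd.1 (CfsgLib.Solvable.coprime_card_pPrimeCore p).symm)
      (h.trans (orderOf_dvd_natCard _ ((QuotientGroup.eq_one_iff g).1 hg)))
  have hc0 : centralizer (Cfsg.pCore p (U ⧸ W) : Set (U ⧸ W)) ≤ Cfsg.pCore p (U ⧸ W) :=
    PConstrained.selfCent_of_pSolvable (Fitting.pPrimeCore_quotient_eq_bot p)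
      (PConstrained.isPSolvable_comap (Subgroup.subtype _) (Subgroup.subtype_injective _)
        (PConstrained.isPSolvable_map f hf (H.pairs x b hxo hb)))
  have hxUo : orderOf xU = p := by rw [← Subgroup.orderOf_coe]; exact hxo
  have hbUo : orderOf bU = p := by rw [← Subgroup.orderOf_coe]; exact hb
  obtain ⟨S, hS⟩ := (isPGroup_zpowers_of_orderOf hxUo).exists_le_sylow
  have hxS : xU ∈ (S : Subgroup U) := hS (mem_zpowers _)
  -- a conjugation into `P` fixing `x`
  obtain ⟨c, hcS, hcx⟩ : ∃ c : G, (∀ s ∈ (S : Subgroup U), c * (s : G) * c⁻¹ ∈ (P : Subgroup G)) ∧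
      c * x * c⁻¹ = x := by
    obtain ⟨c, hc⟩ := exists_conj_into P (S.2.map U.subtype)
    have hcx : c * x * c⁻¹ ∈ (P : Subgroup G) := hc x ⟨xU, hxS, rfl⟩
    obtain ⟨n, hn, he⟩ := H.fusion x hx _ hcx ⟨c, rfl⟩
    refine ⟨n⁻¹ * c, fun s hs => ?_, ?_⟩
    · have h := (mem_normalizer_iff''.1 hn _).1 (hc s ⟨s, hs, rfl⟩)
      convert h using 1
      group
    · calc n⁻¹ * c * x * (n⁻¹ * c)⁻¹ = n⁻¹ * (c * x * c⁻¹) * n := by group
        _ = x := by rw [← he]; group
  have hSx : ∀ s ∈ (S : Subgroup U), s * xU = xU * s := fun s hs => Subtype.ext <| by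
    show (s : G) * x = x * s
    refine mul_left_cancel (a := c) (mul_right_cancel (b := c⁻¹) ?_)
    calc c * ((s : G) * x) * c⁻¹ = (c * s * c⁻¹) * (c * x * c⁻¹) := by group
      _ = (c * x * c⁻¹) * (c * s * c⁻¹) := by rw [hcx, hxc _ (hcS s hs)]
      _ = c * (x * (s : G)) * c⁻¹ := by group
  -- the quotient is a `p`-group
  set T : Sylow p (U ⧸ W) := S.mapSurjective hf with hT
  have hTmem : ∀ {z}, z ∈ (T : Subgroup (U ⧸ W)) ↔ ∃ s ∈ (S : Subgroup U), f s = z := Iff.rfl
  have hR0 : IsPGroup p (Cfsg.pCore p (U ⧸ W)) := CfsgLib.Solvable.isPGroup_pCore (p := p)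
  haveI hR0n := CfsgLib.Solvable.pCore_normal (G := U ⧸ W) p
  have hR0T : Cfsg.pCore p (U ⧸ W) ≤ T := sup_eq_right.1 (T.3 (hR0.to_sup_of_normal_left T.2) le_sup_right)
  have hxR : f xU ∈ Cfsg.pCore p (U ⧸ W) := hc0 (mem_centralizer_iff.2 fun r hr => by
    obtain ⟨s, hs, rfl⟩ := hTmem.1 (hR0T hr)
    rw [← map_mul, ← map_mul, hSx s hs])
  have hgen : closure ({xU, bU} : Set U) = ⊤ := by
    rw [eq_top_iff, ← closure_closure_coe_preimage (k := ({x, b} : Set G))]
    refine closure_mono fun g hg => ?_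
    rcases hg with hg | hg
    · exact Or.inl (Subtype.ext hg)
    · exact Or.inr (Subtype.ext (Set.mem_singleton_iff.1 hg))
  have hQ : IsPGroup p (U ⧸ W) := by
    have hb' : IsPGroup p (zpowers (f bU)) := isPGroup_zpowers_of_pow (e := 1) (by
      rw [pow_one, ← map_pow, ← hbUo, pow_orderOf_eq_one, map_one])
    suffices hle : (⊤ : Subgroup (U ⧸ W)) ≤ Cfsg.pCore p (U ⧸ W) ⊔ zpowers (f bU) from
      ((hR0.to_sup_of_normal_left hb').to_le hle).of_equiv topEquiv
    rw [← map_top_of_surjective f hf, ← hgen, MonoidHom.map_closure, closure_le]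
    rintro _ ⟨g, hg, rfl⟩
    rcases hg with rfl | hg
    · exact mem_sup_left hxR
    · rw [Set.mem_singleton_iff.1 hg]; exact mem_sup_right (mem_zpowers _)
  have hTtop : (T : Subgroup (U ⧸ W)) = ⊤ := (T.3 (hQ.to_subgroup ⊤) le_top).symm
  have hsur : ∀ z : U ⧸ W, ∃ s ∈ (S : Subgroup U), f s = z := fun z => hTmem.1 (hTtop ▸ mem_top z)
  have hinj : ∀ s ∈ (S : Subgroup U), ∀ s' ∈ (S : Subgroup U), f s = f s' → s = s' := by
    intro s hs s' hs' h
    rw [← inv_mul_eq_one]
    exact eq_one_of_mem_p_of_not_dvd S.2 (mul_mem (inv_mem hs) hs') (by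
      rw [← Subgroup.orderOf_coe]
      exact hker _ (by rw [map_mul, map_inv, h, inv_mul_cancel]))
  have hxcen : ∀ z, Commute (f xU) z := fun z => by
    obtain ⟨s, hs, rfl⟩ := hsur z
    exact (show Commute xU s from (hSx s hs).symm).map f
  have hab : ∀ z z' : U ⧸ W, z * z' = z' * z := by
    have hle : (⊤ : Subgroup (U ⧸ W)) ≤ center (U ⧸ W) := by
      rw [← map_top_of_surjective f hf, ← hgen, MonoidHom.map_closure, closure_le]
      have hbc : ∀ z, Commute (f bU) z := by
        intro z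
        obtain ⟨g, rfl⟩ := hf z
        have hg : g ∈ closure ({xU, bU} : Set U) := hgen ▸ mem_top g
        induction hg using Subgroup.closure_induction with
        | mem w hw =>
          rcases hw with rfl | hw
          · exact (hxcen _).symm
          · rw [Set.mem_singleton_iff.1 hw]
        | one => rw [map_one]; exact Commute.one_right _
        | mul a b _ _ iha ihb => rw [map_mul]; exact iha.mul_right ihb
        | inv a _ iha => rw [map_inv]; exact iha.inv_right
      rintro _ ⟨g, hg, rfl⟩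
      rcases hg with rfl | hg
      · exact mem_center_iff.2 fun z => (hxcen z).eq.symm
      · rw [Set.mem_singleton_iff.1 hg]; exact mem_center_iff.2 fun z => (hbc z).eq.symm
    exact fun z z' => (mem_center_iff.1 (hle (mem_top z')) z)
  -- conjugating `p`-elements into `S`
  have hconj : ∀ (g : U) (e : ℕ), g ^ p ^ e = 1 → ∀ s ∈ (S : Subgroup U), f g = f s → IsConj g s := by
    intro g e hg s hs he
    obtain ⟨h, hh⟩ := exists_conj_into S (isPGroup_zpowers_of_pow hg)
    refine isConj_iff.2 ⟨h, hinj _ (hh g (mem_zpowers g)) s hs ?_⟩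
    rw [map_mul, map_mul, map_inv, hab (f h) (f g), mul_inv_cancel_right, he]
  obtain ⟨s, hs, hsb⟩ := hsur (f bU)
  have hbs : IsConj bU s := hconj bU 1 (by rw [pow_one, ← hbUo, pow_orderOf_eq_one]) s hs hsb.symm
  have hreg : ∀ g : U, ¬ p ∣ orderOf (g : G) ↔ f g = 1 := fun g => by
    refine ⟨fun hg => ?_, hker g⟩
    obtain ⟨k, hk⟩ := hQ (f g)
    rw [← orderOf_eq_one_iff]
    exact Nat.eq_one_of_dvd_coprimes ((hp.coprime_iff_not_dvd.2 hg).pow_left k)
      (orderOf_dvd_of_pow_eq_one hk) ((orderOf_map_dvd f g).trans (orderOf_coe g).symm.dvd)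
  refine ⟨c * (s : G) * c⁻¹, hcS s hs, ?_, ?_, ?_, ?_⟩
  · obtain ⟨h, hh⟩ := isConj_iff.1 hbs
    refine isConj_iff.2 ⟨c * h, ?_⟩
    rw [← hh]
    show c * (h : G) * b * (c * (h : G))⁻¹ = c * ((h : G) * b * (h : G)⁻¹) * c⁻¹
    group
  · rw [show x * b = ((xU * bU : U) : G) from rfl, hreg, map_mul, ← hsb, ← map_mul]
    constructor
    · intro h
      have h' : xU * s = 1 := hinj _ (mul_mem hxS hs) 1 (one_mem _) (by rw [h, map_one])
      have h'' : x * (s : G) = 1 := congrArg Subtype.val h'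
      calc x * (c * s * c⁻¹) = c * x * c⁻¹ * (c * s * c⁻¹) := by rw [hcx]
        _ = c * (x * s) * c⁻¹ := by group
        _ = 1 := by rw [h'']; group
    · intro h
      have h'' : x * (s : G) = 1 := by
        calc x * (s : G) = c⁻¹ * (c * x * c⁻¹ * (c * s * c⁻¹)) * c := by group
          _ = 1 := by rw [hcx, h]; group
      rw [show xU * s = 1 from Subtype.ext h'', map_one]
  · rw [show x * b⁻¹ = ((xU * bU⁻¹ : U) : G) from rfl, hreg, map_mul, map_inv, ← hsb, ← map_inv, ← map_mul]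
    constructor
    · intro h
      have h' : xU * s⁻¹ = 1 := hinj _ (mul_mem hxS (inv_mem hs)) 1 (one_mem _) (by rw [h, map_one])
      have h'' : x * (s : G)⁻¹ = 1 := congrArg Subtype.val h'
      calc x * (c * s * c⁻¹)⁻¹ = c * x * c⁻¹ * (c * s * c⁻¹)⁻¹ := by rw [hcx]
        _ = c * (x * (s : G)⁻¹) * c⁻¹ := by group
        _ = 1 := by rw [h'']; group
    · intro h
      have h'' : x * (s : G)⁻¹ = 1 := by
        calc x * (s : G)⁻¹ = c⁻¹ * (c * x * c⁻¹ * (c * s * c⁻¹)⁻¹) * c := by group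
          _ = 1 := by rw [hcx, h]; group
      rw [show xU * s⁻¹ = 1 from Subtype.ext h'', map_one]
  · obtain ⟨u, v, huv, hvu, ⟨e, hu⟩, hv, -⟩ := PairSimple.exists_decomposition hp (xU * bU)
    have hfv : f v = 1 := (hreg v).1 (by rwa [Subgroup.orderOf_coe])
    have hfu : f u = f (xU * s) := by
      rw [map_mul, hsb, ← map_mul, ← huv, map_mul, hfv, mul_one]
    obtain ⟨h, hh⟩ := isConj_iff.1 (hconj u e hu _ (mul_mem hxS hs) hfu)
    refine ⟨(u : G), ⟨(v : G), congrArg Subtype.val huv, ?_, ?_, by rwa [Subgroup.orderOf_coe]⟩, ?_⟩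
    · exact congrArg Subtype.val (huv.trans hvu.symm)
    · obtain ⟨j, -, hj⟩ := (Nat.dvd_prime_pow hp).1 (orderOf_dvd_of_pow_eq_one hu)
      exact ⟨j, by rw [Subgroup.orderOf_coe, hj]⟩
    · refine isConj_iff.2 ⟨c * h, ?_⟩
      have h' : (h : G) * u * (h : G)⁻¹ = x * (s : G) := congrArg Subtype.val hh
      calc c * (h : G) * u * (c * (h : G))⁻¹ = c * ((h : G) * u * (h : G)⁻¹) * c⁻¹ := by group
        _ = c * x * c⁻¹ * (c * s * c⁻¹) := by rw [h']; group
        _ = x * (c * s * c⁻¹) := by rw [hcx]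

end CfsgLib.PairSolv
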