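import Cfsg.Agent.PairSolv.Local
import Cfsg.Agent.Char.SibleyCoherence

/-!
# The normalizer of the Sylow subgroup modulo its core is a Frobenius group
-/

set_option autoImplicit false
set_option linter.unusedSectionVars false
set_option linter.style.haveILetI false

namespace CfsgLib.PairSolv

open Subgroup CfsgLib.SectionCount
open scoped commutatorElement

universe u

variable {G : Type u} [Group G] [Finite G] {p : ℕ} [Fact p.Prime] (P : Sylow p G)

/-- The normalizer of `P`. -/
abbrev Nr : Subgroup G := normalizer ((P : Subgroup G) : Set G)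

/-- The normalizer of `P` modulo its core. -/
abbrev NQ : Type u := ↥(Nr P) ⧸ Cfsg.pPrimeCore p ↥(Nr P)

/-- The embedding of `P`. -/
def emb : ↥(P : Subgroup G) →* NQ P :=
  (QuotientGroup.mk' _).comp (inclusion le_normalizer)

/-- The image of `P`. -/
abbrev Ker : Subgroup (NQ P) := (emb P).range

variable {P}

theorem eq_one_of_mem_core {s : Nr P} (hs : (s : G) ∈ (P : Subgroup G))
    (ho : s ∈ Cfsg.pPrimeCore p ↥(Nr P)) : s = 1 :=
  Subtype.ext <| eq_one_of_mem_p_of_not_dvd P.2 hs (by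
    rw [Subgroup.orderOf_coe]
    exact fun h => ((Fact.out : p.Prime).coprime_iff_not_dvd.1
      (CfsgLib.Solvable.coprime_card_pPrimeCore p).symm)
      (h.trans (orderOf_dvd_natCard _ ho)))

theorem emb_injective : Function.Injective (emb P) := by
  refine (injective_iff_map_eq_one _).2 fun s hs => ?_
  have h := eq_one_of_mem_core (P := P) (s := inclusion le_normalizer s) s.2
    ((QuotientGroup.eq_one_iff _).1 hs)
  exact inclusion_injective le_normalizer (h.trans (map_one _).symm)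

theorem emb_conj (n : Nr P) (s : (P : Subgroup G)) :
    emb P ⟨(n : G) * s * (n : G)⁻¹, (mem_normalizer_iff.1 n.2 _).1 s.2⟩ =
      QuotientGroup.mk' _ n * emb P s * (QuotientGroup.mk' _ n)⁻¹ := by
  simp only [emb, MonoidHom.comp_apply, ← map_inv, ← map_mul]
  congr 1

instance ker_normal : (Ker P).Normal := ⟨by
  rintro _ ⟨s, rfl⟩ l
  obtain ⟨n, rfl⟩ := QuotientGroup.mk'_surjective _ l
  exact ⟨_, emb_conj n s⟩⟩

theorem card_ker : Nat.card (Ker P) = Nat.card (P : Subgroup G) :=
  Nat.card_congr ((emb P).ofInjective emb_injective).toEquiv.symm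

theorem ker_isPGroup : IsPGroup p (Ker P) :=
  P.2.of_surjective (emb P).rangeRestrict (emb P).rangeRestrict_surjective

namespace Hyp

variable (H : Hyp P)
include H

/-- The centralizer in the normalizer of a nonidentity element of `P` lies in `P` times the core. -/
theorem fixed_decomp (n : Nr P) {u : G} (hu : u ∈ (P : Subgroup G)) (hu1 : u ≠ 1)
    (hnu : (n : G) * u = u * n) :
    ∃ o ∈ Cfsg.pPrimeCore p ↥(Nr P), ∃ s : Nr P, (s : G) ∈ (P : Subgroup G) ∧ n = o * s := by
  have hp : p.Prime := Fact.out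
  obtain ⟨o, ho, s, hs, hc⟩ := H.cent_decomp hu hu1 ⟨n, mem_centralizer_singleton_iff.2 hnu⟩
  have hs' : (s : G) ∈ Nr P := le_normalizer hs
  have hn : (n : G) = (o : G) * s := congrArg Subtype.val hc
  have ho' : (o : G) ∈ Nr P := by
    rw [show (o : G) = n * (s : G)⁻¹ by rw [hn]; group]
    exact mul_mem n.2 (inv_mem hs')
  refine ⟨⟨o, ho'⟩, ?_, ⟨s, hs'⟩, hs, Subtype.ext hn⟩
  -- the `p'`-elements centralizing `P` form part of the core
  haveI := Fintype.ofFinite G
  have hor : ¬ p ∣ orderOf (o : G) := by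
    rw [Subgroup.orderOf_coe]; exact SectionCount.not_dvd_orderOf hp ho
  have hfix := H.fpf ho' hor hu hu1 (mem_centralizer_singleton_iff.1 o.2)
  obtain ⟨x, hx, hxo, hxc⟩ := H.exists_central
  set D : Subgroup (Nr P) := (centralizer ((P : Subgroup G) : Set G)).subgroupOf (Nr P)
  haveI hDn : D.Normal := ⟨fun d hd g => by
    rw [mem_subgroupOf, mem_centralizer_iff] at hd ⊢
    intro v hv
    have h := hd _ ((mem_normalizer_iff''.1 g.2 v).1 hv)
    push_cast
    calc v * ((g : G) * d * (g : G)⁻¹) = g * ((g : G)⁻¹ * v * g * d) * (g : G)⁻¹ := by group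
      _ = g * (d * ((g : G)⁻¹ * v * g)) * (g : G)⁻¹ := by rw [h]
      _ = g * d * (g : G)⁻¹ * v := by group⟩
  have hx1 : x ≠ 1 := fun h => hp.ne_one (by rw [← hxo, h, orderOf_one])
  have hDC : ∀ d : D, ((d : Nr P) : G) ∈ centralizer ({x} : Set G) := fun d =>
    mem_centralizer_singleton_iff.2 ((mem_centralizer_iff.1 (mem_subgroupOf.1 d.2)) x hx).symm
  let f : D →* centralizer ({x} : Set G) :=
    MonoidHom.codRestrict ((Nr P).subtype.comp D.subtype) _ hDC
  have hf : Function.Injective f := (MonoidHom.injective_codRestrict _ _ hDC).2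
    ((Nr P).subtype_injective.comp D.subtype_injective)
  haveI := CfsgLib.Solvable.pPrimeCore_normal (G := centralizer ({x} : Set G)) p
  haveI : ((core p x).comap f).Normal := Normal.comap inferInstance f
  have hcop : (Nat.card ((core p x).comap f)).Coprime p := by
    refine (CfsgLib.Solvable.coprime_card_pPrimeCore (G := centralizer ({x} : Set G)) p).coprime_dvd_left ?_
    rw [← card_map_of_injective (K := (core p x).comap f) hf]
    exact card_dvd_of_le (map_comap_le _ _)
  haveI : (Cfsg.pPrimeCore p D).Characteristic := characteristic_iff_map_le.2 fun φ =>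
    CfsgLib.Solvable.le_pPrimeCore p
      ((CfsgLib.Solvable.pPrimeCore_normal (G := D) p).map φ.toMonoidHom φ.surjective)
      (by rw [card_map_of_injective φ.injective]; exact CfsgLib.Solvable.coprime_card_pPrimeCore p)
  haveI : ((Cfsg.pPrimeCore p D).map D.subtype).Normal := ConjAct.normal_of_characteristic_of_normal
  have hle : (Cfsg.pPrimeCore p D).map D.subtype ≤ Cfsg.pPrimeCore p ↥(Nr P) :=
    CfsgLib.Solvable.le_pPrimeCore p inferInstance (by
      rw [card_map_of_injective D.subtype_injective]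
      exact CfsgLib.Solvable.coprime_card_pPrimeCore p)
  have hoD : (⟨o, ho'⟩ : Nr P) ∈ D :=
    mem_subgroupOf.2 (mem_centralizer_iff.2 fun v hv => (hfix v hv).symm)
  refine hle ⟨⟨_, hoD⟩, CfsgLib.Solvable.le_pPrimeCore p inferInstance hcop ?_, rfl⟩
  exact H.mem_core hx hx1 _ hor

/-- The Frobenius condition. -/
theorem ker_cent : ∀ a ∈ Ker P, a ≠ 1 → centralizer ({a} : Set (NQ P)) ≤ Ker P := by
  rintro _ ⟨u, rfl⟩ hu1 l hl
  obtain ⟨n, rfl⟩ := QuotientGroup.mk'_surjective _ l
  rw [mem_centralizer_singleton_iff] at hl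
  have h : emb P ⟨(n : G) * u * (n : G)⁻¹, (mem_normalizer_iff.1 n.2 _).1 u.2⟩ = emb P u := by
    rw [emb_conj, hl, mul_inv_cancel_right]
  have h' : (n : G) * u * (n : G)⁻¹ = u := congrArg Subtype.val (emb_injective h)
  have hu' : (u : G) ≠ 1 := fun e => hu1 (by rw [show u = 1 from Subtype.ext e, map_one])
  obtain ⟨o, ho, s, hs, rfl⟩ := H.fixed_decomp n u.2 hu' (mul_inv_eq_iff_eq_mul.1 h')
  refine ⟨⟨s, hs⟩, ?_⟩
  show _ = QuotientGroup.mk' _ (o * s)
  rw [map_mul, show QuotientGroup.mk' _ o = 1 from (QuotientGroup.eq_one_iff o).2 ho, one_mul]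
  rfl

/-- Conjugate elements of `P` have conjugate images. -/
theorem emb_isConj_iff (u v : (P : Subgroup G)) :
    IsConj (emb P u) (emb P v) ↔ IsConj (u : G) v := by
  constructor
  · intro h
    obtain ⟨l, hl⟩ := isConj_iff.1 h
    obtain ⟨n, rfl⟩ := QuotientGroup.mk'_surjective _ l
    rw [← emb_conj] at hl
    exact isConj_iff.2 ⟨n, congrArg Subtype.val (emb_injective hl)⟩
  · intro h
    obtain ⟨g, hg⟩ := isConj_iff.1 h
    obtain ⟨n, hn, he⟩ := H.fusion u u.2 v v.2 ⟨g, hg⟩
    refine isConj_iff.2 ⟨QuotientGroup.mk' _ ⟨n, hn⟩, ?_⟩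
    rw [← emb_conj]
    exact congrArg _ (Subtype.ext he)

/-- The complement is nontrivial. -/
theorem ker_ne_top : Ker P ≠ ⊤ := by
  intro htop
  have hdec : ∀ n : Nr P, ∃ o ∈ Cfsg.pPrimeCore p ↥(Nr P), ∃ s : Nr P,
      (s : G) ∈ (P : Subgroup G) ∧ n = o * s := by
    intro n
    obtain ⟨s, hs⟩ : QuotientGroup.mk' (Cfsg.pPrimeCore p ↥(Nr P)) n ∈ Ker P := htop ▸ mem_top _
    refine ⟨n * (inclusion le_normalizer s)⁻¹, (QuotientGroup.eq_one_iff _).1 ?_,
      inclusion le_normalizer s, s.2, by group⟩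
    show QuotientGroup.mk' _ (n * (inclusion le_normalizer s)⁻¹) = 1
    rw [map_mul, map_inv, ← hs]
    exact mul_inv_cancel _
  -- fusion is inner
  have hfoc : (P : Subgroup G).focalSubgroup ≤ ⁅(P : Subgroup G), (P : Subgroup G)⁆ := by
    rw [Subgroup.focalSubgroup, closure_le]
    rintro z ⟨hzP, x, hx, g, rfl⟩
    have hy : x⁻¹ ∈ (P : Subgroup G) := inv_mem hx
    have hgy : g * x⁻¹ * g⁻¹ ∈ (P : Subgroup G) := by
      have h := mul_mem (inv_mem hx) hzP
      rwa [commutatorElement_def, show x⁻¹ * (x * g * x⁻¹ * g⁻¹) = g * x⁻¹ * g⁻¹ by group] at h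
    obtain ⟨n, hn, he⟩ := H.fusion _ hy _ hgy ⟨g, rfl⟩
    obtain ⟨o, ho, s, hs, hns⟩ := hdec ⟨n, hn⟩
    have hn' : n = (o : G) * s := congrArg Subtype.val hns
    -- the core commutes with `P`
    have hcom : ∀ v ∈ (P : Subgroup G), (o : G) * v = v * o := by
      intro v hv
      haveI := CfsgLib.Solvable.pPrimeCore_normal (G := ↥(Nr P)) p
      set v' : Nr P := ⟨v, le_normalizer hv⟩
      have h := eq_one_of_mem_core (P := P) (s := o * v' * o⁻¹ * v'⁻¹)
        (mul_mem ((mem_normalizer_iff.1 o.2 _).1 hv) (inv_mem hv)) (by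
          rw [show o * v' * o⁻¹ * v'⁻¹ = o * (v' * o⁻¹ * v'⁻¹) by group]
          exact mul_mem ho (Normal.conj_mem inferInstance _ (inv_mem ho) v'))
      have h' : (o : G) * v * (o : G)⁻¹ * v⁻¹ = 1 := congrArg Subtype.val h
      calc (o : G) * v = (o : G) * v * (o : G)⁻¹ * v⁻¹ * v * o := by group
        _ = v * o := by rw [h', one_mul]
    have hsy : (s : G) * x⁻¹ * (s : G)⁻¹ ∈ (P : Subgroup G) := mul_mem (mul_mem hs hy) (inv_mem hs)
    have hgy' : g * x⁻¹ * g⁻¹ = (s : G) * x⁻¹ * (s : G)⁻¹ := by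
      rw [← he, hn']
      calc (o : G) * s * x⁻¹ * ((o : G) * s)⁻¹ = o * ((s : G) * x⁻¹ * (s : G)⁻¹) * (o : G)⁻¹ := by group
        _ = _ := by rw [hcom _ hsy, mul_inv_cancel_right]
    rw [SetLike.mem_coe, commutatorElement_def,
      show x * g * x⁻¹ * g⁻¹ = x * (g * x⁻¹ * g⁻¹) by group, hgy',
      show x * ((s : G) * x⁻¹ * (s : G)⁻¹) = ⁅x, (s : G)⁆ by rw [commutatorElement_def]; group]
    exact commutator_mem_commutator hx hs
  obtain ⟨Q, M, hM, hMQ⟩ := CfsgLib.NormalizerComplement.hasNormalPComplement_of_focal P hfoc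
  haveI := hM
  have hcop : (Nat.card M).Coprime p := by
    rw [← hMQ.index_eq_card]
    exact ((Fact.out : p.Prime).coprime_iff_not_dvd.2 Q.not_dvd_index).symm
  have hM1 : M = ⊥ := le_bot_iff.1 (H.core_bot ▸ CfsgLib.Solvable.le_pPrimeCore p hM hcop)
  have hQ : (Q : Subgroup G) = ⊤ := by rwa [hM1, isComplement'_bot_left] at hMQ
  refine H.not_normal ?_
  rw [show (P : Subgroup G) = ⊤ from eq_top_of_card_eq _ (by
    rw [Nat.card_congr (Sylow.equiv P Q).toEquiv, hQ, Subgroup.card_top])]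
  infer_instance

theorem ker_ne_bot : Ker P ≠ ⊥ := fun h => H.ne_bot (Subgroup.eq_bot_of_card_eq _ (by
  rw [← card_ker, h, Subgroup.card_bot]))

theorem ker_index_gt : 1 < (Ker P).index := by
  have h1 : (Ker P).index ≠ 1 := fun h => H.ker_ne_top (index_eq_one.1 h)
  have h2 := (Ker P).index_ne_zero_of_finite
  omega

theorem card_NQ : Nat.card (Ker P) * (Ker P).index = Nat.card (NQ P) := (Ker P).card_mul_index

end Hyp

end CfsgLib.PairSolv
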