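import Cfsg.Agent.PairSolv.Quot
import Cfsg.Agent.Kinf.SectionOrth
import Cfsg.Agent.Char.BrauerInduction
import Cfsg.Agent.Solvable.Carter

/-!
# The elements of order divisible by `p` and the isometry from the Frobenius quotient
-/

set_option autoImplicit false
set_option linter.unusedSectionVars false
set_option linter.style.haveILetI false

namespace CfsgLib.PairSolv

open Finset CfsgLib.Block CfsgLib.Block.Chr CfsgLib.Char CfsgLib.SectionCount
open scoped ComplexConjugate
open scoped Classical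

universe u

variable {G : Type u} [Group G] [Fintype G] {p : ℕ} [Fact p.Prime] {P : Sylow p G}

theorem exists_orderOf_eq {u : G} (hu : u ∈ (P : Subgroup G)) : ∃ k, orderOf u = p ^ k := by
  obtain ⟨k, hk⟩ := IsPGroup.iff_orderOf.1 P.2 ⟨u, hu⟩
  exact ⟨k, by rw [← hk, ← Subgroup.orderOf_coe]⟩

theorem dvd_orderOf_section {u : G} (hu : u ∈ (P : Subgroup G)) (hu1 : u ≠ 1) {g : G}
    (hg : g ∈ section' p u) : p ∣ orderOf g := by
  have hp : p.Prime := Fact.out
  obtain ⟨k, hk⟩ := exists_orderOf_eq hu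
  obtain ⟨c, v, hv, rfl⟩ := hg
  rw [show c * (u * (v : G)) * c⁻¹ = (MulAut.conj c).toMonoidHom (u * (v : G)) from rfl,
    orderOf_injective _ (MulAut.conj c).injective,
    (show Commute u (v : G) from (Subgroup.mem_centralizer_singleton_iff.1 v.2).symm).orderOf_mul_eq_mul_orderOf_of_coprime
      (by rw [hk, Subgroup.orderOf_coe]
          exact (hp.coprime_iff_not_dvd.2 (SectionCount.not_dvd_orderOf hp hv)).pow_left k), hk]
  exact dvd_mul_of_dvd_left (dvd_pow_self p fun h => hu1 (orderOf_eq_one_iff.1 (by rw [hk, h, pow_zero]))) _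

/-- The elements of `P` other than one. -/
noncomputable abbrev sharp (P : Sylow p G) : Finset ↥(P : Subgroup G) := univ.erase 1

theorem coe_ne_one {u : ↥(P : Subgroup G)} (hu : u ∈ sharp P) : (u : G) ≠ 1 := fun h =>
  (mem_erase.1 hu).1 (Subtype.ext h)

/-- A function on `P` as a function on the elements of order divisible by `p`. -/
noncomputable def ext (P : Sylow p G) (F : ↥(P : Subgroup G) → ℂ) (g : G) : ℂ :=
  if h : ∃ u : ↥(P : Subgroup G), u ≠ 1 ∧ g ∈ section' p (u : G) then F h.choose else 0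

theorem ext_regular (F : ↥(P : Subgroup G) → ℂ) {g : G} (hg : ¬ p ∣ orderOf g) : ext P F g = 0 :=
  dif_neg fun ⟨u, hu, h⟩ => hg (dvd_orderOf_section u.2 (fun e => hu (Subtype.ext e)) h)

/-- Invariance under conjugation in `G`. -/
def Inv (P : Sylow p G) (F : ↥(P : Subgroup G) → ℂ) : Prop :=
  ∀ u v : ↥(P : Subgroup G), IsConj (u : G) v → F u = F v

theorem ext_section {F : ↥(P : Subgroup G) → ℂ} (hF : Inv P F) {u : ↥(P : Subgroup G)} (hu : u ≠ 1)
    {g : G} (hg : g ∈ section' p (u : G)) : ext P F g = F u := by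
  have h : ∃ v : ↥(P : Subgroup G), v ≠ 1 ∧ g ∈ section' p (v : G) := ⟨u, hu, hg⟩
  rw [ext, dif_pos h]
  obtain ⟨k, hk⟩ := exists_orderOf_eq h.choose.2
  obtain ⟨l, hl⟩ := exists_orderOf_eq u.2
  exact hF _ _ (isConj_of_mem_sections Fact.out hk hl h.choose_spec.2 hg)

theorem ext_isClassFunction {F : ↥(P : Subgroup G) → ℂ} (hF : Inv P F) :
    Cfsg.IsClassFunction G (ext P F) := by
  intro g y
  by_cases h : ∃ v : ↥(P : Subgroup G), v ≠ 1 ∧ g ∈ section' p (v : G)
  · obtain ⟨v, hv, hg⟩ := h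
    rw [ext_section hF hv hg, ext_section hF hv (conj_mem_section hg y)]
  · have h' : ¬ ∃ v : ↥(P : Subgroup G), v ≠ 1 ∧ y * g * y⁻¹ ∈ section' p (v : G) := by
      rintro ⟨v, hv, hg⟩
      exact h ⟨v, hv, by simpa [mul_assoc] using conj_mem_section hg y⁻¹⟩
    simp only [ext, dif_neg h, dif_neg h']

theorem ext_add (F F' : ↥(P : Subgroup G) → ℂ) : ext P (F + F') = ext P F + ext P F' := by
  funext g
  simp only [ext, Pi.add_apply]
  split_ifs <;> simp

theorem ext_zsmul (n : ℤ) (F : ↥(P : Subgroup G) → ℂ) : ext P (n • F) = n • ext P F := by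
  funext g
  simp only [ext, Pi.smul_apply]
  split_ifs <;> simp

namespace Hyp

variable (H : Hyp P)
include H

theorem mem_section {g c t y : G} (hty : t * y = g) (hcom : Commute t y) (hy : ¬ p ∣ orderOf y)
    (hu : c * t * c⁻¹ ∈ (P : Subgroup G)) (hu1 : c * t * c⁻¹ ≠ 1) :
    g ∈ section' p (c * t * c⁻¹) := by
  have hmem : c * y * c⁻¹ ∈ Subgroup.centralizer ({c * t * c⁻¹} : Set G) :=
    Subgroup.mem_centralizer_singleton_iff.2 (by
      calc c * y * c⁻¹ * (c * t * c⁻¹) = c * (y * t) * c⁻¹ := by group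
        _ = c * (t * y) * c⁻¹ := by rw [hcom.eq]
        _ = c * t * c⁻¹ * (c * y * c⁻¹) := by group)
  refine ⟨c⁻¹, ⟨_, hmem⟩, H.mem_core hu hu1 _ (not_dvd_orderOf_conj c hy), ?_⟩
  show c⁻¹ * (c * t * c⁻¹ * (c * y * c⁻¹)) * c⁻¹⁻¹ = g
  rw [← hty]
  group

theorem exists_section {g : G} (hg : p ∣ orderOf g) :
    ∃ u : ↥(P : Subgroup G), u ≠ 1 ∧ g ∈ section' p (u : G) := by
  obtain ⟨t, y, hty, hyt, ⟨e, ht⟩, hy, ht1⟩ := PairSimple.exists_decomposition (p := p) Fact.out g
  have ht' : t ≠ 1 := fun h => ht1 h hg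
  have hz : IsPGroup p (Subgroup.zpowers t) := by
    rintro ⟨v, k, rfl⟩
    refine ⟨e, Subtype.ext ?_⟩
    show (t ^ k) ^ p ^ e = 1
    rw [← zpow_natCast, zpow_comm, zpow_natCast, ht, one_zpow]
  obtain ⟨c, hc⟩ := exists_conj_into P hz
  have hne : c * t * c⁻¹ ≠ 1 := fun h => ht' (conj_eq_one_iff.1 h)
  exact ⟨⟨_, hc t (Subgroup.mem_zpowers t)⟩, fun h => hne (congrArg Subtype.val h),
    H.mem_section hty (hty.trans hyt.symm) hy (hc t (Subgroup.mem_zpowers t)) hne⟩

theorem sum_orbit (u₀ : ↥(P : Subgroup G)) (hu₀ : u₀ ≠ 1) :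
    ∑ u ∈ (sharp P).filter (fun u : ↥(P : Subgroup G) => IsConj (u₀ : G) (u : G)),
      (Nat.card ↥((P : Subgroup G) ⊓ Subgroup.centralizer ({(u : G)} : Set G)) : ℂ) =
        (Nat.card (NQ P) : ℂ) := by
  haveI : Fintype (NQ P) := Fintype.ofFinite _
  have hne : ∀ u : ↥(P : Subgroup G), IsConj (u₀ : G) u → u ≠ 1 := fun u hu h => by
    rw [h, OneMemClass.coe_one, isConj_one_left] at hu
    exact hu₀ (Subtype.ext hu)
  have hcent : ∀ u : ↥(P : Subgroup G), u ≠ 1 →
      Nat.card ↥((P : Subgroup G) ⊓ Subgroup.centralizer ({(u : G)} : Set G)) =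
        Nat.card (Subgroup.centralizer ({emb P u} : Set (NQ P))) := by
    intro u hu
    have hmap : Subgroup.centralizer ({emb P u} : Set (NQ P)) =
        ((Subgroup.centralizer ({(u : G)} : Set G)).subgroupOf (P : Subgroup G)).map (emb P) := by
      refine le_antisymm (fun l hl => ?_) ?_
      · obtain ⟨v, rfl⟩ := H.ker_cent _ ⟨u, rfl⟩ (fun h => hu (emb_injective (by rw [h, map_one]))) hl
        rw [Subgroup.mem_centralizer_singleton_iff, ← map_mul, ← map_mul] at hl
        exact ⟨v, Subgroup.mem_subgroupOf.2 (Subgroup.mem_centralizer_singleton_iff.2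
          (congrArg Subtype.val (emb_injective hl))), rfl⟩
      · rintro _ ⟨v, hv, rfl⟩
        rw [Subgroup.mem_centralizer_singleton_iff, ← map_mul, ← map_mul]
        exact congrArg _ (Subtype.ext (Subgroup.mem_centralizer_singleton_iff.1 (Subgroup.mem_subgroupOf.1 hv)))
    rw [hmap, Subgroup.card_map_of_injective emb_injective, ← Subgroup.inf_subgroupOf_left]
    exact (Nat.card_congr (Subgroup.subgroupOfEquivOfLe inf_le_left).toEquiv).symm
  have hconst : ∀ u ∈ (sharp P).filter (fun u : ↥(P : Subgroup G) => IsConj (u₀ : G) (u : G)),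
      (Nat.card ↥((P : Subgroup G) ⊓ Subgroup.centralizer ({(u : G)} : Set G)) : ℂ) =
        (Nat.card (Subgroup.centralizer ({emb P u₀} : Set (NQ P))) : ℂ) := by
    intro u hu
    obtain ⟨-, hc⟩ := mem_filter.1 hu
    rw [hcent u (hne u hc), Nat.cast_inj]
    obtain ⟨l, hl⟩ := isConj_iff.1 ((H.emb_isConj_iff u₀ u).2 hc)
    rw [← hl, show ({l * emb P u₀ * l⁻¹} : Set (NQ P)) = (MulAut.conj l).toMonoidHom '' {emb P u₀} by simp,
      ← Subgroup.card_map_of_injective (K := Subgroup.centralizer ({emb P u₀} : Set (NQ P)))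
        (f := (MulAut.conj l).toMonoidHom) (MulAut.conj l).injective]
    congr 2
    ext z
    rw [Set.image_singleton, Subgroup.mem_map, Subgroup.mem_centralizer_singleton_iff]
    constructor
    · intro hz
      refine ⟨l⁻¹ * z * l, Subgroup.mem_centralizer_singleton_iff.2 ?_, by
        simp [mul_assoc]⟩
      simp only [MulEquiv.coe_toMonoidHom] at hz
      calc l⁻¹ * z * l * emb P u₀ = l⁻¹ * (z * (MulAut.conj l) (emb P u₀)) * l := by
            simp [mul_assoc]
        _ = l⁻¹ * ((MulAut.conj l) (emb P u₀) * z) * l := by rw [← hz]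
        _ = emb P u₀ * (l⁻¹ * z * l) := by simp [mul_assoc]
    · rintro ⟨w, hw, rfl⟩
      rw [Subgroup.mem_centralizer_singleton_iff] at hw
      simp only [MulEquiv.coe_toMonoidHom, ← map_mul, hw]
  rw [sum_congr rfl hconst, sum_const, nsmul_eq_mul, ← Nat.cast_mul, Nat.cast_inj]
  have hcls : ((sharp P).filter (fun u : ↥(P : Subgroup G) => IsConj (u₀ : G) (u : G))).card =
      (univ.filter (IsConj (emb P u₀))).card := by
    refine card_bij (fun u _ => emb P u) (fun u hu => mem_filter.2 ⟨mem_univ _,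
      (H.emb_isConj_iff u₀ u).2 (mem_filter.1 hu).2⟩) (fun a _ b _ h => emb_injective h) ?_
    intro l hl
    obtain ⟨m, hm⟩ := isConj_iff.1 (mem_filter.1 hl).2
    obtain ⟨u, rfl⟩ : l ∈ Ker P := hm ▸ ker_normal.conj_mem _ ⟨u₀, rfl⟩ m
    have hc := (H.emb_isConj_iff u₀ u).1 (mem_filter.1 hl).2
    exact ⟨u, mem_filter.2 ⟨mem_erase.2 ⟨hne u hc, mem_univ _⟩, hc⟩, rfl⟩
  rw [hcls, CfsgLib.Block.Chr.card_class, mul_comm, Subgroup.card_mul_index]

/-- The sum over the elements of order divisible by `p`. -/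
theorem sum_singular {f : G → ℂ} (hf : Cfsg.IsClassFunction G f) (hreg : ∀ g, ¬ p ∣ orderOf g → f g = 0) :
    (Nat.card (NQ P) : ℂ) * ∑ g : G, f g =
      (Nat.card G : ℂ) * ∑ u ∈ sharp P, (Nat.card (core p (u : G)) : ℂ)⁻¹ *
        ∑ᶠ v : core p (u : G), f ((u : G) * ((v : Subgroup.centralizer ({(u : G)} : Set G)) : G)) := by
  have key : ∀ u ∈ sharp P, (Nat.card ↥((P : Subgroup G) ⊓ Subgroup.centralizer ({(u : G)} : Set G)) : ℂ) *
      ∑ g ∈ univ.filter (· ∈ section' p (u : G)), f g =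
      (Nat.card G : ℂ) * ((Nat.card (core p (u : G)) : ℂ)⁻¹ *
        ∑ᶠ v : core p (u : G), f ((u : G) * ((v : Subgroup.centralizer ({(u : G)} : Set G)) : G))) := by
    intro u hu
    haveI : Fintype (core p (u : G)) := Fintype.ofFinite _
    obtain ⟨k, hk⟩ := exists_orderOf_eq u.2
    letI := irrFintype (G := G)
    have h := sum_section_eq (p := p) Fact.out hk hf
    rw [finsum_eq_sum_of_fintype, ← mul_assoc, mul_comm (Nat.card G : ℂ), mul_assoc, ← h, ← mul_assoc,
      ← H.index_core u.2 (coe_ne_one hu), ← (core p (u : G)).index_mul_card, Nat.cast_mul]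
    congr 1
    field_simp
  rw [mul_sum (Finset.univ) , mul_sum (sharp P)]
  rw [← sum_congr rfl key]
  simp only [mul_sum, sum_filter]
  rw [sum_comm]
  refine sum_congr rfl fun g _ => ?_
  simp only [mul_ite, mul_zero]
  by_cases hg : p ∣ orderOf g
  · obtain ⟨u₀, hu₀, hgu₀⟩ := H.exists_section hg
    rw [← sum_filter, show (sharp P).filter (fun u : ↥(P : Subgroup G) => g ∈ section' p (u : G)) =
      (sharp P).filter (fun u : ↥(P : Subgroup G) => IsConj (u₀ : G) u) from filter_congr fun u _ => by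
        obtain ⟨k, hk⟩ := exists_orderOf_eq u₀.2
        obtain ⟨l, hl⟩ := exists_orderOf_eq u.2
        refine ⟨fun h => isConj_of_mem_sections Fact.out hk hl hgu₀ h, fun h => ?_⟩
        obtain ⟨c, hc⟩ := isConj_iff.1 h
        obtain ⟨d, v, hv, rfl⟩ := hgu₀
        have hcom : Commute (u₀ : G) (v : G) := (Subgroup.mem_centralizer_singleton_iff.1 v.2).symm
        rw [← hc]
        have he : c * d⁻¹ * (d * u₀ * d⁻¹) * (c * d⁻¹)⁻¹ = c * (u₀ : G) * c⁻¹ := by group
        have hm := H.mem_section (g := d * ((u₀ : G) * v) * d⁻¹) (c := c * d⁻¹) (t := d * u₀ * d⁻¹)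
          (y := d * v * d⁻¹) (by group) (hcom.map (MulAut.conj d)) (not_dvd_orderOf_conj d (by
            rw [Subgroup.orderOf_coe]; exact SectionCount.not_dvd_orderOf Fact.out hv))
          (by rw [he, hc]; exact u.2)
          (by rw [he]; exact fun e => hu₀ (Subtype.ext (conj_eq_one_iff.1 e)))
        rwa [he] at hm]
    rw [← sum_mul, H.sum_orbit u₀ hu₀]
  · rw [hreg g hg, mul_zero]
    exact (sum_eq_zero fun u _ => by simp).symm

/-- The inner product of an extended function with a class function. -/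
theorem inner_ext {F : ↥(P : Subgroup G) → ℂ} (hF : Inv P F) {ψ : G → ℂ} (hψ : Cfsg.IsClassFunction G ψ) :
    (Nat.card (NQ P) : ℂ) * Cfsg.classInner (ext P F) ψ =
      ∑ u ∈ sharp P, F u * conj ((Nat.card (core p (u : G)) : ℂ)⁻¹ *
        ∑ᶠ v : core p (u : G), ψ ((u : G) * ((v : Subgroup.centralizer ({(u : G)} : Set G)) : G))) := by
  have h := H.sum_singular (f := fun g => ext P F g * conj (ψ g))
    (fun g y => by simp only [ext_isClassFunction hF g y, hψ g y]) (fun g hg => by rw [ext_regular F hg, zero_mul])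
  rw [Cfsg.classInner, mul_left_comm, h, ← mul_assoc,
    inv_mul_cancel₀ (Nat.cast_ne_zero.2 Nat.card_pos.ne'), one_mul]
  refine sum_congr rfl fun u hu => ?_
  haveI : Fintype (core p (u : G)) := Fintype.ofFinite _
  rw [finsum_eq_sum_of_fintype, finsum_eq_sum_of_fintype, map_mul, map_inv₀, map_natCast, map_sum,
    mul_left_comm (F u), mul_sum (univ) _ (F u)]
  congr 1
  refine sum_congr rfl fun v _ => ?_
  rw [ext_section hF (mem_erase.1 hu).1 ⟨1, _, v.2, by group⟩]

theorem inner_ext_ext {F F' : ↥(P : Subgroup G) → ℂ} (hF : Inv P F) (hF' : Inv P F') :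
    (Nat.card (NQ P) : ℂ) * Cfsg.classInner (ext P F) (ext P F') =
      ∑ u ∈ sharp P, F u * conj (F' u) := by
  rw [H.inner_ext hF (ext_isClassFunction hF')]
  refine sum_congr rfl fun u hu => ?_
  haveI : Fintype (core p (u : G)) := Fintype.ofFinite _
  rw [finsum_eq_sum_of_fintype, sum_congr rfl fun v _ =>
    ext_section hF' (mem_erase.1 hu).1 ⟨1, _, v.2, by group⟩, sum_const, card_univ, nsmul_eq_mul,
    ← Nat.card_eq_fintype_card, ← mul_assoc, inv_mul_cancel₀ (Nat.cast_ne_zero.2 Nat.card_pos.ne'),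
    one_mul]

/-- The map from class functions of the Frobenius quotient. -/
noncomputable def _root_.CfsgLib.PairSolv.tau (P : Sylow p G) (α : NQ P → ℂ) : G → ℂ :=
  ext P fun u => α (emb P u)

theorem inv_of_classFunction {α : NQ P → ℂ} (hα : Cfsg.IsClassFunction (NQ P) α) :
    Inv P fun u => α (emb P u) := fun u v h => by
  obtain ⟨l, hl⟩ := isConj_iff.1 ((H.emb_isConj_iff u v).2 h)
  show α _ = α _
  rw [← hl, hα]

theorem tau_generalized {α : NQ P → ℂ} (hα : Cfsg.IsGeneralizedCharacter (NQ P) α) (h1 : α 1 = 0) :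
    Cfsg.IsGeneralizedCharacter G (tau P α) := by
  have hF := H.inv_of_classFunction (IsGeneralized.isClassFunction hα)
  refine isGeneralized_of_restrict_elementary (ext_isClassFunction hF) fun E q hq hE => ?_
  haveI := IsElementary.isNilpotent hq hE
  obtain ⟨Q, R, hR, hRQ⟩ := Carter.hasNormalPComplement_of_isNilpotent (G := ↥E) p
  haveI := hR
  have hQn : (Q : Subgroup E).Normal := Sylow.normal_of_normalizerCondition normalizerCondition_of_isNilpotent Q
  haveI := hQn
  let pr : E →* (Q : Subgroup E) := hRQ.symm.QuotientMulEquiv.toMonoidHom.comp (QuotientGroup.mk' R)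
  obtain ⟨c, hc⟩ := exists_conj_into P (Q.2.map E.subtype)
  let κ : (Q : Subgroup E) →* (P : Subgroup G) :=
    MonoidHom.codRestrict (((MulAut.conj c).toMonoidHom.comp E.subtype).comp (Q : Subgroup E).subtype) _
      fun v => hc _ ⟨v, v.2, rfl⟩
  have h := IsGeneralized.comp hα ((emb P).comp (κ.comp pr))
  convert h using 1
  funext a
  obtain ⟨⟨r, w⟩, hrw, -⟩ := hRQ.existsUnique a
  have hpr : pr a = w := by
    rw [← hrw]
    show hRQ.symm.QuotientMulEquiv (QuotientGroup.mk' R ((r : E) * w)) = w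
    rw [map_mul, show QuotientGroup.mk' R (r : E) = 1 from (QuotientGroup.eq_one_iff _).2 r.2, one_mul]
    exact hRQ.symm.QuotientMulEquiv.apply_symm_apply w
  have hcom : Commute (r : E) (w : E) := Subgroup.commute_of_normal_of_disjoint R Q hR hQn
    hRQ.disjoint _ _ r.2 w.2
  have hrp : ¬ p ∣ orderOf ((r : E) : G) := by
    rw [Subgroup.orderOf_coe]
    intro hd
    refine Q.not_dvd_index ((hd.trans ?_).trans (dvd_of_eq hRQ.index_eq_card.symm))
    exact Subgroup.orderOf_dvd_natCard R r.2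
  show tau P α (a : G) = α (emb P (κ (pr a)))
  rw [hpr]
  by_cases hw : w = 1
  · rw [hw, map_one, map_one, h1]
    refine ext_regular _ ?_
    rw [← hrw, hw]
    simpa using hrp
  · refine ext_section hF (u := κ w) (fun e => hw ?_) ?_
    · exact Subtype.ext (Subtype.ext (conj_eq_one_iff.1 (congrArg Subtype.val e)))
    · refine H.mem_section (c := c) (t := ((w : E) : G)) (y := ((r : E) : G)) ?_
        (congrArg Subtype.val hcom.eq.symm) hrp (hc _ ⟨w, w.2, rfl⟩) ?_
      · rw [← hrw]; exact congrArg Subtype.val hcom.eq.symm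
      · exact fun e => hw (Subtype.ext (Subtype.ext (conj_eq_one_iff.1 e)))

theorem tau_apply_one (α : NQ P → ℂ) : tau P α 1 = 0 :=
  ext_regular _ (by rw [orderOf_one]; exact (Fact.out : p.Prime).not_dvd_one)

/-- A sum over `P` is a sum over the Frobenius group for functions vanishing off the kernel. -/
theorem sum_emb [Fintype (NQ P)] {f : NQ P → ℂ} (h0 : ∀ l, l ∉ Ker P → f l = 0) (h1 : f 1 = 0) :
    ∑ u ∈ sharp P, f (emb P u) = ∑ l, f l := by
  rw [sum_erase _ (by rw [map_one, h1])]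
  rw [← sum_image fun a _ b _ h => emb_injective h]
  refine sum_subset (subset_univ _) fun l _ hl => h0 l ?_
  rintro ⟨u, rfl⟩
  exact hl (mem_image_of_mem _ (mem_univ u))

/-- The map is an isometry on the characters vanishing at one and off the kernel. -/
theorem tau_isometry [Fintype (NQ P)] (S : Set (NQ P → ℂ))
    (hgen : ∀ φ ∈ S, Cfsg.IsGeneralizedCharacter (NQ P) φ)
    (hoff : ∀ φ ∈ S, ∀ l, l ∉ Ker P → φ l = 0) :
    Cfsg.IsLinearIsometryOn (Cfsg.zspanOn S ({1}ᶜ : Set (NQ P))) (tau P) ∧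
      ∀ α ∈ Cfsg.zspanOn S ({1}ᶜ : Set (NQ P)), tau P α 1 = 0 := by
  have hspan : ∀ α ∈ Cfsg.zspan S, Cfsg.IsGeneralizedCharacter (NQ P) α ∧ ∀ l, l ∉ Ker P → α l = 0 := by
    intro α hα
    induction hα using Submodule.span_induction with
    | mem φ hφ => exact ⟨hgen φ hφ, hoff φ hφ⟩
    | zero => exact ⟨isGeneralized_zero, fun _ _ => rfl⟩
    | add a b _ _ h1 h2 => exact ⟨IsGeneralized.add h1.1 h2.1, fun x hx => by
        rw [Pi.add_apply, h1.2 x hx, h2.2 x hx, add_zero]⟩
    | smul n a _ h => exact ⟨IsGeneralized.zsmul h.1 n, fun x hx => by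
        rw [Pi.smul_apply, h.2 x hx, smul_zero]⟩
  have hz : ∀ α ∈ Cfsg.zspanOn S ({1}ᶜ : Set (NQ P)), α 1 = 0 := fun α hα => hα.2 1 (by simp)
  refine ⟨⟨fun α _ β _ => ?_, fun α _ n => ?_, fun α hα β hβ => ?_,
    fun α hα => H.tau_generalized (hspan α hα.1).1 (hz α hα)⟩, fun α _ => H.tau_apply_one α⟩
  · exact ext_add _ _
  · exact ext_zsmul n _
  · have hL : (Nat.card (NQ P) : ℂ) ≠ 0 := Nat.cast_ne_zero.2 Nat.card_pos.ne'
    refine mul_left_cancel₀ hL ?_
    rw [tau, tau, H.inner_ext_ext (H.inv_of_classFunction (IsGeneralized.isClassFunction (hspan α hα.1).1))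
      (H.inv_of_classFunction (IsGeneralized.isClassFunction (hspan β hβ.1).1)),
      Cfsg.classInner, ← mul_assoc, mul_inv_cancel₀ hL, one_mul]
    exact H.sum_emb (f := fun l => α l * conj (β l)) (fun l hl => by rw [(hspan α hα.1).2 l hl, zero_mul])
      (by rw [hz α hα, zero_mul])

end Hyp

end CfsgLib.PairSolv
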