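import Cfsg.Agent.PairSolv.TwoBase

/-!
# Pairs of involutions: the Suzuki groups
-/

set_option autoImplicit false
set_option linter.unusedSectionVars false
set_option linter.style.haveILetI false

namespace CfsgLib.PairSolv

open Subgroup CfsgLib.SectionCount

universe u

variable {G : Type u} [Group G] [Finite G] [Fact (Nat.Prime 2)]

/-- `P ⊓ N` is a Sylow subgroup of `N`. -/
theorem exists_sylow_inf (P : Sylow 2 G) (N : Subgroup G) [hN : N.Normal] :
    ∃ S : Sylow 2 N, ∀ x : N, x ∈ (S : Subgroup N) ↔ (x : G) ∈ (P : Subgroup G) := by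
  obtain ⟨R, hR⟩ := (P.2.comap_of_injective N.subtype N.subtype_injective).exists_le_sylow
  obtain ⟨c, hc⟩ := exists_conj_into P (R.2.map N.subtype)
  have hle : (P : Subgroup G) ⊓ N ≤ (R : Subgroup N).map N.subtype := fun x hx =>
    ⟨⟨x, hx.2⟩, hR hx.1, rfl⟩
  have hcard : Nat.card ((R : Subgroup N).map N.subtype) ≤ Nat.card ↥((P : Subgroup G) ⊓ N) := by
    rw [← card_map_of_injective (K := (R : Subgroup N).map N.subtype) (f := (MulAut.conj c).toMonoidHom)
      (MulAut.conj c).injective]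
    refine card_le_of_le ?_
    rintro _ ⟨y, hy, rfl⟩
    refine ⟨hc y hy, ?_⟩
    obtain ⟨y', -, rfl⟩ := hy
    exact hN.conj_mem _ y'.2 c
  refine ⟨R, fun x => ⟨fun hx => ?_, fun hx => hR hx⟩⟩
  have h : (x : G) ∈ (R : Subgroup N).map N.subtype := ⟨x, hx, rfl⟩
  rw [← eq_of_le_of_card_ge hle hcard] at h
  exact h.1

namespace Hyp

variable {P : Sylow 2 G} (H : Hyp P)
include H

/-- The Sylow subgroup lies in the simple normal subgroup. -/
theorem sylow_le {N : Subgroup G} [hN : N.Normal] (hshape : TwoShape N)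
    (hcen : ∀ a ∈ (P : Subgroup G), a ∈ N → a * a = 1 → ∀ v ∈ (P : Subgroup G), v * a = a * v)
    {a b : G} (haP : a ∈ (P : Subgroup G)) (hbP : b ∈ (P : Subgroup G)) (haN : a ∈ N) (hbN : b ∈ N)
    (ha : a * a = 1) (hb : b * b = 1) (ha1 : a ≠ 1) (hb1 : b ≠ 1) (hab : a ≠ b) :
    (P : Subgroup G) ≤ N := by
  intro g hg
  by_contra hgN
  obtain ⟨S, hS⟩ := exists_sylow_inf P N
  -- an element of odd order of `N` normalizing `P ⊓ N` and moving `a`
  obtain ⟨m, hm⟩ := isConj_iff.1 (hshape.1 ⟨b, hbN⟩ ⟨a, haN⟩ (orderOf_eq_two (Subtype.ext hb)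
    fun h => hb1 (congrArg Subtype.val h)) (orderOf_eq_two (Subtype.ext ha)
    fun h => ha1 (congrArg Subtype.val h)))
  have hcS : ∀ s ∈ (S : Subgroup N), s * (⟨a, haN⟩ : N) = ⟨a, haN⟩ * s := fun s hs =>
    Subtype.ext (hcen a haP haN ha s ((hS s).1 hs))
  obtain ⟨n, hn, hne⟩ := Sylow.conj_eq_normalizer_conj_of_mem_centralizer S (⟨a, haN⟩ : N) m
    (mem_centralizer_iff.2 fun s hs => hcS s hs) (by
      rw [← hm, show m⁻¹ * (m * (⟨b, hbN⟩ : N) * m⁻¹) * m = ⟨b, hbN⟩ by group]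
      exact mem_centralizer_iff.2 fun s hs =>
        Subtype.ext (hcen b hbP hbN hb s ((hS s).1 hs)))
  have hna : n * (⟨a, haN⟩ : N) ≠ ⟨a, haN⟩ * n := by
    intro h
    refine hab (congrArg Subtype.val (show (⟨a, haN⟩ : N) = ⟨b, hbN⟩ from ?_))
    calc (⟨a, haN⟩ : N) = n⁻¹ * (n * ⟨a, haN⟩) := (inv_mul_cancel_left _ _).symm
      _ = n⁻¹ * ⟨a, haN⟩ * n := by rw [h, mul_assoc]
      _ = m⁻¹ * ⟨a, haN⟩ * m := hne.symm
      _ = ⟨b, hbN⟩ := by rw [← hm]; group
  obtain ⟨k, hk2, hka⟩ := exists_odd_power S hn hcS hna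
  set h₀ := n ^ k with hh₀
  have hhS : h₀ ∈ normalizer ((S : Subgroup N) : Set N) := pow_mem hn k
  set h := (h₀ : G) with hhdef
  have hha : h * a ≠ a * h := fun e => hka (Subtype.ext e)
  have hnorm : ∀ x, x ∈ (P : Subgroup G) → x ∈ N → h * x * h⁻¹ ∈ (P : Subgroup G) ∧
      h⁻¹ * x * h ∈ (P : Subgroup G) := fun x hx hxN =>
    ⟨(hS _).1 ((mem_normalizer_iff.1 hhS ⟨x, hxN⟩).1 ((hS _).2 hx)),
      (hS _).1 ((mem_normalizer_iff''.1 hhS ⟨x, hxN⟩).1 ((hS _).2 hx))⟩
  -- Frattini argument in the centralizer of the involutions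
  let Z : Set G := {x | x ∈ (P : Subgroup G) ∧ x ∈ N ∧ x * x = 1}
  let X := centralizer Z
  have hPX : (P : Subgroup G) ≤ X := fun v hv => mem_centralizer_iff.2 fun x hx =>
    (hcen x hx.1 hx.2.1 hx.2.2 v hv).symm
  have hhX : ∀ v ∈ X, h * v * h⁻¹ ∈ X := fun v hv => mem_centralizer_iff.2 fun x hx => by
    obtain ⟨hxP, hxN, hx2⟩ := hx
    have hx' : h⁻¹ * x * h ∈ Z := by
      refine ⟨(hnorm x hxP hxN).2, mul_mem (mul_mem (inv_mem h₀.2) hxN) h₀.2, ?_⟩
      calc h⁻¹ * x * h * (h⁻¹ * x * h) = h⁻¹ * (x * x) * h := by group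
        _ = 1 := by rw [hx2]; group
    calc x * (h * v * h⁻¹) = h * ((h⁻¹ * x * h) * v) * h⁻¹ := by group
      _ = h * (v * (h⁻¹ * x * h)) * h⁻¹ := by rw [mem_centralizer_iff.1 hv _ hx']
      _ = h * v * h⁻¹ * x := by group
  have hle : ((h • P : Sylow 2 G) : Subgroup G) ≤ X := by
    rw [Sylow.coe_subgroup_smul]
    rintro _ ⟨v, hv, rfl⟩
    exact hhX v (hPX hv)
  obtain ⟨w, hw⟩ := MulAction.exists_smul_eq ↥X ((h • P).subtype hle) (P.subtype hPX)
  have hwn : (w : G) * h ∈ normalizer ((P : Subgroup G) : Set G) := by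
    refine Sylow.smul_eq_iff_mem_normalizer.1 ?_
    rw [mul_smul]
    exact Sylow.subtype_injective ((Sylow.smul_subtype hle w).symm.trans hw)
  have haZ : a ∈ Z := ⟨haP, haN, ha⟩
  have hXa : X ≤ centralizer ({a} : Set G) := centralizer_le (Set.singleton_subset_iff.2 haZ)
  set C := centralizer ({a} : Set G) with hCdef
  obtain ⟨o, ho, s, hs, hwos⟩ := H.cent_decomp haP ha1 ⟨(w : G), hXa w.2⟩
  haveI := CfsgLib.Solvable.pPrimeCore_normal (G := C) 2
  set o' : C := s⁻¹ * o * s with ho'def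
  have ho' : o' ∈ core 2 a := by
    have := Normal.conj_mem (H := core 2 a) inferInstance o ho s⁻¹
    rwa [inv_inv] at this
  set k₁ := (s : G)⁻¹ * ((w : G) * h) with hk₁
  have hk₁n : k₁ ∈ normalizer ((P : Subgroup G) : Set G) :=
    mul_mem (inv_mem (le_normalizer hs)) hwn
  have hk₁o : k₁ = (o' : G) * h := by
    rw [hk₁, ho'def, show (w : G) = (o : G) * s from congrArg Subtype.val hwos]
    simp only [Subgroup.coe_mul, Subgroup.coe_inv]
    group
  have ho'X : (o' : G) ∈ X := by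
    have : (o' : G) = (s : G)⁻¹ * (w : G) := by
      rw [ho'def, show (w : G) = (o : G) * s from congrArg Subtype.val hwos]
      simp only [Subgroup.coe_mul, Subgroup.coe_inv]
      group
    rw [this]
    exact mul_mem (inv_mem (hPX hs)) w.2
  let π := QuotientGroup.mk' N
  have hπh : π h = 1 := (QuotientGroup.eq_one_iff h).2 h₀.2
  have hcomm : ∀ v ∈ (P : Subgroup G), π k₁ * π v = π v * π k₁ := by
    intro v hv
    set v' : C := ⟨v, hXa (hPX hv)⟩
    have hc : o' * v' * o'⁻¹ * v'⁻¹ ∈ core 2 a := by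
      rw [show o' * v' * o'⁻¹ * v'⁻¹ = o' * (v' * o'⁻¹ * v'⁻¹) by group]
      exact mul_mem ho' (Normal.conj_mem inferInstance _ (inv_mem ho') v')
    haveI := Fintype.ofFinite G
    have hodd := SectionCount.not_dvd_orderOf (G := G) Nat.prime_two hc
    rw [← Subgroup.orderOf_coe] at hodd
    simp only [Subgroup.coe_mul, Subgroup.coe_inv] at hodd
    have hp : k₁ * v * k₁⁻¹ * v⁻¹ ∈ (P : Subgroup G) :=
      mul_mem ((mem_normalizer_iff.1 hk₁n v).1 hv) (inv_mem hv)
    have heq : π (k₁ * v * k₁⁻¹ * v⁻¹) = π ((o' : G) * v * (o' : G)⁻¹ * v⁻¹) := by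
      rw [hk₁o]; simp only [map_mul, map_inv, hπh, mul_one]
    obtain ⟨j, hj⟩ := IsPGroup.iff_orderOf.1 P.2 ⟨_, hp⟩
    rw [Subgroup.orderOf_mk] at hj
    have h1 : π (k₁ * v * k₁⁻¹ * v⁻¹) = 1 := by
      rw [← orderOf_eq_one_iff]
      refine Nat.eq_one_of_dvd_coprimes ((Nat.prime_two.coprime_iff_not_dvd.2 hodd).pow_left j) ?_ ?_
      · exact hj ▸ orderOf_map_dvd π _
      · exact heq ▸ orderOf_map_dvd π _
    rw [map_mul, map_mul, map_mul, map_inv, map_inv, mul_inv_eq_one, mul_inv_eq_iff_eq_mul] at h1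
    exact h1
  have hk₁a : k₁ * a ≠ a * k₁ := by
    intro e
    apply hha
    have hoa : (o' : G) * a = a * o' := (mem_centralizer_iff.1 ho'X a haZ).symm
    rw [hk₁o] at e
    refine mul_left_cancel (a := (o' : G)) ?_
    calc (o' : G) * (h * a) = a * ((o' : G) * h) := by rw [← mul_assoc, e]
      _ = (o' : G) * (a * h) := by rw [← mul_assoc, ← hoa, mul_assoc]
  obtain ⟨k', hk'2, hk'a⟩ := exists_odd_power P hk₁n (hcen a haP haN ha) hk₁a
  obtain ⟨e, q, j, hq, hqd, he, hej⟩ := exists_primePow_power (centralizer ({a} : Set G))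
    (k := k₁ ^ k') fun hm => hk'a (mem_centralizer_singleton_iff.1 hm)
  set k₂ := (k₁ ^ k') ^ e with hk₂
  have hk₂n : k₂ ∈ normalizer ((P : Subgroup G) : Set G) := pow_mem (pow_mem hk₁n _) _
  have hk₂2 : ¬ 2 ∣ orderOf k₂ := fun hd => hk'2 (hd.trans (orderOf_pow_dvd e))
  have hq2 : q ≠ 2 := fun h => hk'2 (h ▸ hqd)
  have hk₂π : π k₂ * π g = π g * π k₂ := by
    rw [hk₂, map_pow, map_pow]
    exact (((show Commute (π k₁) (π g) from hcomm g hg).pow_left _).pow_left _).eq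
  -- the fixed point in the coset of `g`
  haveI : Fact q.Prime := ⟨hq⟩
  let T := {x : G // x ∈ (P : Subgroup G) ∧ π x = π g}
  haveI := Fintype.ofFinite T
  have hiff : ∀ x : G, (x ∈ (P : Subgroup G) ∧ π x = π g) ↔
      (k₂ * x * k₂⁻¹ ∈ (P : Subgroup G) ∧ π (k₂ * x * k₂⁻¹) = π g) := by
    intro x
    refine and_congr (mem_normalizer_iff.1 hk₂n x) ?_
    rw [map_mul, map_mul, map_inv, mul_inv_eq_iff_eq_mul, ← hk₂π, mul_left_cancel_iff]
  let σ : Equiv.Perm T := Equiv.subtypeEquiv (MulAut.conj k₂).toEquiv hiff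
  have hσ : σ ^ q ^ j = 1 := by
    have hpow : ∀ i : ℕ, ∀ x : T, ((σ ^ i) x : G) = k₂ ^ i * x * (k₂ ^ i)⁻¹ := by
      intro i
      induction i with
      | zero => intro x; simp
      | succ i ih =>
        intro x
        rw [pow_succ', Equiv.Perm.mul_apply]
        show k₂ * ((σ ^ i) x : G) * k₂⁻¹ = _
        rw [ih, pow_succ']
        group
    ext x
    rw [hpow, hej]
    simp
  have hcard : Fintype.card T = Nat.card ↥((P : Subgroup G) ⊓ N) := by
    rw [← Nat.card_eq_fintype_card]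
    refine (Nat.card_congr ?_).symm
    exact
      { toFun := fun x => ⟨g * x, mul_mem hg x.2.1, by
          rw [map_mul, show π (x : G) = 1 from (QuotientGroup.eq_one_iff _).2 x.2.2, mul_one]⟩
        invFun := fun x => ⟨g⁻¹ * x, mem_inf.2 ⟨(P : Subgroup G).mul_mem ((P : Subgroup G).inv_mem hg) x.2.1,
          (QuotientGroup.eq_one_iff _).1 (by
            show π (g⁻¹ * x) = 1
            rw [map_mul, map_inv, x.2.2, inv_mul_cancel])⟩⟩
        left_inv := fun x => by ext; simp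
        right_inv := fun x => by ext; simp }
  obtain ⟨x, hx⟩ := Equiv.Perm.exists_fixed_point_of_prime (p := q) (n := j) (by
    rw [hcard]
    obtain ⟨i, hi⟩ := IsPGroup.iff_card.1 (P.2.to_le (inf_le_left : (P : Subgroup G) ⊓ N ≤ P))
    rw [hi]
    exact fun hd => hq2 ((Nat.prime_dvd_prime_iff_eq hq Nat.prime_two).1 (hq.dvd_of_dvd_pow hd))) hσ
  have hx1 : (x : G) ≠ 1 := fun e1 => hgN ((QuotientGroup.eq_one_iff g).1 (by
    show π g = 1
    rw [← x.2.2, e1, map_one]))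
  have hxk : k₂ * (x : G) = (x : G) * k₂ := mul_inv_eq_iff_eq_mul.1 (congrArg Subtype.val hx)
  exact he (mem_centralizer_singleton_iff.2 (H.fpf hk₂n hk₂2 x.2.1 hx1 hxk a haP))

/-- Two noncommuting involutions generating a `2`-group do not occur. -/
theorem no_pair {N : Subgroup G} [N.Normal] (hPN : (P : Subgroup G) ≤ N)
    (hcen : ∀ a ∈ (P : Subgroup G), a ∈ N → a * a = 1 → ∀ v ∈ (P : Subgroup G), v * a = a * v)
    {a b : G} (ha : a * a = 1) (hb : b * b = 1) (hne : a * b ≠ b * a) (h4 : (a * b) ^ 4 = 1) : False := by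
  have hai : a⁻¹ = a := inv_eq_of_mul_eq_one_right ha
  have hbi : b⁻¹ = b := inv_eq_of_mul_eq_one_right hb
  have hQ : IsPGroup 2 (zpowers (a * b)) := isPGroup_zpowers_of_pow_eq (j := 2) h4
  have hA : IsPGroup 2 (zpowers a) := isPGroup_zpowers_of_pow_eq (j := 1) (by rw [pow_one, pow_two, ha])
  have han : zpowers a ≤ normalizer ((zpowers (a * b) : Subgroup G) : Set G) := by
    rw [zpowers_le, mem_normalizer_iff]
    have e : a * (a * b) * a⁻¹ = (a * b)⁻¹ := by
      rw [mul_inv_rev, hbi, hai, ← mul_assoc a a b, ha, one_mul]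
    have key : ∀ y ∈ zpowers (a * b), a * y * a⁻¹ ∈ zpowers (a * b) := by
      rintro _ ⟨i, rfl⟩
      show a * (a * b) ^ i * a⁻¹ ∈ _
      rw [← conj_zpow, e]
      exact zpow_mem (inv_mem (mem_zpowers _)) _
    intro y
    refine ⟨key y, fun hy => ?_⟩
    have := key _ hy
    rwa [hai, show a * (a * y * a) * a = a * a * y * (a * a) by group, ha, one_mul, mul_one] at this
  have hsup : IsPGroup 2 ↥(zpowers a ⊔ zpowers (a * b) : Subgroup G) :=
    hA.to_sup_of_normal_right' hQ han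
  obtain ⟨c, hc⟩ := exists_conj_into P hsup
  have h1 : c * a * c⁻¹ ∈ (P : Subgroup G) := hc a (mem_sup_left (mem_zpowers a))
  have h2 : c * b * c⁻¹ ∈ (P : Subgroup G) := hc b (by
    have := mul_mem (mem_sup_left (T := zpowers (a * b)) (inv_mem (mem_zpowers a)))
      (mem_sup_right (S := zpowers a) (mem_zpowers (a * b)))
    rwa [inv_mul_cancel_left] at this)
  have h := hcen _ h1 (hPN h1) (by
    calc c * a * c⁻¹ * (c * a * c⁻¹) = c * (a * a) * c⁻¹ := by group
      _ = 1 := by rw [ha]; group) _ h2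
  refine hne ((MulAut.conj c).injective ?_)
  simp only [map_mul, MulAut.conj_apply]
  exact h.symm

/-- The simple normal subgroup is the whole group when it is a Suzuki group. -/
theorem eq_top_of_suzuki {N : Subgroup G} [hN : N.Normal] (hC : centralizer (N : Set G) = ⊥)
    (hshape : TwoShape N) (hsz : Cfsg.Lie.IsoSuzuki N) (hPN : (P : Subgroup G) ≤ N)
    (hcen : ∀ a ∈ (P : Subgroup G), a ∈ N → a * a = 1 → ∀ v ∈ (P : Subgroup G), v * a = a * v)
    {z : G} (hzP : z ∈ (P : Subgroup G)) (hz : z * z = 1) (hz1 : z ≠ 1) : N = ⊤ := by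
  set S := P.subtype hPN with hSdef
  have hS : ∀ x : N, x ∈ (S : Subgroup N) ↔ (x : G) ∈ (P : Subgroup G) := fun x => Iff.rfl
  have hnP : normalizer ((P : Subgroup G) : Set G) ≤ N := by
    intro y hy
    -- adjust by the normalizer in `N`
    have hy' : y * z * y⁻¹ ∈ (P : Subgroup G) := (mem_normalizer_iff.1 hy z).1 hzP
    have hsq : y * z * y⁻¹ * (y * z * y⁻¹) = 1 := by
      calc y * z * y⁻¹ * (y * z * y⁻¹) = y * (z * z) * y⁻¹ := by group
        _ = 1 := by rw [hz]; group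
    obtain ⟨m, hm⟩ := isConj_iff.1 (hshape.1 ⟨z, hPN hzP⟩ ⟨_, hPN hy'⟩
      (orderOf_eq_two (Subtype.ext hz) fun e => hz1 (congrArg Subtype.val e))
      (orderOf_eq_two (Subtype.ext hsq) fun e => hz1 (conj_eq_one_iff.1 (congrArg Subtype.val e))))
    obtain ⟨n, hn, hne⟩ := Sylow.conj_eq_normalizer_conj_of_mem_centralizer S (⟨_, hPN hy'⟩ : N) m
      (mem_centralizer_iff.2 fun s hs => Subtype.ext (hcen _ hy' (hPN hy') hsq _ ((hS s).1 hs))) (by
        rw [← hm, show m⁻¹ * (m * (⟨z, hPN hzP⟩ : N) * m⁻¹) * m = ⟨z, hPN hzP⟩ by group]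
        exact mem_centralizer_iff.2 fun s hs => Subtype.ext (hcen z hzP (hPN hzP) hz _ ((hS s).1 hs)))
    rw [← hm, show m⁻¹ * (m * (⟨z, hPN hzP⟩ : N) * m⁻¹) * m = ⟨z, hPN hzP⟩ by group, hm] at hne
    have hne' : z = (n : G)⁻¹ * (y * z * y⁻¹) * n := congrArg Subtype.val hne
    have hnN : (n : G) ∈ normalizer ((P : Subgroup G) : Set G) := by
      refine mem_normalizer_iff.2 fun x => ⟨fun hx => ?_, fun hx => ?_⟩
      · exact (hS _).1 ((mem_normalizer_iff.1 hn ⟨x, hPN hx⟩).1 ((hS _).2 hx))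
      · have hxN : x ∈ N := by
          have := mul_mem (mul_mem (inv_mem n.2) (hPN hx)) n.2
          rwa [show (n : G)⁻¹ * ((n : G) * x * (n : G)⁻¹) * n = x by group] at this
        exact (hS _).1 ((mem_normalizer_iff.1 hn ⟨x, hxN⟩).2 ((hS _).2 hx))
    set y₁ := (n : G)⁻¹ * y with hy₁
    have hy₁n : y₁ ∈ normalizer ((P : Subgroup G) : Set G) := mul_mem (inv_mem hnN) hy
    have hy₁z : y₁ * z = z * y₁ := by
      rw [hy₁]
      conv_rhs => rw [hne']
      group
    suffices hy₁N : y₁ ∈ N by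
      have := mul_mem n.2 hy₁N
      rwa [hy₁, mul_inv_cancel_left] at this
    -- split into a `2`-part and an odd part
    set o := orderOf y₁ with ho
    have ho0 : o ≠ 0 := (orderOf_pos y₁).ne'
    set t := o.factorization 2
    have hd : 2 ^ t ∣ o := Nat.ordProj_dvd o 2
    refine mem_of_coprime_pows N ((Nat.coprime_ordCompl Nat.prime_two ho0).pow_left t) ?_ (hPN ?_)
    rotate_left
    · have hQ : IsPGroup 2 (zpowers (y₁ ^ (o / 2 ^ t))) := isPGroup_zpowers_of_pow_eq (j := t) (by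
        rw [← pow_mul, Nat.div_mul_cancel hd, ho, pow_orderOf_eq_one])
      have hmem : y₁ ^ (o / 2 ^ t) ∈
          zpowers (y₁ ^ (o / 2 ^ t)) ⊓ normalizer ((P : Subgroup G) : Set G) :=
        ⟨mem_zpowers _, pow_mem hy₁n _⟩
      exact ((SetLike.ext_iff.1 (hQ.inf_normalizer_sylow P) _).1 hmem).2
    set y₂ := y₁ ^ 2 ^ t with hy₂
    have hy₂2 : ¬ 2 ∣ orderOf y₂ := by
      rw [hy₂, orderOf_pow_of_dvd (by positivity) hd]
      exact Nat.not_dvd_ordCompl Nat.prime_two ho0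
    have hcentP : ∀ v ∈ (P : Subgroup G), y₂ * v = v * y₂ :=
      H.fpf (pow_mem hy₁n _) hy₂2 hzP hz1 ((show Commute y₁ z from hy₁z).pow_left _).eq
    -- it centralizes `N`
    suffices hcN : y₂ ∈ centralizer (N : Set G) by
      rw [hC, mem_bot] at hcN
      rw [hcN]
      exact N.one_mem
    obtain ⟨F, iF, iFt, m', hm', hF, ⟨e₀⟩⟩ := hsz
    have hsz' := Suzuki.isSzField_of_card hm' hF
    let f : N ≃* Suzuki.SzG F m' := e₀.trans (Suzuki.lieEquiv hsz').symm
    haveI := Suzuki.finite_G hsz'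
    obtain ⟨c, hc⟩ := Suzuki.exists_conj_le_unip hsz' (S.2.map f.toMonoidHom)
    let β : N ≃* Suzuki.SzG F m' := f.trans (MulAut.conj c)
    have hU : ∀ u ∈ Suzuki.unip hsz', β.symm u ∈ (S : Subgroup N) := by
      intro u hu
      have hQ : IsPGroup 2 ((Suzuki.unip hsz').comap β.toMonoidHom) :=
        (Suzuki.isPGroup_unip hsz').comap_of_injective _ β.injective
      rw [← S.3 hQ fun x hx => hc _ ⟨x, hx, rfl⟩]
      rw [mem_comap, MulEquiv.toMonoidHom_eq_coe, MonoidHom.coe_coe, MulEquiv.apply_symm_apply]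
      exact hu
    let φ : MulAut N := MulAut.conjNormal y₂
    have hfix : ∀ u ∈ Suzuki.unip hsz', MulAut.congr β φ u = u := by
      intro u hu
      show β (φ (β.symm u)) = u
      have hφ : φ (β.symm u) = β.symm u := Subtype.ext (by
        rw [MulAut.conjNormal_apply, hcentP _ ((hS _).1 (hU u hu)), mul_inv_cancel_right])
      rw [hφ, MulEquiv.apply_symm_apply]
    have hodd : Odd (orderOf y₂) := Nat.not_even_iff_odd.1 fun he => hy₂2 (even_iff_two_dvd.1 he)
    have hone := suzuki_aut_trivial hsz' (MulAut.congr β φ) hfix hodd (by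
      rw [← map_pow, ← map_pow, pow_orderOf_eq_one, map_one, map_one])
    have hφ1 : φ = 1 := (MulAut.congr β).injective (hone.trans (map_one _).symm)
    refine mem_centralizer_iff.2 fun v hv => ?_
    have h := congrArg Subtype.val (DFunLike.congr_fun hφ1 ⟨v, hv⟩)
    rw [MulAut.conjNormal_apply] at h
    exact (mul_inv_eq_iff_eq_mul.1 h).symm
  exact top_le_iff.1 ((Sylow.normalizer_sup_eq_top' P hPN).symm.le.trans (sup_le hnP le_rfl))

/-- For `p = 2` only the Suzuki groups remain. -/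
theorem iso_suzuki (hd : ¬ (Cfsg.IsElementaryAbelian 2 (P : Subgroup G) ∧
      ∀ x ∈ (P : Subgroup G), ∀ y ∈ (P : Subgroup G), x ≠ 1 → y ≠ 1 → ∃ g : G, g * x * g⁻¹ = y)) :
    Cfsg.Lie.IsoSuzuki G := by
  obtain ⟨N, hN, hC, hshape, hcen, a, haP, b, hbP, haN, hbN, ha, hb, ha1, hb1, hab⟩ := H.exists_data
  haveI := hN
  have hPN := H.sylow_le hshape hcen haP hbP haN hbN ha hb ha1 hb1 hab
  rcases hshape.2 with hsz | ⟨x, y, hx, hy, hxy, h4⟩ | hel
  · have hT := H.eq_top_of_suzuki hC hshape hsz hPN hcen haP ha ha1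
    obtain ⟨F, iF, iFt, m, hm, hF, ⟨e⟩⟩ := hsz
    subst hT
    exact ⟨F, iF, iFt, m, hm, hF, ⟨Subgroup.topEquiv.symm.trans e⟩⟩
  · exact (H.no_pair hPN hcen (congrArg Subtype.val hx) (congrArg Subtype.val hy)
      (fun h => hxy (Subtype.ext h)) (congrArg Subtype.val h4)).elim
  · refine (hd ?_).elim
    have hsq : ∀ v ∈ (P : Subgroup G), v * v = 1 := fun v hv =>
      congrArg Subtype.val (hel (P.subtype hPN)
        (fun c hc hc2 w hw => Subtype.ext (hcen (c : G) hc c.2 (congrArg Subtype.val hc2) (w : G) hw))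
        ⟨⟨a, haN⟩, haP, ⟨b, hbN⟩, hbP, Subtype.ext ha, Subtype.ext hb,
          fun e => ha1 (congrArg Subtype.val e), fun e => hb1 (congrArg Subtype.val e),
          fun e => hab (congrArg Subtype.val e)⟩ ⟨v, hPN hv⟩ hv)
    refine ⟨⟨⟨⟨fun x y => Subtype.ext (hcen _ y.2 (hPN y.2) (hsq _ y.2) _ x.2)⟩⟩, fun x hx => ?_⟩, ?_⟩
    · rw [pow_two]; exact hsq x hx
    · intro x hx y hy hx1 hy1
      obtain ⟨g, hg⟩ := isConj_iff.1 (hshape.1 ⟨x, hPN hx⟩ ⟨y, hPN hy⟩
        (orderOf_eq_two (Subtype.ext (hsq x hx)) fun e => hx1 (congrArg Subtype.val e))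
        (orderOf_eq_two (Subtype.ext (hsq y hy)) fun e => hy1 (congrArg Subtype.val e)))
      exact ⟨g, congrArg Subtype.val hg⟩

end Hyp

end CfsgLib.PairSolv
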