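import Cfsg.Agent.Classical.PSLTwoFour
import Cfsg.Agent.Classical.PSLThreeFour
import Cfsg.Agent.PrimePairs.Shapes
import Cfsg.Agent.GW.Eight.ModelGroups
import Cfsg.Agent.Suzuki.Automorphisms
import Cfsg.Agent.Suzuki.Fixity
import Cfsg.Agent.Suzuki.LieModel
import Cfsg.Agent.Suzuki.SylowAut

/-!
# Facts about the simple groups with `2`-nilpotent involution centralizers
-/

set_option autoImplicit false
set_option linter.unusedSectionVars false
set_option linter.style.haveILetI false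
set_option linter.unusedSimpArgs false

namespace CfsgLib.PairSolv

open Subgroup

universe u

/-- The two simple-group shapes that occur: all involutions conjugate, and either two noncommuting
involutions generate a `2`-group, or involutions central in a Sylow subgroup make it elementary. -/
def TwoShape (N : Type u) [Group N] : Prop :=
  (∀ a b : N, orderOf a = 2 → orderOf b = 2 → IsConj a b) ∧
    (Cfsg.Lie.IsoSuzuki N ∨ (∃ a b : N, a * a = 1 ∧ b * b = 1 ∧ a * b ≠ b * a ∧ (a * b) ^ 4 = 1) ∨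
      ∀ S : Sylow 2 N, (∀ a ∈ (S : Subgroup N), a * a = 1 → ∀ v ∈ (S : Subgroup N), v * a = a * v) →
        (∃ a ∈ (S : Subgroup N), ∃ b ∈ (S : Subgroup N), a * a = 1 ∧ b * b = 1 ∧ a ≠ 1 ∧ b ≠ 1 ∧ a ≠ b) →
        ∀ v ∈ (S : Subgroup N), v * v = 1)

theorem orderOf_eq_two {M : Type*} [Monoid M] {a : M} (h : a * a = 1) (h1 : a ≠ 1) : orderOf a = 2 :=
  orderOf_eq_prime (by rwa [pow_two]) h1

theorem sq_of_orderOf {M : Type*} [Monoid M] {a : M} (h : orderOf a = 2) : a * a = 1 ∧ a ≠ 1 :=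
  ⟨by rw [← pow_two, ← h, pow_orderOf_eq_one], fun e => by rw [e, orderOf_one] at h; omega⟩

theorem twoShape_of_equiv {N M : Type*} [Group N] [Group M] (e : N ≃* M)
    (hc : ∀ a b : M, orderOf a = 2 → orderOf b = 2 → IsConj a b) :
    ∀ a b : N, orderOf a = 2 → orderOf b = 2 → IsConj a b := fun a b ha hb => by
  simpa using e.symm.toMonoidHom.map_isConj (hc (e a) (e b) (by rwa [e.orderOf_eq])
    (by rwa [e.orderOf_eq]))

theorem twoShape_suzuki {N : Type u} [Group N] (h : Cfsg.Lie.IsoSuzuki N) : TwoShape N := by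
  refine ⟨?_, Or.inl h⟩
  obtain ⟨F, iF, iFt, m, hm, hF, ⟨e⟩⟩ := h
  have hz := Suzuki.isSzField_of_card hm hF
  refine twoShape_of_equiv (e.trans (Suzuki.lieEquiv hz).symm) fun a b ha hb => ?_
  obtain ⟨c, hc⟩ := Suzuki.involution_to_std hz (sq_of_orderOf ha).2 (sq_of_orderOf ha).1
  obtain ⟨d, hd⟩ := Suzuki.involution_to_std hz (sq_of_orderOf hb).2 (sq_of_orderOf hb).1
  exact (isConj_iff.2 ⟨c, hc⟩).trans (isConj_iff.2 ⟨d, hd⟩).symm

theorem alt7_pair : ∃ a b : alternatingGroup (Fin 7), a * a = 1 ∧ b * b = 1 ∧ a * b ≠ b * a ∧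
    (a * b) ^ 4 = 1 :=
  ⟨⟨Equiv.swap 0 1 * Equiv.swap 2 3, by
      simp [Equiv.Perm.mem_alternatingGroup, Equiv.Perm.sign_swap]⟩,
    ⟨Equiv.swap 0 2 * Equiv.swap 4 5, by
      simp [Equiv.Perm.mem_alternatingGroup, Equiv.Perm.sign_swap]⟩,
    by decide, by decide, by decide, by decide⟩

theorem twoShape_alt7 {N : Type u} [Group N] (e : N ≃* alternatingGroup (Fin 7)) : TwoShape N := by
  refine ⟨twoShape_of_equiv e fun a b ha hb => GW.Eight.alt7_involutions_conj
    (NormCyclic.Inv.of_orderOf ha) (NormCyclic.Inv.of_orderOf hb), Or.inr (Or.inl ?_)⟩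
  obtain ⟨a, b, ha, hb, hne, h4⟩ := alt7_pair
  refine ⟨e.symm a, e.symm b, by rw [← map_mul, ha, map_one], by rw [← map_mul, hb, map_one],
    fun h => hne (e.symm.injective (by rwa [map_mul, map_mul])), by
      rw [← map_mul, ← map_pow, h4, map_one]⟩

theorem twoShape_pslThree {N : Type u} [Group N] {F : Type} [Field F] [Fintype F]
    (hF : Fintype.card F = 4) (e : N ≃* Matrix.ProjectiveSpecialLinearGroup (Fin 3) F) :
    TwoShape N := by
  classical
  refine ⟨twoShape_of_equiv e fun a b => Linear.ThreeFour.involutions_conj hF a b,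
    Or.inr (Or.inl ?_)⟩
  have h2 : (2 : F) = 0 := Linear.ThreeFour.two_eq_zero hF
  have h11 : (1 : F) + 1 = 0 := by rw [one_add_one_eq_two, h2]
  let A : Matrix.SpecialLinearGroup (Fin 3) F := ⟨!![1, 1, 0; 0, 1, 0; 0, 0, 1], by
    simp [Matrix.det_fin_three]⟩
  let B : Matrix.SpecialLinearGroup (Fin 3) F := ⟨!![1, 0, 0; 0, 1, 1; 0, 0, 1], by
    simp [Matrix.det_fin_three]⟩
  let π : Matrix.SpecialLinearGroup (Fin 3) F →* Matrix.ProjectiveSpecialLinearGroup (Fin 3) F :=
    QuotientGroup.mk' _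
  have hA : A * A = 1 := by
    apply Subtype.ext
    show (!![1, 1, 0; 0, 1, 0; 0, 0, 1] : Matrix (Fin 3) (Fin 3) F) * !![1, 1, 0; 0, 1, 0; 0, 0, 1] = 1
    ext i j; fin_cases i <;> fin_cases j <;> simp [Matrix.mul_apply, Fin.sum_univ_three, h11]
  have hB : B * B = 1 := by
    apply Subtype.ext
    show (!![1, 0, 0; 0, 1, 1; 0, 0, 1] : Matrix (Fin 3) (Fin 3) F) * !![1, 0, 0; 0, 1, 1; 0, 0, 1] = 1
    ext i j; fin_cases i <;> fin_cases j <;> simp [Matrix.mul_apply, Fin.sum_univ_three, h11]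
  have h4 : (A * B) * (A * B) * ((A * B) * (A * B)) = 1 := by
    apply Subtype.ext
    show (((!![1, 1, 0; 0, 1, 0; 0, 0, 1] : Matrix (Fin 3) (Fin 3) F) * !![1, 0, 0; 0, 1, 1; 0, 0, 1]) *
      (!![1, 1, 0; 0, 1, 0; 0, 0, 1] * !![1, 0, 0; 0, 1, 1; 0, 0, 1])) *
      ((!![1, 1, 0; 0, 1, 0; 0, 0, 1] * !![1, 0, 0; 0, 1, 1; 0, 0, 1]) *
      (!![1, 1, 0; 0, 1, 0; 0, 0, 1] * !![1, 0, 0; 0, 1, 1; 0, 0, 1])) = 1
    ext i j; fin_cases i <;> fin_cases j <;>
      simp [Matrix.mul_apply, Fin.sum_univ_three, h11, add_comm, add_left_comm, add_assoc]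
  have hne : π (A * B) ≠ π (B * A) := by
    intro he
    have hc : (A * B)⁻¹ * (B * A) ∈ Subgroup.center (Matrix.SpecialLinearGroup (Fin 3) F) :=
      QuotientGroup.eq.1 he
    rw [Matrix.SpecialLinearGroup.mem_center_iff] at hc
    obtain ⟨r, -, hr⟩ := hc
    have h3 : (A * B).1 * Matrix.scalar (Fin 3) r = (B * A).1 := by
      rw [hr, ← Matrix.SpecialLinearGroup.coe_mul, mul_inv_cancel_left]
    have h3' : ((!![1, 1, 0; 0, 1, 0; 0, 0, 1] : Matrix (Fin 3) (Fin 3) F) * !![1, 0, 0; 0, 1, 1; 0, 0, 1]) *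
        Matrix.scalar (Fin 3) r = !![1, 0, 0; 0, 1, 1; 0, 0, 1] * !![1, 1, 0; 0, 1, 0; 0, 0, 1] := h3
    have h00 := congrFun (congrFun h3' 0) 0
    have h02 := congrFun (congrFun h3' 0) 2
    simp [Matrix.mul_apply, Fin.sum_univ_three] at h00 h02
    rw [h00] at h02
    exact one_ne_zero h02
  refine ⟨e.symm (π A), e.symm (π B), by rw [← map_mul, ← map_mul, hA, map_one, map_one],
    by rw [← map_mul, ← map_mul, hB, map_one, map_one],
    fun h => hne (e.symm.injective (by rwa [map_mul, map_mul, map_mul, map_mul])), ?_⟩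
  rw [← map_mul, ← map_mul, ← map_pow, ← map_pow,
    show (A * B) ^ 4 = (A * B) * (A * B) * ((A * B) * (A * B)) by
      simp [pow_succ, mul_assoc], h4, map_one, map_one]

theorem twoShape_pslTwo {N : Type u} [Group N] [Finite N] {F : Type} [Field F] [Fintype F]
    (e : N ≃* Matrix.ProjectiveSpecialLinearGroup (Fin 2) F) : TwoShape N := by
  classical
  rcases Nat.even_or_odd (Fintype.card F) with hev | hodd
  · -- characteristic two
    obtain ⟨n, hp, hn⟩ := FiniteField.card F (ringChar F)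
    have hr : ringChar F = 2 := by
      rw [hn] at hev
      exact hp.eq_two_or_odd'.resolve_right fun ho => (Nat.not_even_iff_odd.2 (ho.pow)) hev
    haveI : CharP F 2 := hr ▸ ringChar.charP F
    haveI : Fact (Nat.Prime 2) := ⟨Nat.prime_two⟩
    refine ⟨fun a b => PrimePairs.invol_conj_even e, Or.inr (Or.inr ?_)⟩
    intro S hcent _ v hv
    -- an element of order four would give a nonscalar of nilpotency degree two
    let f : N ≃* Matrix.SpecialLinearGroup (Fin 2) F :=
      e.trans (SL2Char2.slEquivPSL (F := F)).symm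
    have key : ∀ g : Matrix.SpecialLinearGroup (Fin 2) F, g ^ 2 ^ 2 = 1 → g * g = 1 := by
      intro g hg
      set M := (g : Matrix (Fin 2) (Fin 2) F)
      have hd : M 0 0 * M 1 1 - M 0 1 * M 1 0 = 1 := by rw [← Matrix.det_fin_two]; exact g.2
      set t := M 0 0 + M 1 1 with ht
      have hCH : M * M = t • M - 1 := by
        ext i j
        fin_cases i <;> fin_cases j <;> simp [Matrix.mul_apply, Fin.sum_univ_two, ht]
        · linear_combination -hd
        · ring
        · ring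
        · linear_combination -hd
      have hM4 : M * M * (M * M) = 1 := by
        have := congrArg Subtype.val hg
        simpa [pow_succ, mul_assoc] using this
      by_cases h0 : t = 0
      · apply Subtype.ext
        show M * M = 1
        rw [hCH, h0, zero_smul, zero_sub, CharTwo.neg_eq]
      · exfalso
        rw [hCH] at hM4
        have h2 : (2 : F) = 0 := CharTwo.two_eq_zero
        have e00 := congrFun (congrFun hM4 0) 0
        have e01 := congrFun (congrFun hM4 0) 1
        have e10 := congrFun (congrFun hM4 1) 0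
        have e11 := congrFun (congrFun hM4 1) 1
        simp [Matrix.mul_apply, Fin.sum_univ_two] at e00 e01 e10 e11
        have a01 : M 0 1 = 0 := by
          have : t ^ 3 * M 0 1 = 0 := by
            linear_combination e01 - t ^ 2 * M 0 1 * ht.symm + t * M 0 1 * h2
          simpa [h0] using this
        have a10 : M 1 0 = 0 := by
          have : t ^ 3 * M 1 0 = 0 := by
            linear_combination e10 - t ^ 2 * M 1 0 * ht.symm + t * M 1 0 * h2
          simpa [h0] using this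
        rw [a01] at e00 e11 hd
        simp only [zero_mul, mul_zero, sub_zero, add_zero, zero_add] at e00 e11 hd
        have hte : (t * M 0 0 - 1) = (1 : F) := CharTwo.sq_inj.1 (by rw [one_pow, sq]; exact e00)
        have htd : (t * M 1 1 - 1) = (1 : F) := CharTwo.sq_inj.1 (by rw [one_pow, sq]; exact e11)
        have : t * t = 0 := by
          linear_combination hte + htd - t * ht.symm + 2 * h2
        exact h0 (mul_self_eq_zero.1 this)
    -- reduce to fourth powers
    obtain ⟨k, hk⟩ := IsPGroup.iff_orderOf.1 S.2 ⟨v, hv⟩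
    rw [Subgroup.orderOf_mk] at hk
    have hk' : ∀ j, ∀ w : N, w ^ 2 ^ j = 1 → w ^ 2 = 1 := by
      intro j
      induction j with
      | zero => intro w hw; simp at hw; simp [hw]
      | succ j ih =>
        intro w hw
        rw [pow_succ', pow_mul] at hw
        have h1 := ih _ hw
        rw [← pow_mul] at h1
        have := key (f w) (by rw [← map_pow, show 2 ^ 2 = 2 * 2 from rfl, h1, map_one])
        rw [pow_two]
        exact f.injective (by rwa [map_mul, map_one])
    rw [← pow_two]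
    exact hk' k v (by rw [← hk, pow_orderOf_eq_one])
  · -- odd characteristic
    refine ⟨twoShape_of_equiv e fun a b ha hb => Linear.FourGroups.involutions_conj hodd
      (sq_of_orderOf ha).1 (sq_of_orderOf ha).2 (sq_of_orderOf hb).1 (sq_of_orderOf hb).2,
      Or.inr (Or.inr ?_)⟩
    intro S hcent htwo
    obtain ⟨x, U, _, hx, hx1, hxU, hUC, -, -, -, -, hinv, hout⟩ :=
      Linear.FourGroups.centralizer_shape (F := F) hodd
    obtain ⟨a, ha, b, hb, ha2, hb2, ha1, hb1, hab⟩ := htwo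
    obtain ⟨g, hg⟩ := isConj_iff.1 (Linear.FourGroups.involutions_conj hodd
      (a := e a) (b := x) (by rw [← map_mul, ha2, map_one]) (fun h => ha1 (e.map_eq_one_iff.1 h)) hx hx1)
    let f : N ≃* Matrix.ProjectiveSpecialLinearGroup (Fin 2) F := e.trans (MulAut.conj g)
    have hfa : f a = x := hg
    have hC : ∀ v ∈ (S : Subgroup N), f v ∈ centralizer ({x} : Set _) := fun v hv => by
      rw [mem_centralizer_singleton_iff, ← hfa, ← map_mul, ← map_mul, hcent a ha ha2 v hv]
    have hfb : f b ∉ U := fun h => by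
      rcases hinv _ h (by rw [← map_mul, hb2, map_one]) with h' | h'
      · exact hb1 (f.map_eq_one_iff.1 h')
      · exact hab (f.injective (hfa.trans h'.symm))
    intro v hv
    apply f.injective
    rw [map_mul, map_one]
    by_cases hvU : f v ∈ U
    · have h := (hout _ (hC b hb) hfb).2.2 _ hvU
      have hcomm : f b * f v * (f b)⁻¹ = f v := by
        rw [← map_mul, ← hcent b hb hb2 v hv, map_mul, mul_inv_cancel_right]
      rw [hcomm] at h
      exact mul_eq_one_iff_eq_inv.2 h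
    · exact (hout _ (hC v hv) hvU).1

/-- An automorphism of odd order fixing a Sylow `2`-subgroup of a Suzuki group pointwise. -/
theorem suzuki_aut_trivial {F : Type*} [Field F] {m : ℕ} (h : Suzuki.IsSzField F m)
    (α : MulAut (Suzuki.SzG F m)) (hfix : ∀ u ∈ Suzuki.unip h, α u = u) {o : ℕ} (ho : Odd o)
    (hα : α ^ o = 1) : α = 1 := by
  obtain ⟨θ, c, hc⟩ := Suzuki.aut_eq_inner_field h α
  have hact : ∀ a b, c * Suzuki.uE h (θ a) (θ b) * c⁻¹ = Suzuki.uE h a b := fun a b => by
    rw [← Suzuki.fieldAut_uE h θ a b, ← hc]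
    exact hfix _ (Suzuki.uE_mem h a b)
  have hne : Suzuki.uE h (θ 1) (θ 0) ≠ 1 := fun he => by
    have := ((Suzuki.uE_eq_one h).1 he).1
    simp at this
  obtain ⟨c₁, d₁, t, rfl⟩ := (Suzuki.mem_stab_inf h).1 (Suzuki.mem_borel_of_conj_mem_unip h
    (Suzuki.uE_mem h _ _) hne (by rw [hact]; exact Suzuki.uE_mem h _ _))
  have hact' : ∀ a b, (Suzuki.sg m (t : F) * θ a = a) ∧ Suzuki.sg m (t : F) * (t : F) ^ 2 * θ b +
      (Suzuki.sg m c₁ * (Suzuki.sg m (t : F) * θ a) + Suzuki.sg m (Suzuki.sg m (t : F) * θ a) * c₁) = b := by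
    intro a b
    have h1 := hact a b
    rw [show Suzuki.uE h c₁ d₁ * Suzuki.dE h t * Suzuki.uE h (θ a) (θ b) *
        (Suzuki.uE h c₁ d₁ * Suzuki.dE h t)⁻¹ = Suzuki.uE h c₁ d₁ *
        (Suzuki.dE h t * Suzuki.uE h (θ a) (θ b) * (Suzuki.dE h t)⁻¹) * (Suzuki.uE h c₁ d₁)⁻¹ by group,
      Suzuki.dE_conj, Suzuki.uE_conj] at h1
    exact Suzuki.uE_inj h h1
  have hst : Suzuki.sg m (t : F) = 1 := by simpa using (hact' 1 0).1
  have ht : t = 1 := Suzuki.scale_eq_one_left h (one_ne_zero (α := F)) (by rw [hst, mul_one])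
  have hθ : ∀ a, θ a = a := fun a => by simpa [hst] using (hact' a 0).1
  subst ht
  have hα' : ∀ g, α g = Suzuki.uE h c₁ d₁ * g * (Suzuki.uE h c₁ d₁)⁻¹ := fun g => by
    have hid : θ = RingEquiv.refl F := RingEquiv.ext hθ
    rw [hc, map_one, mul_one]
    congr 1
    congr 1
    exact DFunLike.congr_fun (show Suzuki.fieldAut h θ = 1 by
      rw [hid]; exact MulEquiv.ext fun g => Subtype.ext (Subtype.ext (Matrix.ext fun i j => rfl))) g
  have hc₁ : c₁ = 0 := by
    have hm : (⟨Suzuki.uE h c₁ d₁, Suzuki.uE_mem h _ _⟩ : Suzuki.unip h) ∈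
        center (Suzuki.unip h) := mem_center_iff.2 fun u => Subtype.ext (by
      have := (hα' u).symm.trans (hfix u u.2)
      exact (mul_inv_eq_iff_eq_mul.1 this).symm)
    obtain ⟨b, hb⟩ := (Suzuki.mem_center_unip_iff h).1 hm
    exact (Suzuki.uE_inj h hb).1
  have hsq : α * α = 1 := MulEquiv.ext fun g => by
    rw [MulAut.mul_apply, hα', hα', MulAut.one_apply]
    have h2 : Suzuki.uE h c₁ d₁ * Suzuki.uE h c₁ d₁ = 1 := by
      rw [Suzuki.uE_sq, hc₁, mul_zero]; exact Suzuki.uE_zero h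
    calc Suzuki.uE h c₁ d₁ * (Suzuki.uE h c₁ d₁ * g * (Suzuki.uE h c₁ d₁)⁻¹) * (Suzuki.uE h c₁ d₁)⁻¹
        = (Suzuki.uE h c₁ d₁ * Suzuki.uE h c₁ d₁) * g * (Suzuki.uE h c₁ d₁ * Suzuki.uE h c₁ d₁)⁻¹ := by
          group
      _ = g := by rw [h2]; group
  obtain ⟨k, rfl⟩ := ho
  rwa [pow_succ, pow_mul, pow_two, hsq, one_pow, one_mul] at hα

end CfsgLib.PairSolv
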