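import Cfsg.Agent.PairSolv.Local
import Cfsg.Agent.PairSolv.TwoFacts
import Cfsg.Agent.Solvable.PGroupBasic
import Cfsg.Agent.S0215
import Cfsg.Agent.S0721
import Cfsg.Agent.S3214

/-!
# Pairs of involutions: the simple normal subgroup and the involutions of `P`
-/

set_option autoImplicit false
set_option linter.unusedSectionVars false
set_option linter.style.haveILetI false

namespace CfsgLib.PairSolv

open Subgroup CfsgLib.SectionCount

universe u

theorem solvable_of_complement {T : Type*} [Group T] [Finite T] [IsSimpleGroup T]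
    (h : Cfsg.HasNormalPComplement 2 T) : Group.IsSolvable T := by
  haveI : Fact (Nat.Prime 2) := ⟨Nat.prime_two⟩
  obtain ⟨S, M, hM, hMS⟩ := h
  rcases hM.eq_bot_or_eq_top with rfl | rfl
  · rw [isComplement'_bot_left] at hMS
    haveI := ((hMS ▸ S.2 : IsPGroup 2 (⊤ : Subgroup T)).of_equiv topEquiv).isNilpotent
    infer_instance
  · rw [isComplement'_top_left] at hMS
    refine OddEnd.odd_solvable T (Nat.not_even_iff_odd.1 fun he => S.not_dvd_index ?_)
    rw [hMS, index_bot]
    exact even_iff_two_dvd.1 he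

variable {G : Type u} [Group G] [Finite G]

theorem isPGroup_zpowers_of_pow_eq {q : ℕ} [Fact q.Prime] {x : G} {j : ℕ} (h : x ^ q ^ j = 1) :
    IsPGroup q (zpowers x) := by
  obtain ⟨i, -, hi⟩ := (Nat.dvd_prime_pow (Fact.out : q.Prime)).1 (orderOf_dvd_of_pow_eq_one h)
  exact IsPGroup.of_card (n := i) (by rw [Nat.card_zpowers, hi])

theorem mem_of_coprime_pows (C : Subgroup G) {x : G} {a b : ℕ} (hab : a.Coprime b) (ha : x ^ a ∈ C)
    (hb : x ^ b ∈ C) : x ∈ C := by
  have h : x = (x ^ a) ^ Nat.gcdA a b * (x ^ b) ^ Nat.gcdB a b := by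
    rw [← zpow_natCast, ← zpow_natCast, ← zpow_mul, ← zpow_mul, ← zpow_add, ← Nat.gcd_eq_gcd_ab,
      show Nat.gcd a b = 1 from hab, Nat.cast_one, zpow_one]
  rw [h]
  exact mul_mem (zpow_mem ha _) (zpow_mem hb _)

/-- A power of odd order still moves an element centralized by the Sylow subgroup. -/
theorem exists_odd_power [Fact (Nat.Prime 2)] (S : Sylow 2 G) {n z : G}
    (hn : n ∈ normalizer ((S : Subgroup G) : Set G)) (hz : ∀ s ∈ (S : Subgroup G), s * z = z * s)
    (hne : n * z ≠ z * n) : ∃ k : ℕ, ¬ 2 ∣ orderOf (n ^ k) ∧ n ^ k * z ≠ z * n ^ k := by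
  set o := orderOf n with ho
  have ho0 : o ≠ 0 := (orderOf_pos n).ne'
  set a := o.factorization 2
  have hd : 2 ^ a ∣ o := Nat.ordProj_dvd o 2
  refine ⟨2 ^ a, ?_, fun hc => ?_⟩
  · rw [orderOf_pow_of_dvd (by positivity) hd]
    exact Nat.not_dvd_ordCompl Nat.prime_two ho0
  · have hS : n ^ (o / 2 ^ a) ∈ (S : Subgroup G) := by
      have hQ : IsPGroup 2 (zpowers (n ^ (o / 2 ^ a))) := isPGroup_zpowers_of_pow_eq (j := a) (by
        rw [← pow_mul, Nat.div_mul_cancel hd, ho, pow_orderOf_eq_one])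
      have hmem : n ^ (o / 2 ^ a) ∈ zpowers (n ^ (o / 2 ^ a)) ⊓ normalizer ((S : Subgroup G) : Set G) :=
        ⟨mem_zpowers _, pow_mem hn _⟩
      exact ((SetLike.ext_iff.1 (hQ.inf_normalizer_sylow S) _).1 hmem).2
    refine hne ?_
    rw [← mem_centralizer_singleton_iff]
    exact mem_of_coprime_pows _ ((Nat.coprime_ordCompl Nat.prime_two ho0).pow_left a)
      (mem_centralizer_singleton_iff.2 hc) (mem_centralizer_singleton_iff.2 (hz _ hS))

/-- A power of prime power order outside a subgroup. -/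
theorem exists_primePow_power (C : Subgroup G) {k : G} (hk : k ∉ C) :
    ∃ (e q j : ℕ), q.Prime ∧ q ∣ orderOf k ∧ k ^ e ∉ C ∧ (k ^ e) ^ q ^ j = 1 := by
  suffices key : ∀ n : ℕ, ∀ x : G, orderOf x = n → x ∉ C →
      ∃ (e q j : ℕ), q.Prime ∧ q ∣ orderOf x ∧ x ^ e ∉ C ∧ (x ^ e) ^ q ^ j = 1 from key _ k rfl hk
  intro n
  induction n using Nat.recOnPosPrimePosCoprime with
  | prime_pow q j hq hj =>
    intro x hx hxC
    exact ⟨1, q, j, hq, hx ▸ dvd_pow_self q hj.ne', by rwa [pow_one],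
      by rw [pow_one, ← hx, pow_orderOf_eq_one]⟩
  | zero => exact fun x hx => absurd hx (orderOf_pos x).ne'
  | one => exact fun x hx hxC => absurd (by rw [orderOf_eq_one_iff.1 hx]; exact C.one_mem) hxC
  | coprime a b ha hb hab iha ihb =>
    intro x hx hxC
    have hstep : ∀ c d : ℕ, 0 < d → c * d = a * b → (∀ y : G, orderOf y = c → y ∉ C →
        ∃ (e q j : ℕ), q.Prime ∧ q ∣ orderOf y ∧ y ^ e ∉ C ∧ (y ^ e) ^ q ^ j = 1) → x ^ d ∉ C →
        ∃ (e q j : ℕ), q.Prime ∧ q ∣ orderOf x ∧ x ^ e ∉ C ∧ (x ^ e) ^ q ^ j = 1 := by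
      intro c d hd hcd ih hxd
      have hy : orderOf (x ^ d) = c := by
        rw [orderOf_pow_of_dvd hd.ne' ⟨c, by rw [hx, ← hcd, mul_comm]⟩, hx, ← hcd, Nat.mul_div_cancel _ hd]
      obtain ⟨e, q, j, hq, hqd, he, hej⟩ := ih _ hy hxd
      refine ⟨d * e, q, j, hq, ?_, by rwa [pow_mul], by rwa [pow_mul]⟩
      rw [hx, ← hcd]
      exact (hy ▸ hqd : q ∣ c).mul_right d
    by_cases h : x ^ b ∈ C
    · exact hstep b a (by omega) (mul_comm b a) ihb fun h' =>
        hxC (mem_of_coprime_pows C hab h' h)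
    · exact hstep a b (by omega) rfl iha h

namespace Hyp

variable [Fact (Nat.Prime 2)] {P : Sylow 2 G} (H : Hyp P)
include H

theorem cent_all {t : G} (ht : orderOf t = 2) :
    Cfsg.HasNormalPComplement 2 ↥(centralizer ({t} : Set G)) := by
  obtain ⟨c, hc⟩ := exists_conj_into P (Q := zpowers t)
    (IsPGroup.of_card (n := 1) (by rw [Nat.card_zpowers, ht, pow_one]))
  let f : centralizer ({t} : Set G) →* centralizer ({c * t * c⁻¹} : Set G) :=
    ((MulAut.conj c).toMonoidHom.comp (centralizer ({t} : Set G)).subtype).codRestrict _ fun x =>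
      mem_centralizer_singleton_iff.2 (by
        show c * (x : G) * c⁻¹ * (c * t * c⁻¹) = c * t * c⁻¹ * (c * x * c⁻¹)
        rw [show c * (x : G) * c⁻¹ * (c * t * c⁻¹) = c * ((x : G) * t) * c⁻¹ by group,
          mem_centralizer_singleton_iff.1 x.2]
        group)
  refine PResidual.hasNormalPComplement_of_injective f (fun x y h => Subtype.ext
    ((MulAut.conj c).injective (congrArg Subtype.val h))) (H.cent _ (hc t (mem_zpowers t)) ?_)
  rw [show c * t * c⁻¹ = (MulAut.conj c).toMonoidHom t from rfl,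
    orderOf_injective _ (MulAut.conj c).injective, ht]

theorem exists_simple : ∃ N : Subgroup G, N.Normal ∧ IsSimpleGroup N ∧ ¬ Group.IsSolvable N ∧
    centralizer (N : Set G) = ⊥ := by
  have htop : (⊤ : Subgroup G) ≠ ⊥ := fun h => H.ne_bot (le_bot_iff.1 (h ▸ le_top))
  obtain ⟨N, hN, hN1, -, hmin⟩ := Solvable.exists_minimal_normal_le htop
  haveI := hN
  obtain ⟨T, iT, m, hT, hm, ⟨e⟩⟩ := Cfsg.Agent.S0721.result N hN1 hmin
  haveI := hT
  haveI : Finite T := Finite.of_surjective (fun x => e x ⟨0, hm⟩) fun t =>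
    ⟨e.symm (fun _ => t), by simp⟩
  have hns : ¬ Group.IsSolvable T := by
    intro hs
    letI : CommGroup T := { iT with mul_comm := IsSimpleGroup.comm_iff_isSolvable.2 hs }
    have hq : (Nat.card T).Prime := IsSimpleGroup.prime_card
    haveI : Fact (Nat.card T).Prime := ⟨hq⟩
    have hcard : Nat.card N = Nat.card T ^ m := by
      rw [Nat.card_congr e.toEquiv, Nat.card_fun, Nat.card_fin]
    by_cases h2 : Nat.card T = 2
    · refine hN1 (le_bot_iff.1 ?_)
      rw [← H.pCore_eq_bot]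
      exact Solvable.le_pCore 2 hN (IsPGroup.of_card (n := m) (by rw [hcard, h2]))
    · refine hN1 (le_bot_iff.1 ?_)
      rw [← H.core_bot]
      exact Solvable.le_pPrimeCore 2 hN (by
        rw [hcard]; exact ((Nat.coprime_primes hq Nat.prime_two).2 h2).pow_left m)
  have hev : ∀ (X : Type) [Group X] [Finite X], ¬ Group.IsSolvable X → 2 ∣ Nat.card X := by
    intro X _ _ h
    by_contra h'
    exact h (OddEnd.odd_solvable X (Nat.not_even_iff_odd.1 fun he => h' (even_iff_two_dvd.1 he)))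
  have hm1 : m = 1 := by
    by_contra hne
    obtain ⟨t, ht⟩ := exists_prime_orderOf_dvd_card' 2 (hev T hns)
    let i₀ : Fin m := ⟨0, hm⟩
    let i₁ : Fin m := ⟨1, by omega⟩
    have hi : i₁ ≠ i₀ := fun h => by simpa [i₀, i₁] using congrArg Fin.val h
    let φ : T →* G := N.subtype.comp (e.symm.toMonoidHom.comp (MonoidHom.mulSingle (fun _ => T) i₁))
    have hφ : Function.Injective φ := fun x y h =>
      Pi.mulSingle_injective (M := fun _ : Fin m => T) i₁ (e.symm.injective (N.subtype_injective h))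
    set a : G := ((e.symm (Pi.mulSingle i₀ t) : N) : G) with ha
    have hao : orderOf a = 2 := by
      rw [ha, Subgroup.orderOf_coe, e.symm.orderOf_eq,
        show (Pi.mulSingle i₀ t : Fin m → T) = MonoidHom.mulSingle (fun _ => T) i₀ t from rfl,
        orderOf_injective (MonoidHom.mulSingle (fun _ : Fin m => T) i₀)
          (Pi.mulSingle_injective (M := fun _ : Fin m => T) i₀), ht]
    refine hns (solvable_of_complement (PResidual.hasNormalPComplement_of_injective
      (φ.codRestrict (centralizer ({a} : Set G)) fun x => mem_centralizer_singleton_iff.2 ?_)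
      (fun x y h => by have h' := congrArg Subtype.val h; exact hφ h') (H.cent_all hao)))
    have hc := congrArg (fun w => (e.symm w : G))
      (Pi.mulSingle_commute (f := fun _ : Fin m => T) hi x t).eq
    simpa [φ, ha] using hc
  subst hm1
  haveI : Nontrivial N := (nontrivial_iff_ne_bot N).2 hN1
  have hbij : Function.Bijective ((Pi.evalMonoidHom (fun _ : Fin 1 => T) 0).comp e.toMonoidHom) := by
    refine ⟨fun x y h => e.injective (funext fun i => ?_), fun t => ⟨e.symm fun _ => t, ?_⟩⟩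
    · rw [Subsingleton.elim i 0]; exact h
    · simp
  set e₁ : N ≃* T := MulEquiv.ofBijective _ hbij
  haveI hsN : IsSimpleGroup N := IsSimpleGroup.isSimpleGroup_of_surjective e₁.symm.toMonoidHom
    e₁.symm.surjective
  have hnsN : ¬ Group.IsSolvable N := fun h => hns (Group.isSolvable_of_surjective (f := e₁.toMonoidHom)
    e₁.surjective)
  refine ⟨N, hN, hsN, hnsN, ?_⟩
  haveI hC : (centralizer (N : Set G)).Normal := Subgroup.normal_centralizer
  rw [← le_bot_iff, ← H.core_bot]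
  refine Solvable.le_pPrimeCore 2 hC (Nat.coprime_comm.1 ((Nat.prime_two.coprime_iff_not_dvd).2 ?_))
  intro hd
  obtain ⟨c, hc⟩ := exists_prime_orderOf_dvd_card' 2 hd
  have hNc : N ≤ centralizer ({(c : G)} : Set G) := fun x hx =>
    mem_centralizer_singleton_iff.2 (mem_centralizer_iff.1 c.2 x hx)
  exact hnsN (solvable_of_complement (PResidual.hasNormalPComplement_of_injective
    (inclusion hNc) (inclusion_injective _) (H.cent_all (by rw [Subgroup.orderOf_coe, hc]))))

/-- The simple normal subgroup, and the involutions of `P` inside it. -/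
theorem exists_data : ∃ N : Subgroup G, N.Normal ∧ centralizer (N : Set G) = ⊥ ∧ TwoShape N ∧
    (∀ a ∈ (P : Subgroup G), a ∈ N → a * a = 1 → ∀ v ∈ (P : Subgroup G), v * a = a * v) ∧
    ∃ a ∈ (P : Subgroup G), ∃ b ∈ (P : Subgroup G), a ∈ N ∧ b ∈ N ∧ a * a = 1 ∧ b * b = 1 ∧
      a ≠ 1 ∧ b ≠ 1 ∧ a ≠ b := by
  obtain ⟨N, hN, hsN, hns, hC⟩ := H.exists_simple
  haveI := hN
  haveI := hsN
  have hcomm : ¬ IsMulCommutative N := fun h =>
    hns (IsSimpleGroup.comm_iff_isSolvable.1 fun a b => h.1.1 a b)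
  have hI : ∀ t : N, orderOf t = 2 → Cfsg.HasNormalPComplement 2 ↥(centralizer ({t} : Set N)) := by
    intro t ht
    refine PResidual.hasNormalPComplement_of_injective
      ((N.subtype.comp (centralizer ({t} : Set N)).subtype).codRestrict (centralizer ({(t : G)} : Set G))
        fun x => mem_centralizer_singleton_iff.2 (congrArg Subtype.val (mem_centralizer_singleton_iff.1 x.2)))
      (fun x y h => by have h' := congrArg Subtype.val h; exact Subtype.ext (Subtype.ext h'))
      (H.cent_all (by rw [Subgroup.orderOf_coe, ht]))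
  have hshape : TwoShape N := by
    rcases Cfsg.Agent.S3214.result hcomm hI with ⟨F, iF, iFt, -, ⟨e⟩⟩ | h | ⟨⟨e⟩⟩ | ⟨F, iF, iFt, h4, ⟨e⟩⟩
    · exact twoShape_pslTwo e
    · exact twoShape_suzuki h
    · exact twoShape_alt7 e
    · exact twoShape_pslThree h4 e
  -- an involution of `N` central in `P`
  obtain ⟨t, ht⟩ : ∃ t : N, orderOf t = 2 := exists_prime_orderOf_dvd_card' 2 (by
    by_contra h'
    exact hns (OddEnd.odd_solvable _ (Nat.not_even_iff_odd.1 fun he => h' (even_iff_two_dvd.1 he))))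
  obtain ⟨c, hc⟩ := exists_conj_into P (Q := zpowers (t : G))
    (IsPGroup.of_card (n := 1) (by rw [Nat.card_zpowers, Subgroup.orderOf_coe, ht, pow_one]))
  haveI := P.2.isNilpotent
  have hne : N.subgroupOf (P : Subgroup G) ≠ ⊥ := by
    intro h
    have hm : (⟨c * t * c⁻¹, hc _ (mem_zpowers _)⟩ : (P : Subgroup G)) ∈ N.subgroupOf (P : Subgroup G) :=
      mem_subgroupOf.2 (hN.conj_mem _ t.2 c)
    rw [h, mem_bot] at hm
    have h1 : (t : G) = 1 := conj_eq_one_iff.1 (congrArg Subtype.val hm)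
    rw [Subtype.ext_iff.2 (h1.trans N.coe_one.symm), orderOf_one] at ht
    omega
  obtain ⟨u, hu, hu1⟩ : ∃ u ∈ N.subgroupOf (P : Subgroup G) ⊓ center (P : Subgroup G), u ≠ 1 := by
    by_contra h
    push Not at h
    exact PGroupBasic.inf_center_ne_bot _ hne ((eq_bot_iff_forall _).2 h)
  have huQ : (u : G) ∈ ((P : Subgroup G) ⊓ N) ⊓ centralizer ((P : Subgroup G) : Set G) :=
    ⟨⟨u.2, mem_subgroupOf.1 hu.1⟩, mem_centralizer_iff.2 fun v hv =>
      congrArg Subtype.val (mem_center_iff.1 hu.2 ⟨v, hv⟩)⟩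
  obtain ⟨z, hz, hzo, -⟩ := exists_order_p (p := 2) (P.2.to_le (inf_le_left.trans inf_le_left)) huQ
    fun h => hu1 (Subtype.ext h)
  obtain ⟨⟨hzP, hzN⟩, hzc⟩ := hz
  have hzc' : ∀ v ∈ (P : Subgroup G), v * z = z * v := fun v hv => mem_centralizer_iff.1 hzc v hv
  have hcen : ∀ a ∈ (P : Subgroup G), a ∈ N → a * a = 1 → ∀ v ∈ (P : Subgroup G), v * a = a * v := by
    intro a haP haN ha v hv
    by_cases ha1 : a = 1
    · rw [ha1, mul_one, one_mul]
    obtain ⟨g, hg⟩ := isConj_iff.1 (hshape.1 ⟨z, hzN⟩ ⟨a, haN⟩ (by rw [Subgroup.orderOf_mk, hzo])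
      (by rw [Subgroup.orderOf_mk]; exact orderOf_eq_two ha ha1))
    have hg' : (g : G) * z * (g : G)⁻¹ = a := congrArg Subtype.val hg
    rw [← hg']
    exact H.central_of_conj hzP hzc' (by rw [hg']; exact haP) v hv
  refine ⟨N, hN, hC, hshape, hcen, ?_⟩
  obtain ⟨g, hgP, hgz⟩ : ∃ g : G, g * z * g⁻¹ ∈ (P : Subgroup G) ∧ g * z * g⁻¹ ≠ z := by
    by_contra hall
    push Not at hall
    obtain ⟨M, hM, hMo, hMc⟩ := Cfsg.Agent.S0215.result P z hzo hzP hall
    have hM1 : M = ⊥ := le_bot_iff.1 (H.core_bot ▸ Solvable.le_pPrimeCore 2 hM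
      (Nat.coprime_two_right.2 hMo))
    have hcz : z ∈ center G := mem_center_iff.2 fun g => by
      have := hMc g
      rw [hM1, mem_bot] at this
      calc g * z = (z * g * z⁻¹ * g⁻¹) * (g * z) := by rw [this, one_mul]
        _ = z * g := by group
    haveI : (zpowers z).Normal := ⟨fun x hx g => by
      have hxc : x ∈ center G := (zpowers_le.2 hcz) hx
      rwa [mem_center_iff.1 hxc g, mul_inv_cancel_right]⟩
    have hle : zpowers z ≤ Cfsg.pCore 2 G := Solvable.le_pCore 2 inferInstance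
      (IsPGroup.of_card (n := 1) (by rw [Nat.card_zpowers, hzo, pow_one]))
    rw [H.pCore_eq_bot, le_bot_iff, zpowers_eq_bot] at hle
    exact ne_one_of_orderOf hzo hle
  obtain ⟨hz2, hz1⟩ := sq_of_orderOf hzo
  refine ⟨z, hzP, g * z * g⁻¹, hgP, hzN, hN.conj_mem _ hzN g, hz2, ?_, hz1, ?_, fun h => hgz h.symm⟩
  · calc g * z * g⁻¹ * (g * z * g⁻¹) = g * (z * z) * g⁻¹ := by group
      _ = 1 := by rw [hz2]; group
  · exact fun h => hz1 (conj_eq_one_iff.1 h)

end Hyp

end CfsgLib.PairSolv
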