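import Cfsg.Agent.PairSolv.Singular
import Cfsg.Agent.PairSolv.Pair
import Cfsg.Agent.Char.ClassPairAverage
import Cfsg.Agent.Blocks.Correspond

/-!
# The principal block at the elements of `P`
-/

set_option autoImplicit false
set_option linter.unusedSectionVars false
set_option linter.style.haveILetI false

namespace CfsgLib.PairSolv

open Finset CfsgLib.Block CfsgLib.Block.Chr CfsgLib.Char CfsgLib.SectionCount
open scoped ComplexConjugate
open scoped Classical

universe u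

variable {G : Type u} [Group G] [Fintype G] {p : ℕ} [Fact p.Prime] {P : Sylow p G}
  {M : Ideal Cfsg.AlgInt} [M.IsPrime]

/-- The principal block as a finite set. -/
noncomputable abbrev B0 (G : Type u) [Group G] [Fintype G] [Fintype (Cfsg.IrrCharacter G)]
    (M : Ideal Cfsg.AlgInt) : Finset (Cfsg.IrrCharacter G) :=
  univ.filter (· ∈ Cfsg.principalBlock M G)

/-- A character constant on the nonidentity elements of a subgroup has a rational integer value. -/
theorem const_value (Q : Subgroup G) {x : G} (hx : x ∈ Q) (hx1 : x ≠ 1) (χ : Cfsg.IrrCharacter G)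
    (hcl : ∀ y ∈ Q, y ≠ 1 → (χ : G → ℂ) y = (χ : G → ℂ) x) :
    ∃ d : ℤ, (χ : G → ℂ) x = d ∧ (Nat.card Q : ℤ) ∣ (Cfsg.charDegree (χ : G → ℂ) : ℤ) - d := by
  haveI : Fintype Q := Fintype.ofFinite _
  obtain ⟨a, ha⟩ := IsCharacter.exists_classInner_eq_natCast'
    (IsCharacter.restrict (isCharacter_irr χ) Q) (isCharacter_one (G := Q))
  rw [Cfsg.classInner] at ha
  simp only [map_one, mul_one] at ha
  have hsum : ∑ u : Q, (χ : G → ℂ) u =
      (χ : G → ℂ) 1 + ((Nat.card Q : ℂ) - 1) * (χ : G → ℂ) x := by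
    rw [← Finset.add_sum_erase _ _ (mem_univ (1 : Q)), OneMemClass.coe_one]
    congr 1
    rw [Finset.sum_congr rfl fun (u : Q) hu => hcl u u.2 fun h => (mem_erase.1 hu).1 (Subtype.ext h),
      sum_const, card_erase_of_mem (mem_univ _), nsmul_eq_mul, card_univ,
      ← Nat.card_eq_fintype_card, Nat.cast_sub Nat.card_pos, Nat.cast_one]
  rw [show ∑ u : Q, (χ : G → ℂ) (u : G) = (χ : G → ℂ) 1 + ((Nat.card Q : ℂ) - 1) * (χ : G → ℂ) x
    from hsum, inv_mul_eq_iff_eq_mul₀ (Nat.cast_ne_zero.2 Nat.card_pos.ne'), (irr_one χ).1] at ha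
  haveI : Nontrivial Q := ⟨⟨⟨x, hx⟩, 1, fun h => hx1 (congrArg Subtype.val h)⟩⟩
  have hq1 : (Nat.card Q : ℂ) - 1 ≠ 0 := sub_ne_zero.2 (by
    exact_mod_cast (Finite.one_lt_card (α := Q)).ne')
  let r : ℚ := ((Nat.card Q : ℚ) * a - Cfsg.charDegree (χ : G → ℂ)) / ((Nat.card Q : ℚ) - 1)
  have hr : algebraMap ℚ ℂ r = (χ : G → ℂ) x := by
    rw [eq_ratCast]
    push_cast [r]
    rw [div_eq_iff hq1]
    linear_combination -ha
  obtain ⟨d, hd⟩ := IsIntegrallyClosed.isIntegral_iff.1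
    ((isIntegral_algebraMap_iff (algebraMap ℚ ℂ).injective).1
      (hr ▸ IsCharacter.isIntegral (isCharacter_irr χ) x))
  have hd' : (χ : G → ℂ) x = d := by rw [← hr, ← hd]; simp
  refine ⟨d, hd', (a : ℤ) - d, ?_⟩
  rw [hd'] at ha
  have h2 : (((Cfsg.charDegree (χ : G → ℂ) : ℤ) - d : ℤ) : ℂ) =
      (((Nat.card Q : ℤ) * ((a : ℤ) - d) : ℤ) : ℂ) := by
    push_cast
    linear_combination ha
  exact_mod_cast h2

namespace Hyp

variable (H : Hyp P) (hM : Cfsg.IsPModular p M)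
include H hM

/-- A member of the principal block is constant on a section. -/
theorem apply_section {χ : Cfsg.IrrCharacter G} (hχ : χ ∈ Cfsg.principalBlock M G) {u g : G}
    (hu : u ∈ (P : Subgroup G)) (hg : g ∈ section' p u) : (χ : G → ℂ) g = (χ : G → ℂ) u := by
  obtain ⟨k, hk⟩ := exists_orderOf_eq hu
  obtain ⟨c, v, hv, rfl⟩ := hg
  rw [isClassFunction_irr χ (u * (v : G)) c]
  exact principal_apply_mul_core hM hk (v := (v : G)) ⟨v, hv, rfl⟩ hχ

theorem apply_pPart {χ : Cfsg.IrrCharacter G} (hχ : χ ∈ Cfsg.principalBlock M G) {g t w : G}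
    (hg : Cfsg.IsPPart p g t) (htw : IsConj t w) (hw : w ∈ (P : Subgroup G)) (hw1 : w ≠ 1) :
    (χ : G → ℂ) g = (χ : G → ℂ) w := by
  obtain ⟨y, hty, hcom, -, hy⟩ := hg
  obtain ⟨c, rfl⟩ := isConj_iff.1 htw
  exact H.apply_section hM hχ hw (H.mem_section hty hcom hy hw hw1)

variable [Fintype (Cfsg.IrrCharacter G)]

/-- The average over a section. -/
theorem avg_section (χ : Cfsg.IrrCharacter G) {u : ↥(P : Subgroup G)} (hu : u ≠ 1) :
    (Nat.card (core p (u : G)) : ℂ)⁻¹ * ∑ᶠ v : core p (u : G),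
        (χ : G → ℂ) ((u : G) * ((v : Subgroup.centralizer ({(u : G)} : Set G)) : G)) =
      if χ ∈ Cfsg.principalBlock M G then (χ : G → ℂ) u else 0 := by
  obtain ⟨k, hk⟩ := exists_orderOf_eq u.2
  obtain ⟨a, ha⟩ := H.exists_pow_index u.2 (fun h => hu (Subtype.ext h))
  change _ * T p (u : G) χ = _
  split_ifs with hχ
  · rw [T_principal hM hk hχ, ← mul_assoc, inv_mul_cancel₀ (Nat.cast_ne_zero.2 Nat.card_pos.ne'), one_mul]
  · rw [T_eq_zero hM hk ha hχ, mul_zero]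

/-- The inner product with a function on the singular elements. -/
theorem inner_ext_irr {F : ↥(P : Subgroup G) → ℂ} (hF : Inv P F) (χ : Cfsg.IrrCharacter G) :
    (Nat.card (NQ P) : ℂ) * Cfsg.classInner (ext P F) (χ : G → ℂ) =
      if χ ∈ Cfsg.principalBlock M G then ∑ u ∈ sharp P, F u * conj ((χ : G → ℂ) u) else 0 := by
  rw [H.inner_ext hF (isClassFunction_irr χ), sum_congr rfl fun u hu => by
    rw [H.avg_section hM χ (mem_erase.1 hu).1]]
  split_ifs with hχ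
  · rfl
  · simp

theorem gram {u : G} (hu : u ∈ (P : Subgroup G)) (hu1 : u ≠ 1) :
    ∑ χ ∈ B0 G M, (χ : G → ℂ) u * conj ((χ : G → ℂ) u) =
      (Nat.card ↥((P : Subgroup G) ⊓ Subgroup.centralizer ({u} : Set G)) : ℂ) := by
  obtain ⟨k, hk⟩ := exists_orderOf_eq hu
  obtain ⟨a, ha⟩ := H.exists_pow_index hu hu1
  rw [sum_sq_principal hM hk ha, ← ha, H.index_core hu hu1]

theorem gram_central {x : G} (hx : x ∈ (P : Subgroup G)) (hx1 : x ≠ 1)
    (hxc : ∀ v ∈ (P : Subgroup G), v * x = x * v) :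
    ∑ χ ∈ B0 G M, (χ : G → ℂ) x * conj ((χ : G → ℂ) x) = (Nat.card (P : Subgroup G) : ℂ) := by
  rw [H.gram hM hx hx1, inf_eq_left.2 (mem_center_of_commute hxc)]

theorem orth_one {u : G} (hu : u ∈ (P : Subgroup G)) (hu1 : u ≠ 1) :
    ∑ χ ∈ B0 G M, (χ : G → ℂ) 1 * conj ((χ : G → ℂ) u) = 0 := by
  obtain ⟨k, hk⟩ := exists_orderOf_eq hu
  obtain ⟨a, ha⟩ := H.exists_pow_index hu hu1
  exact sum_degree_mul hM hk hu1 ha

theorem apply_ne_zero {χ : Cfsg.IrrCharacter G} (hχ : χ ∈ Cfsg.principalBlock M G)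
    {x : G} (hx : x ∈ (P : Subgroup G)) (hxc : ∀ v ∈ (P : Subgroup G), v * x = x * v) :
    (χ : G → ℂ) x ≠ 0 := by
  refine irr_apply_ne_zero_of_centralChar (M := M) fun h => ?_
  have h1 := sameBlock_symm (show Cfsg.SameBlock M (fun _ => (1 : ℂ)) (χ : G → ℂ) from hχ) x
  have h2 : Cfsg.MemLocalIdeal M (Cfsg.centralChar (fun _ : G => (1 : ℂ)) x) := by
    have := memLocalIdeal_sub h h1
    rwa [sub_sub_cancel] at this
  simp only [Cfsg.centralChar, mul_one, div_one] at h2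
  exact P.not_dvd_index (((memLocalIdeal_natCast_iff hM).1 h2).trans
    (Subgroup.index_dvd_of_le (mem_center_of_commute hxc)))

/-- The main step: a character constant on the possible products takes its degree there. -/
theorem apply_eq_degree {χ : Cfsg.IrrCharacter G} (hχ : χ ∈ Cfsg.principalBlock M G)
    {x y : G} (hx : x ∈ (P : Subgroup G)) (hxo : orderOf x = p)
    (hxc : ∀ v ∈ (P : Subgroup G), v * x = x * v) (hyo : orderOf y = p)
    (hxy : (χ : G → ℂ) y = (χ : G → ℂ) x)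
    (hne : ∀ π ∈ (P : Subgroup G), IsConj y π → x * π ≠ 1)
    (hval : ∀ π ∈ (P : Subgroup G), IsConj y π → (χ : G → ℂ) (x * π) = (χ : G → ℂ) x) :
    (χ : G → ℂ) x = (χ : G → ℂ) 1 := by
  have hconst : ∀ a b : G, (χ : G → ℂ) (a * x * a⁻¹ * (b * y * b⁻¹)) = (χ : G → ℂ) x := by
    intro a b
    have hb : orderOf (a⁻¹ * b * y * (a⁻¹ * b)⁻¹) = p := by
      rw [← hyo]; exact orderOf_injective (MulAut.conj (a⁻¹ * b)).toMonoidHom (MulAut.conj _).injective y
    obtain ⟨π, hπ, hyπ, -, -, t, ht, htπ⟩ := H.pair hx hxo hxc hb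
    have hyπ' : IsConj y π := (isConj_iff.2 ⟨a⁻¹ * b, rfl⟩).trans hyπ
    rw [show a * x * a⁻¹ * (b * y * b⁻¹) = a * (x * (a⁻¹ * b * y * (a⁻¹ * b)⁻¹)) * a⁻¹ by group,
      isClassFunction_irr χ, H.apply_pPart hM hχ ht htπ (mul_mem hx hπ) (hne π hπ hyπ'), hval π hπ hyπ']
  have h := mul_eq_of_const χ.2 x y hconst
  rw [hxy] at h
  exact (mul_right_cancel₀ (H.apply_ne_zero hM hχ hx hxc) h).symm

end Hyp

end CfsgLib.PairSolv
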